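import Groth.Agent.SemilocalEssLib.App
import Groth.Agent.EssEtFracLib.Main
import Groth.Agent.BranchLib.NormRedFin
import Mathlib

/-! Fractions of subalgebras of essentially etale local algebras. -/

set_option autoImplicit false

universe u

open scoped nonZeroDivisors

namespace SHSubLib

variable {A E : Type u} [CommRing A] [IsLocalRing A] [IsReduced A] [CommRing E] [Algebra A E]

/-- The fractions of a subalgebra form a subalgebra over the total ring of fractions of the base. -/
theorem exists_fracSub (hmin : (minimalPrimes A).Finite) (hE : EGA4loc.IsEssentiallyEtale A E)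
    (D : Subalgebra A E) :
    letI := EssEtFracLib.fracAlgebra hE
    ∃ L : Subalgebra (FractionRing A) (FractionRing E),
      (∀ x, x ∈ L ↔ ∃ a ∈ A⁰, ∃ d ∈ D, algebraMap A (FractionRing E) a * x = algebraMap E (FractionRing E) d) ∧
        Module.Finite (FractionRing A) L ∧ IsReduced L ∧ IsArtinianRing L := by
  let := EssEtFracLib.fracAlgebra hE
  have := EssEtFracLib.fracTower hE
  obtain ⟨-, hart, hfinK⟩ := EssEtFracLib.main_frac hmin hE
  haveI := hfinK
  haveI : IsArtinianRing (FractionRing A) := (BranchLib.fractionRing_data A hmin).1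
  haveI := SemilocalEssLib.isReduced_of_essEt hE
  haveI : IsReduced (FractionRing E) :=
    isReduced_localizationPreserves E⁰ (FractionRing E) ‹IsReduced E›
  let K := FractionRing E
  let j := algebraMap E K
  let L : Subalgebra (FractionRing A) K :=
    { carrier := {x | ∃ a ∈ A⁰, ∃ d ∈ D, algebraMap A K a * x = j d}
      mul_mem' := by
        rintro x y ⟨a, ha, d, hd, hx⟩ ⟨b, hb, e, he, hy⟩
        exact ⟨a * b, A⁰.mul_mem ha hb, d * e, D.mul_mem hd he, by rw [map_mul, map_mul, ← hx, ← hy]; ring⟩
      add_mem' := by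
        rintro x y ⟨a, ha, d, hd, hx⟩ ⟨b, hb, e, he, hy⟩
        refine ⟨a * b, A⁰.mul_mem ha hb, algebraMap A E b * d + algebraMap A E a * e,
          D.add_mem (D.mul_mem (D.algebraMap_mem b) hd) (D.mul_mem (D.algebraMap_mem a) he), ?_⟩
        rw [map_mul, map_add, map_mul, map_mul, ← hx, ← hy, ← IsScalarTower.algebraMap_apply A E K,
          ← IsScalarTower.algebraMap_apply A E K]
        ring
      algebraMap_mem' := fun c => by
        obtain ⟨b, a, rfl⟩ := IsLocalization.exists_mk'_eq A⁰ c
        refine ⟨a, a.2, algebraMap A E b, D.algebraMap_mem b, ?_⟩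
        rw [IsScalarTower.algebraMap_apply A (FractionRing A) K, ← map_mul, mul_comm, IsLocalization.mk'_spec,
          ← IsScalarTower.algebraMap_apply A (FractionRing A) K, ← IsScalarTower.algebraMap_apply A E K] }
  haveI : IsNoetherian (FractionRing A) K := isNoetherian_of_isNoetherianRing_of_finite _ _
  haveI : Module.Finite (FractionRing A) L :=
    Module.Finite.of_injective L.val.toLinearMap Subtype.val_injective
  exact ⟨L, fun _ => Iff.rfl, inferInstance, isReduced_of_injective L.val Subtype.val_injective,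
    IsArtinianRing.of_finite (FractionRing A) L⟩

/-- A non-zero-divisor of a subalgebra divides a non-zero-divisor of the base. -/
theorem exists_mul_eq_algebraMap (hmin : (minimalPrimes A).Finite) (hE : EGA4loc.IsEssentiallyEtale A E)
    (D : Subalgebra A E) {d : E} (hd : d ∈ D) (hnzd : ∀ x ∈ D, d * x = 0 → x = 0) :
    ∃ d' ∈ D, ∃ a ∈ A⁰, d * d' = algebraMap A E a := by
  let := EssEtFracLib.fracAlgebra hE
  obtain ⟨L, hL, -, hred, hart⟩ := exists_fracSub hmin hE D
  haveI := hred
  haveI := hart
  obtain ⟨z, hz⟩ := SemilocalEssLib.exists_regular (⟨algebraMap E (FractionRing E) d,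
    (hL _).2 ⟨1, A⁰.one_mem, d, hd, by rw [map_one, one_mul]⟩⟩ : L)
  obtain ⟨a, ha, d', hd', hz'⟩ := (hL _).1 z.2
  refine ⟨d', hd', a, ha, sub_eq_zero.1 (hnzd _ (D.sub_mem (D.mul_mem hd hd') (D.algebraMap_mem a)) ?_)⟩
  apply IsFractionRing.injective E (FractionRing E)
  rw [map_mul, map_sub, map_mul, ← hz', ← IsScalarTower.algebraMap_apply, map_zero]
  have h : algebraMap E (FractionRing E) d * z * algebraMap E (FractionRing E) d = algebraMap E (FractionRing E) d :=
    congrArg Subtype.val hz
  linear_combination algebraMap A (FractionRing E) a * h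

/-- Finitely many elements of a subalgebra span it up to non-zero-divisors of the base. -/
theorem exists_finset_span (hmin : (minimalPrimes A).Finite) (hE : EGA4loc.IsEssentiallyEtale A E)
    (D : Subalgebra A E) : ∃ t : Finset E, (t : Set E) ⊆ D ∧
      ∀ d ∈ D, ∃ a ∈ A⁰, algebraMap A E a * d ∈ Submodule.span A (t : Set E) := by
  classical
  let := EssEtFracLib.fracAlgebra hE
  have := EssEtFracLib.fracTower hE
  obtain ⟨L, hL, hfin, -, -⟩ := exists_fracSub hmin hE D
  obtain ⟨g, hg⟩ := hfin.fg_top
  choose a ha d hd had using fun x : L => (hL x).1 x.2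
  refine ⟨g.image d, fun y hy => ?_, fun x hx => ?_⟩
  · obtain ⟨z, -, rfl⟩ := Finset.mem_image.1 hy
    exact hd z
  let xL : L := ⟨algebraMap E (FractionRing E) x, (hL _).2 ⟨1, A⁰.one_mem, x, hx, by rw [map_one, one_mul]⟩⟩
  have hmem : xL ∈ Submodule.span (FractionRing A) (g : Set L) := hg ▸ Submodule.mem_top
  obtain ⟨c, -, hc⟩ := Submodule.mem_span_finset.1 hmem
  let u : L → FractionRing A := fun i => c i * IsLocalization.mk' (FractionRing A) 1 (⟨a i, ha i⟩ : A⁰)
  obtain ⟨s, hs⟩ := IsLocalization.exist_integer_multiples A⁰ g u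
  refine ⟨s, s.2, ?_⟩
  choose b hb using hs
  have key : algebraMap A E s * x = ∑ i ∈ g.attach, b i.1 i.2 • d i.1 := by
    apply IsFractionRing.injective E (FractionRing E)
    rw [map_mul, map_sum, ← IsScalarTower.algebraMap_apply]
    have hc' := congrArg L.val hc
    rw [map_sum] at hc'
    change ∑ i ∈ g, L.val (c i • i) = algebraMap E (FractionRing E) x at hc'
    rw [← hc', ← Finset.sum_attach, Finset.mul_sum]
    refine Finset.sum_congr rfl fun i _ => ?_
    have h1 : algebraMap E (FractionRing E) (d i.1) = algebraMap A (FractionRing E) (a i.1) * L.val i.1 :=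
      (had i.1).symm
    have hb' : algebraMap A (FractionRing A) (b i.1 i.2) = algebraMap A (FractionRing A) s *
        (c i.1 * IsLocalization.mk' (FractionRing A) 1 (⟨a i.1, ha i.1⟩ : A⁰)) :=
      (hb i.1 i.2).trans (Algebra.smul_def _ _)
    have hm : algebraMap A (FractionRing A) (a i.1) * IsLocalization.mk' (FractionRing A) 1 (⟨a i.1, ha i.1⟩ : A⁰) = 1 :=
      (IsLocalization.mk'_spec' (FractionRing A) (1 : A) (⟨a i.1, ha i.1⟩ : A⁰)).trans (map_one _)
    have h2 : algebraMap E (FractionRing E) (b i.1 i.2 • d i.1) =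
        algebraMap (FractionRing A) (FractionRing E) (algebraMap A (FractionRing A) (b i.1 i.2) *
          algebraMap A (FractionRing A) (a i.1)) * L.val i.1 := by
      rw [Algebra.smul_def, map_mul, ← IsScalarTower.algebraMap_apply, h1, map_mul,
        ← IsScalarTower.algebraMap_apply, ← IsScalarTower.algebraMap_apply, mul_assoc]
    have h3 : L.val (c i.1 • i.1) = algebraMap (FractionRing A) (FractionRing E) (c i.1) * L.val i.1 := by
      rw [map_smul, Algebra.smul_def]
    rw [h2, h3, ← mul_assoc, IsScalarTower.algebraMap_apply A (FractionRing A) (FractionRing E) (s : A), ← map_mul]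
    congr 2
    rw [hb']
    linear_combination (-(algebraMap A (FractionRing A) s * c i.1)) * hm
  rw [key]
  exact Submodule.sum_mem _ fun i _ => Submodule.smul_mem _ _
    (Submodule.subset_span (Finset.mem_image_of_mem d i.2))

end SHSubLib
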