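import Groth.Prelude.Def_Hensel
import Groth.Agent.SHSubLib.Frac
import Groth.Agent.SemilocalNormLib.Artinian
import Groth.Agent.HenselLib.LocalCover
import Groth.Agent.HenselLib.HenselizationExists
import Groth.Agent.S0539
import Groth.Agent.S0390
import Mathlib

/-! Intermediate algebras of a strict henselization and essentially etale subalgebras. -/

set_option autoImplicit false

universe u

open IsLocalRing
open scoped nonZeroDivisors TensorProduct

namespace SHSubLib

variable (A S : Type u) [CommRing A] [IsLocalRing A] [CommRing S] [IsLocalRing S] [Algebra A S]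
  [IsLocalHom (algebraMap A S)] [Hensel.IsStrictHenselization A S]

/-- Finitely many elements of a strict henselization lie in an essentially etale local subalgebra. -/
theorem exists_essEt_ge (s : Finset S) :
    ∃ E : Subalgebra A S, (s : Set S) ⊆ E ∧ ∃ _ : IsLocalRing E, IsLocalHom (algebraMap E S) ∧
      EGA4loc.IsEssentiallyEtale A E ∧ Module.FaithfullyFlat E S := by
  haveI : Module.FaithfullyFlat A S := Groth.Agent.S0539.result A S
  obtain ⟨e⟩ := HenselLib.nonempty_algEquiv_SH (R := A) S
  have hcov := HenselLib.etCov_of_algEquiv e (HenselLib.etCov_hens _)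
  obtain ⟨U, _, _, hU, q, hq, ψ, hloc, hflat, hmem⟩ := HenselLib.exists_local_cover hcov s
  letI : Algebra (Localization.AtPrime q) S := (ψ : Localization.AtPrime q →+* S).toAlgebra
  haveI : Module.Flat (Localization.AtPrime q) S := hflat
  haveI : IsLocalHom (algebraMap (Localization.AtPrime q) S) := hloc
  haveI : Module.FaithfullyFlat (Localization.AtPrime q) S := Module.FaithfullyFlat.of_flat_of_isLocalHom
  have hinj : Function.Injective ψ := FaithfulSMul.algebraMap_injective (Localization.AtPrime q) S
  let f : Localization.AtPrime q ≃ₐ[A] ψ.range := AlgEquiv.ofInjective ψ hinj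
  haveI : IsLocalRing ψ.range := RingEquiv.isLocalRing f.toRingEquiv
  haveI hlocal : IsLocalHom (algebraMap ψ.range S) := ⟨fun y hy => by
    obtain ⟨b, rfl⟩ := f.surjective y
    exact (hloc.map_nonunit b hy).map f⟩
  have hff : Module.Flat ψ.range S := by
    have h : (((algebraMap (Localization.AtPrime q) S).comp f.symm.toRingEquiv.toRingHom)).Flat :=
      (RingHom.Flat.of_bijective f.symm.bijective).comp hflat
    have heq : algebraMap ψ.range S =
        (algebraMap (Localization.AtPrime q) S).comp f.symm.toRingEquiv.toRingHom := by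
      refine RingHom.ext fun y => ?_
      obtain ⟨b, rfl⟩ := f.surjective y
      change _ = ψ (f.symm (f b))
      rw [f.symm_apply_apply]
      rfl
    rw [← heq] at h
    exact RingHom.flat_algebraMap_iff.1 h
  haveI := hff
  refine ⟨ψ.range, fun x hx => hmem x hx, inferInstance, hlocal,
    ⟨U, inferInstance, inferInstance, q, hq, hU, ?_, ⟨f.symm⟩⟩, Module.FaithfullyFlat.of_flat_of_isLocalHom⟩
  have h0 : (maximalIdeal S).comap (algebraMap A S) = maximalIdeal A :=
    ((IsLocalRing.local_hom_TFAE (algebraMap A S)).out 0 4).1 ‹IsLocalHom (algebraMap A S)›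
  have h1 : maximalIdeal A = (maximalIdeal S).comap (algebraMap A S) := h0.symm
  have h2 : (maximalIdeal S).comap (ψ : Localization.AtPrime q →+* S) = maximalIdeal (Localization.AtPrime q) :=
    ((IsLocalRing.local_hom_TFAE (ψ : Localization.AtPrime q →+* S)).out 0 4).1 hloc
  rw [h1, show algebraMap A S = (ψ : Localization.AtPrime q →+* S).comp (algebraMap A (Localization.AtPrime q)) from
      (ψ.comp_algebraMap).symm, ← Ideal.comap_comap, h2, IsScalarTower.algebraMap_eq A U (Localization.AtPrime q),
    ← Ideal.comap_comap]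
  exact congrArg (Ideal.comap (algebraMap A U))
    (IsLocalization.AtPrime.under_maximalIdeal (Localization.AtPrime q) q).symm

variable {A S}

/-- A subalgebra with finitely generated total ring of fractions lies in an essentially etale one. -/
theorem exists_le_of_fg [IsReduced A] (hmin : (minimalPrimes A).Finite) (D : Subalgebra A S)
    (hfg : ∃ t : Finset (FractionRing D), ∀ x : FractionRing D, ∃ a ∈ A⁰,
      algebraMap A (FractionRing D) a * x ∈ Algebra.adjoin A (t : Set (FractionRing D))) :
    ∃ E : Subalgebra A S, D ≤ E ∧ ∃ _ : IsLocalRing E, IsLocalHom (algebraMap E S) ∧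
      EGA4loc.IsEssentiallyEtale A E ∧ Module.FaithfullyFlat E S := by
  classical
  obtain ⟨t, ht⟩ := hfg
  haveI : Module.FaithfullyFlat A S := Groth.Agent.S0539.result A S
  choose w hw using fun x : FractionRing D => IsLocalization.surj D⁰ x
  obtain ⟨E, hsE, hEloc, hEh, hE, hff⟩ := exists_essEt_ge A S
    (t.image (fun x => ((w x).1 : S)) ∪ t.image (fun x => (((w x).2 : D) : S)))
  refine ⟨E, fun d hd => ?_, hEloc, hEh, hE, hff⟩
  haveI := hff
  have hreg : ∀ a ∈ A⁰, ∀ x : S, algebraMap A S a * x = 0 → x = 0 := fun a ha x hx => by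
    have hr : IsSMulRegular A a := fun x y h => by
      have h' : (x - y) * a = 0 := by
        simp only [smul_eq_mul] at h
        rw [sub_mul, mul_comm x, mul_comm y, h, sub_self]
      exact sub_eq_zero.1 ((mem_nonZeroDivisors_iff_right.1 ha) _ h')
    exact (hr.of_flat (S := S)) (by simpa [Algebra.smul_def] using hx)
  have hinjD : Function.Injective (algebraMap D (FractionRing D)) := IsFractionRing.injective D (FractionRing D)
  let jD := algebraMap D (FractionRing D)
  let P : Subalgebra A (FractionRing D) :=
    { carrier := {x | ∃ a ∈ A⁰, ∃ e : D, (e : S) ∈ E ∧ algebraMap A (FractionRing D) a * x = jD e}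
      mul_mem' := by
        rintro x y ⟨a, ha, d, hd, hx⟩ ⟨b, hb, e, he, hy⟩
        exact ⟨a * b, A⁰.mul_mem ha hb, d * e, E.mul_mem hd he, by rw [map_mul, map_mul, ← hx, ← hy]; ring⟩
      add_mem' := by
        rintro x y ⟨a, ha, d, hd, hx⟩ ⟨b, hb, e, he, hy⟩
        refine ⟨a * b, A⁰.mul_mem ha hb, algebraMap A D b * d + algebraMap A D a * e,
          E.add_mem (E.mul_mem (E.algebraMap_mem b) hd) (E.mul_mem (E.algebraMap_mem a) he), ?_⟩
        rw [map_mul, map_add, map_mul, map_mul, ← hx, ← hy, ← IsScalarTower.algebraMap_apply A D,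
          ← IsScalarTower.algebraMap_apply A D]
        ring
      algebraMap_mem' := fun c => ⟨1, A⁰.one_mem, algebraMap A D c, E.algebraMap_mem c, by
        rw [map_one, one_mul]; exact IsScalarTower.algebraMap_apply A D (FractionRing D) c⟩ }
  have hle : Algebra.adjoin A (t : Set (FractionRing D)) ≤ P := Algebra.adjoin_le fun x hx => by
    have h1 : ((w x).1 : S) ∈ E := hsE (Finset.mem_union_left _ (Finset.mem_image_of_mem _ hx))
    have h2 : (((w x).2 : D) : S) ∈ E := hsE (Finset.mem_union_right _ (Finset.mem_image_of_mem _ hx))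
    have hnzd : ∀ y ∈ D.comap E.val, (⟨_, h2⟩ : E) * y = 0 → y = 0 := fun y hy hmul => by
      have h3 : ((w x).2 : D) * ⟨(y : S), hy⟩ = 0 := Subtype.ext ((congrArg Subtype.val hmul :))
      have h4 := (mem_nonZeroDivisors_iff.1 (w x).2.2).1 _ h3
      exact Subtype.ext (congrArg Subtype.val h4 :)
    obtain ⟨d', hd', a, ha, hda⟩ := exists_mul_eq_algebraMap hmin hE (D.comap E.val)
      (d := ⟨_, h2⟩) ((w x).2 : D).2 hnzd
    let d'D : D := ⟨(d' : S), hd'⟩
    have hda' : ((w x).2 : D) * d'D = algebraMap A D a := Subtype.ext ((congrArg Subtype.val hda :))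
    refine ⟨a, ha, (w x).1 * d'D, E.mul_mem h1 d'.2, ?_⟩
    rw [map_mul, ← hw x, IsScalarTower.algebraMap_apply A D (FractionRing D), ← hda', map_mul]
    change _ = x * jD ((w x).2 : D) * jD d'D
    ring
  obtain ⟨a, ha, hax⟩ := ht (jD ⟨d, hd⟩)
  obtain ⟨b, hb, e, he, hbe⟩ := hle hax
  have heq : e = algebraMap A D (b * a) * ⟨d, hd⟩ := hinjD (by
    rw [map_mul, map_mul, map_mul, ← IsScalarTower.algebraMap_apply, ← IsScalarTower.algebraMap_apply, mul_assoc]
    exact hbe.symm)
  have heS : (e : S) = algebraMap A S (b * a) * d := congrArg Subtype.val heq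
  have hmem : (⟨(e : S), he⟩ : E) ∈ Ideal.span {algebraMap A E (b * a)} := by
    rw [← Ideal.comap_map_eq_self_of_faithfullyFlat (B := S) (Ideal.span {algebraMap A E (b * a)}),
      Ideal.mem_comap, Ideal.map_span, Set.image_singleton, Ideal.mem_span_singleton]
    exact ⟨d, heS⟩
  obtain ⟨z, hz⟩ := Ideal.mem_span_singleton.1 hmem
  have hzd : (z : S) = d := sub_eq_zero.1 (hreg _ (A⁰.mul_mem hb ha) _ (by
    rw [mul_sub, ← heS, sub_eq_zero]
    exact (congrArg Subtype.val hz).symm))
  exact hzd ▸ z.2

/-- A subalgebra of an essentially etale one has finitely generated total ring of fractions. -/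
theorem fg_of_le [IsReduced A] (hmin : (minimalPrimes A).Finite) (D E : Subalgebra A S) (hDE : D ≤ E)
    (hE : EGA4loc.IsEssentiallyEtale A E) :
    ∃ t : Finset (FractionRing D), ∀ x : FractionRing D, ∃ a ∈ A⁰,
      algebraMap A (FractionRing D) a * x ∈ Algebra.adjoin A (t : Set (FractionRing D)) := by
  classical
  let DE : Subalgebra A E := D.comap E.val
  let φ : DE →ₐ[A] D := (E.val.comp DE.val).codRestrict D fun y => y.2
  let jD : DE →ₐ[A] FractionRing D := (IsScalarTower.toAlgHom A D (FractionRing D)).comp φ
  obtain ⟨t, ht, hspan⟩ := exists_finset_span hmin hE DE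
  let T : Finset (FractionRing D) := t.attach.image fun y => jD ⟨y.1, ht y.2⟩
  refine ⟨T, fun x => ?_⟩
  obtain ⟨⟨n, d⟩, hnd⟩ := IsLocalization.surj D⁰ x
  have hnzd : ∀ y ∈ DE, (⟨_, hDE (d : D).2⟩ : E) * y = 0 → y = 0 := fun y hy hmul => by
    have h3 : (d : D) * ⟨(y : S), hy⟩ = 0 := Subtype.ext ((congrArg Subtype.val hmul :))
    exact Subtype.ext (congrArg Subtype.val ((mem_nonZeroDivisors_iff.1 d.2).1 _ h3) :)
  obtain ⟨d', hd', a, ha, hda⟩ := exists_mul_eq_algebraMap hmin hE DE (d := ⟨_, hDE (d : D).2⟩)
    (d : D).2 hnzd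
  let d'D : D := ⟨(d' : S), hd'⟩
  have hda' : (d : D) * d'D = algebraMap A D a := Subtype.ext ((congrArg Subtype.val hda :))
  obtain ⟨b, hb, hby⟩ := hspan (⟨_, hDE (n * d'D).2⟩ : E) (n * d'D).2
  refine ⟨b * a, A⁰.mul_mem hb ha, ?_⟩
  have h1 : algebraMap A (FractionRing D) (b * a) * x = algebraMap D (FractionRing D) (algebraMap A D b * (n * d'D)) := by
    rw [map_mul, IsScalarTower.algebraMap_apply A D (FractionRing D) a, ← hda', map_mul, map_mul, map_mul, ← hnd,
      ← IsScalarTower.algebraMap_apply]
    ring
  rw [h1]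
  obtain ⟨c, -, hc⟩ := Submodule.mem_span_finset.1 hby
  have h2 : (algebraMap A DE b * (⟨⟨_, hDE (n * d'D).2⟩, (n * d'D).2⟩ : DE)) =
      ∑ y ∈ t.attach, c y.1 • (⟨y.1, ht y.2⟩ : DE) := by
    apply Subtype.ext
    rw [AddSubmonoidClass.coe_finsetSum]
    simp only [MulMemClass.coe_mul, SetLike.val_smul]
    rw [Finset.sum_attach t (fun y => c y • y), hc]
    rfl
  have h3 : φ (algebraMap A DE b * (⟨⟨_, hDE (n * d'D).2⟩, (n * d'D).2⟩ : DE)) = algebraMap A D b * (n * d'D) := by
    rw [map_mul, AlgHom.commutes]
    rfl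
  rw [← h3, h2]
  change jD _ ∈ _
  rw [map_sum]
  refine Subalgebra.sum_mem _ fun y hy => ?_
  rw [map_smul]
  exact Subalgebra.smul_mem _ (Algebra.subset_adjoin (Finset.mem_image_of_mem _ hy)) _

/-- A subalgebra essentially of finite type lies in an essentially etale one. -/
theorem exists_le_of_essFiniteType (D : Subalgebra A S) [IsLocalRing D] [IsLocalHom (algebraMap D S)]
    [Algebra.EssFiniteType A D] :
    ∃ E : Subalgebra A S, D ≤ E ∧ ∃ _ : IsLocalRing E, IsLocalHom (algebraMap E S) ∧
      EGA4loc.IsEssentiallyEtale A E ∧ Module.FaithfullyFlat E S := by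
  classical
  let U := Algebra.EssFiniteType.subalgebra A D
  obtain ⟨g, hg⟩ := (inferInstance : Algebra.FiniteType A U).out
  obtain ⟨E, hsE, hEloc, hEh, hE, hff⟩ := exists_essEt_ge A S (g.image fun u : U => ((u : D) : S))
  refine ⟨E, fun d hd => ?_, hEloc, hEh, hE, hff⟩
  have hU : ∀ u : U, ((u : D) : S) ∈ E := fun u => by
    have hu : u ∈ Algebra.adjoin A (g : Set U) := hg ▸ Algebra.mem_top
    have h2 : Algebra.adjoin A (g : Set U) ≤ E.comap (D.val.comp U.val) :=
      Algebra.adjoin_le fun v (hv : v ∈ g) => by
        change ((v : D) : S) ∈ (E : Set S)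
        apply hsE
        simp only [Finset.coe_image, Set.mem_image, Finset.mem_coe]
        exact ⟨v, hv, rfl⟩
    exact h2 hu
  obtain ⟨⟨n, w⟩, hnw⟩ := IsLocalization.surj (Algebra.EssFiniteType.submonoid A D) (⟨d, hd⟩ : D)
  haveI := hEh
  have hwu : IsUnit (⟨_, hU w⟩ : E) := hEh.map_nonunit _
    (((IsLocalization.map_units D w)).map (algebraMap D S))
  obtain ⟨v, hv⟩ := hwu.exists_right_inv
  have hv' : ((((w : U)) : D) : S) * (v : S) = 1 := congrArg Subtype.val hv
  have hnw' : d * ((((w : U)) : D) : S) = ((n : D) : S) := congrArg Subtype.val hnw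
  have : d = ((n : D) : S) * (v : S) := by rw [← hnw', mul_assoc, hv', mul_one]
  rw [this]
  exact E.mul_mem (hU n) v.2

/-- Flatness of an extension with the same uniformizing ideal over the base. -/
theorem flat_of_map_maximalIdeal {A D E : Type u} [CommRing A] [IsLocalRing A] [CommRing D] [IsLocalRing D]
    [IsNoetherianRing D] [CommRing E] [IsLocalRing E] [IsNoetherianRing E] [Algebra A D] [Algebra A E] [Algebra D E]
    [IsScalarTower A D E] [IsLocalHom (algebraMap D E)] [Module.Flat A E]
    (hm : (maximalIdeal A).map (algebraMap A D) = maximalIdeal D) : Module.Flat D E := by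
  refine Groth.Agent.S0390.result (R := D) (S := E) (M := E) ?_
  let m := maximalIdeal A
  let θ : m →ₗ[A] maximalIdeal D :=
    { toFun := fun a => ⟨algebraMap A D a, hm ▸ Ideal.mem_map_of_mem _ a.2⟩
      map_add' := fun a b => Subtype.ext (map_add _ _ _)
      map_smul' := fun r a => Subtype.ext (by
        change algebraMap A D (r * a) = r • algebraMap A D a
        rw [map_mul, Algebra.smul_def]) }
  let β : m →ₗ[A] E →ₗ[A] (maximalIdeal D) ⊗[D] E :=
    LinearMap.mk₂ A (fun a e => (θ a) ⊗ₜ[D] e) (fun a b e => by rw [map_add, TensorProduct.add_tmul])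
      (fun r a e => by rw [map_smul, TensorProduct.smul_tmul'])
      (fun a e e' => TensorProduct.tmul_add _ _ _) (fun r a e => by rw [TensorProduct.tmul_smul])
  let Ψ : m ⊗[A] E →ₗ[A] (maximalIdeal D) ⊗[D] E := TensorProduct.lift β
  have hsurj : Function.Surjective Ψ := by
    intro z
    induction z using TensorProduct.induction_on with
    | zero => exact ⟨0, map_zero _⟩
    | add x y hx hy =>
      obtain ⟨x', rfl⟩ := hx
      obtain ⟨y', rfl⟩ := hy
      exact ⟨x' + y', map_add _ _ _⟩
    | tmul x e =>
      obtain ⟨x, hx⟩ := x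
      have hx' : x ∈ Submodule.span D (algebraMap A D '' (m : Set A)) := by
        change x ∈ Ideal.span _
        rw [← Ideal.map, hm]
        exact hx
      revert hx
      induction hx' using Submodule.span_induction generalizing e with
      | mem x hx =>
        intro _
        obtain ⟨a, ha, rfl⟩ := hx
        exact ⟨⟨a, ha⟩ ⊗ₜ e, rfl⟩
      | zero => exact fun _ => ⟨0, by rw [map_zero, show (⟨(0 : D), _⟩ : maximalIdeal D) = 0 from rfl, TensorProduct.zero_tmul]⟩
      | add x y hxs hys hx hy =>
        intro _
        have hx2 : x ∈ maximalIdeal D := hm ▸ hxs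
        have hy2 : y ∈ maximalIdeal D := hm ▸ hys
        obtain ⟨x', hx'⟩ := hx e hx2
        obtain ⟨y', hy'⟩ := hy e hy2
        exact ⟨x' + y', by rw [map_add, hx', hy', ← TensorProduct.add_tmul]; rfl⟩
      | smul c x hxs hx =>
        intro _
        have hx2 : x ∈ maximalIdeal D := hm ▸ hxs
        obtain ⟨x', hx'⟩ := hx (c • e) hx2
        exact ⟨x', by rw [hx', TensorProduct.tmul_smul, TensorProduct.smul_tmul']; rfl⟩
  have hcomp : ∀ z, (TensorProduct.lid D E) (LinearMap.rTensor E (maximalIdeal D).subtype (Ψ z)) =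
      (TensorProduct.lid A E) (LinearMap.rTensor E m.subtype z) := by
    intro z
    induction z using TensorProduct.induction_on with
    | zero => simp
    | add x y hx hy => simp only [map_add, hx, hy]
    | tmul a e =>
      change algebraMap A D a • e = (a : A) • e
      rw [algebraMap_smul]
  intro x y hxy
  obtain ⟨x', rfl⟩ := hsurj x
  obtain ⟨y', rfl⟩ := hsurj y
  refine congrArg Ψ (Module.Flat.rTensor_preserves_injective_linearMap (M := E) m.subtype
    Subtype.val_injective ((TensorProduct.lid A E).injective ?_))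
  rw [← hcomp, ← hcomp, hxy]

/-- An intermediate Noetherian ring with the maximal ideal of the base is essentially of finite type. -/
theorem essFiniteType_of_flat {E : Type u} [CommRing E] [IsLocalRing E] [Algebra A E]
    [IsLocalHom (algebraMap A E)] [IsReduced A] (hN : CAlg.IsNagata A)
    (hE : EGA4loc.IsEssentiallyEtale A E) (D : Subalgebra A E) [IsLocalRing D] [IsLocalHom (algebraMap D E)]
    [Module.Flat D E] : Algebra.EssFiniteType A D := by
  classical
  haveI := hN.1
  have hmin : (minimalPrimes A).Finite := minimalPrimes.finite_of_isNoetherianRing A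
  haveI : Module.FaithfullyFlat D E := Module.FaithfullyFlat.of_flat_of_isLocalHom
  let := EssEtFracLib.fracAlgebra hE
  have := EssEtFracLib.fracTower hE
  obtain ⟨-, hart, -⟩ := EssEtFracLib.main_frac hmin hE
  haveI := hart
  haveI := EssEtFracLib.essFiniteType_of_essEt hE
  haveI : IsNoetherianRing E := Algebra.EssFiniteType.isNoetherianRing A E
  let K := FractionRing E
  let Q : Set K := {x | IsIntegral D x ∧ ∃ a ∈ A⁰, ∃ d ∈ D, algebraMap A K a * x = algebraMap E K d}
  obtain ⟨L, hL, -, -, -⟩ := exists_fracSub hmin hE D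
  let D' : Subalgebra A K := (integralClosure D K).restrictScalars A ⊓ L.restrictScalars A
  have hD' : ∀ x : K, x ∈ D' ↔ x ∈ Q := fun x => Algebra.mem_inf.trans (and_congr Iff.rfl (hL x))
  have hle : D' ≤ (integralClosure E K).restrictScalars A := fun x hx =>
    (((hD' x).1 hx).1.tower_top : IsIntegral E x)
  let E' := (integralClosure E K).restrictScalars A
  let incl := Subalgebra.inclusion hle
  have hsurj : ∀ N : Ideal D', N.IsMaximal → ∃ M : Ideal E', M.IsMaximal ∧ M.comap incl = N := by
    intro N hN
    suffices htop : Ideal.map incl N ≠ ⊤ by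
      obtain ⟨M, hM, hle'⟩ := Ideal.exists_le_maximal _ htop
      refine ⟨M, hM, (hN.eq_of_le (Ideal.IsPrime.comap incl (hK := hM.isPrime)).ne_top ?_).symm⟩
      exact Ideal.map_le_iff_le_comap.1 hle'
    intro htop
    let T : Subalgebra E K := Algebra.adjoin E (D' : Set K)
    have hTle : T ≤ integralClosure E K := Algebra.adjoin_le fun x hx => hle hx
    let ρ : D' →+* T := RingHom.codRestrict D'.val.toRingHom T fun x => Algebra.subset_adjoin x.2
    letI : Algebra T (integralClosure E K) := (Subalgebra.inclusion hTle).toRingHom.toAlgebra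
    haveI : IsScalarTower E T (integralClosure E K) := IsScalarTower.of_algebraMap_eq fun _ => rfl
    haveI : Algebra.IsIntegral T (integralClosure E K) :=
      ⟨fun y => (Algebra.IsIntegral.isIntegral (R := E) y).tower_top⟩
    have hT : Ideal.map ρ N = ⊤ := by
      by_contra hne
      obtain ⟨P, hP, hPle⟩ := Ideal.exists_le_maximal _ hne
      obtain ⟨Q, hQ, hQP⟩ := Ideal.exists_ideal_over_maximal_of_isIntegral (S := integralClosure E K) P
        (fun x hx => by
          have hx0 : x = 0 := Subtype.ext (congrArg Subtype.val (RingHom.mem_ker.1 hx) :)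
          rw [hx0]
          exact P.zero_mem)
      have h1 : (1 : integralClosure E K) ∈ Ideal.map incl.toRingHom N := by
        change (1 : E') ∈ Ideal.map incl N
        rw [htop]
        trivial
      refine hQ.ne_top ((Ideal.eq_top_iff_one _).2 (Ideal.map_le_iff_le_comap.2 (fun x hx => ?_) h1))
      have h2 : ρ x ∈ Q.comap (algebraMap T (integralClosure E K)) := by
        rw [hQP]
        exact hPle (Ideal.mem_map_of_mem _ hx)
      exact h2
    -- write `1` as a combination of elements of `N` with coefficients in `E`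
    let V : Submodule A K := Submodule.span A {z | ∃ n ∈ N, ∃ e : E, z = (n : D').1 * algebraMap E K e}
    have hmul : ∀ c : K, c ∈ T → ∀ v ∈ V, c * v ∈ V := by
      intro c hc
      induction hc using Algebra.adjoin_induction with
      | mem c hc =>
        intro v hv
        induction hv using Submodule.span_induction with
        | mem v hv =>
          obtain ⟨n, hn, e', rfl⟩ := hv
          exact Submodule.subset_span ⟨⟨c, hc⟩ * n, N.mul_mem_left _ hn, e', (mul_assoc _ _ _).symm⟩
        | zero => rw [mul_zero]; exact Submodule.zero_mem V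
        | add v v' _ _ hv hv' => rw [mul_add]; exact Submodule.add_mem V hv hv'
        | smul a v _ hv => rw [mul_smul_comm]; exact Submodule.smul_mem V a hv
      | algebraMap e =>
        intro v hv
        induction hv using Submodule.span_induction with
        | mem v hv =>
          obtain ⟨n, hn, e', rfl⟩ := hv
          exact Submodule.subset_span ⟨n, hn, e * e', by rw [map_mul]; ring⟩
        | zero => rw [mul_zero]; exact Submodule.zero_mem V
        | add v v' _ _ hv hv' => rw [mul_add]; exact Submodule.add_mem V hv hv'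
        | smul a v _ hv => rw [mul_smul_comm]; exact Submodule.smul_mem V a hv
      | add x y _ _ hx hy =>
        intro v hv
        rw [add_mul]
        exact Submodule.add_mem V (hx v hv) (hy v hv)
      | mul x y _ _ hx hy =>
        intro v hv
        rw [mul_assoc]
        exact hx _ (hy v hv)
    have hV : ∀ z : T, z ∈ Ideal.map ρ N → (z : K) ∈ V := by
      intro z hz
      induction hz using Submodule.span_induction with
      | mem x hx =>
        obtain ⟨n, hn, rfl⟩ := hx
        exact Submodule.subset_span ⟨n, hn, 1, by rw [map_one, mul_one]; rfl⟩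
      | zero => exact Submodule.zero_mem V
      | add x y _ _ hx hy => exact Submodule.add_mem V hx hy
      | smul c x _ hx => exact hmul _ c.2 _ hx
    have hone : (1 : K) ∈ V := hV 1 (hT ▸ Submodule.mem_top)
    obtain ⟨m, c, g, hsum⟩ := Submodule.mem_span_set'.1 hone
    choose n hn e he using fun i => (g i).2
    choose a ha d hd had using fun i => ((hD' _).1 (n i).2).2
    let s := ∏ i, a i
    have hs : s ∈ A⁰ := prod_mem fun i _ => ha i
    let dd : Fin m → D := fun i => algebraMap A D (c i * ∏ j ∈ Finset.univ.erase i, a j) * ⟨d i, hd i⟩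
    have hdd : ∀ i, algebraMap E K (dd i : D) = algebraMap A K s * (c i • (n i : D').1) := fun i => by
      have hsplit : s = a i * ∏ j ∈ Finset.univ.erase i, a j :=
        (Finset.mul_prod_erase _ _ (Finset.mem_univ i)).symm
      change algebraMap E K (algebraMap A E _ * d i) = _
      rw [map_mul (algebraMap E K), ← IsScalarTower.algebraMap_apply, ← had i, hsplit, map_mul, map_mul,
        Algebra.smul_def]
      ring
    have hsE : algebraMap A E s = ∑ i, ((dd i : D) : E) * e i := by
      apply IsFractionRing.injective E K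
      rw [map_sum, ← IsScalarTower.algebraMap_apply, ← mul_one (algebraMap A K s), ← hsum, Finset.mul_sum]
      refine Finset.sum_congr rfl fun i _ => ?_
      rw [map_mul, hdd i, he i, mul_assoc, smul_mul_assoc]
    have hsD : algebraMap A D s ∈ Ideal.span (Set.range dd) := by
      rw [← Ideal.comap_map_eq_self_of_faithfullyFlat (B := E) (Ideal.span (Set.range dd)), Ideal.mem_comap,
        ← IsScalarTower.algebraMap_apply, hsE]
      refine Ideal.sum_mem _ fun i _ => Ideal.mul_mem_right _ _ ?_
      exact Ideal.mem_map_of_mem (algebraMap D E) (Ideal.subset_span (Set.mem_range_self i) : dd i ∈ Ideal.span (Set.range dd))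
    obtain ⟨v, hv⟩ := (Ideal.mem_span_range_iff_exists_fun).1 hsD
    let ι : D →ₐ[A] D' := ((IsScalarTower.toAlgHom A E K).comp D.val).codRestrict D' fun d =>
      (hD' _).2 ⟨isIntegral_algebraMap, 1, A⁰.one_mem, d, d.2, by rw [map_one, one_mul]; rfl⟩
    refine hN.ne_top ((Ideal.eq_top_iff_one N).2 ?_)
    have : (1 : D') = ∑ i, c i • (ι (v i) * n i) := by
      apply Subtype.ext
      have hu : IsUnit (algebraMap A K s) := EssEtFracLib.exists_fractionMap hE s hs
      apply hu.mul_left_cancel
      have hlhs : algebraMap A K s = ∑ i, algebraMap E K (v i : E) * algebraMap E K (dd i : E) := by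
        rw [IsScalarTower.algebraMap_apply A E K, show algebraMap A E s = ((algebraMap A D s : D) : E) from rfl,
          ← hv, AddSubmonoidClass.coe_finsetSum, map_sum]
        exact Finset.sum_congr rfl fun i _ => map_mul _ _ _
      rw [AddSubmonoidClass.coe_finsetSum, Finset.mul_sum]
      change algebraMap A K s * 1 = _
      rw [mul_one]
      refine hlhs.trans (Finset.sum_congr rfl fun i _ => ?_)
      rw [hdd i, Algebra.smul_def, SetLike.val_smul, Algebra.smul_def, MulMemClass.coe_mul]
      change algebraMap E K (v i : E) * _ = _ * (_ * (algebraMap E K (v i : E) * _))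
      ring
    rw [this]
    exact N.sum_mem fun i _ => N.smul_of_tower_mem _ (N.mul_mem_left _ (hn i))
  refine SemilocalEssLib.essFiniteType hN hE D D' hD' hle ?_ hsurj
  refine ((SemilocalNormLib.finite_maximal_of_artinian (E := E) (Q := K)).image
    fun M : Ideal E' => M.comap incl).subset fun N hN => ?_
  obtain ⟨M, hM, hMN⟩ := hsurj N hN
  exact ⟨M, hM, hMN⟩

end SHSubLib
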