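import Groth.Agent.SHSubLib.Coeff
import Mathlib

/-! Auxiliary facts on semilocalizations and Artin-Rees bounds. -/

set_option autoImplicit false

universe u v w

open IsLocalRing

namespace SHSubLib

/-- An integral extension generated by a finite algebra and inverses of its units is finite. -/
theorem finite_of_semilocal {A : Type u} {D : Type v} {D' : Type w} [CommRing A] [CommRing D] [CommRing D']
    [Algebra A D] [Algebra D D'] [Algebra A D'] [IsScalarTower A D D'] [Algebra.IsIntegral D D']
    (C : Subalgebra A D') [Module.Finite A C] (hfin : {N : Ideal D' | N.IsMaximal}.Finite)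
    (hfrac : ∀ (x : D') (N : Ideal D'), N.IsMaximal → ∃ a ∈ C, a ∉ N ∧ a * x ∈ C) : Module.Finite D D' := by
  classical
  have hT : ∀ x : D', ∃ c : C, IsUnit (c : D') ∧ (c : D') * x ∈ C := by
    intro x
    let I : Ideal C :=
      { carrier := {c | (c : D') * x ∈ C}
        add_mem' := fun {a b} ha hb => by
          simp only [Set.mem_ofPred_eq, AddMemClass.coe_add, add_mul] at *
          exact C.add_mem ha hb
        zero_mem' := by simp
        smul_mem' := fun c {a} ha => by
          simp only [Set.mem_ofPred_eq, smul_eq_mul, MulMemClass.coe_mul, mul_assoc] at *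
          exact C.mul_mem c.2 ha }
    by_contra hno
    push Not at hno
    have hsub : (I : Set C) ⊆ ⋃ N ∈ (hfin.toFinset : Set (Ideal D')), (N.comap C.val : Set C) := by
      intro c hc
      obtain ⟨N, hN, hcN⟩ := exists_max_ideal_of_mem_nonunits (a := (c : D')) (fun h => hno c h hc)
      exact Set.mem_biUnion (Finset.mem_coe.2 (hfin.mem_toFinset.2 hN)) hcN
    obtain ⟨N, hN, hIN⟩ := (Ideal.subset_union_prime (R := C) (f := fun N : Ideal D' => N.comap C.val) ⊥ ⊥
      (fun N hN _ _ => (hfin.mem_toFinset.1 hN).isPrime.comap _)).1 hsub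
    obtain ⟨a, ha, haN, hax⟩ := hfrac x N (hfin.mem_toFinset.1 hN)
    exact haN (hIN (x := ⟨a, ha⟩) hax)
  obtain ⟨cs, hcs⟩ := Module.Finite.fg_top (R := A) (M := C)
  let gen : Set D' := Subtype.val '' (cs : Set C)
  let G := Algebra.adjoin D gen
  have hCG : ∀ c : C, (c : D') ∈ G := by
    intro c
    have h1 : c ∈ Submodule.span A (cs : Set C) := hcs ▸ Submodule.mem_top
    have h2 := Submodule.mem_map_of_mem (f := C.val.toLinearMap) h1
    rw [Submodule.map_span] at h2
    exact (Submodule.span_le (p := (G.restrictScalars A).toSubmodule)).2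
      (fun z hz => Algebra.subset_adjoin hz) h2
  have hGfg : G.toSubmodule.FG := fg_adjoin_of_finite (cs.finite_toSet.image _) fun z _ =>
    Algebra.IsIntegral.isIntegral z
  haveI : Algebra.IsIntegral G D' :=
    ⟨fun z => (Algebra.IsIntegral.isIntegral (R := D) z).tower_top⟩
  have htop : G = ⊤ := eq_top_iff.2 fun x _ => by
    obtain ⟨c, hc, hcx⟩ := hT x
    have hu : IsUnit (⟨c, hCG c⟩ : G) := by
      by_contra hnu
      obtain ⟨Q, hQ, hcQ⟩ := exists_max_ideal_of_mem_nonunits hnu
      haveI := hQ
      obtain ⟨M, hM, hMQ⟩ := Ideal.exists_ideal_over_maximal_of_isIntegral (S := D') Q (by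
        rw [(RingHom.injective_iff_ker_eq_bot (algebraMap G D')).1 Subtype.val_injective]; exact bot_le)
      have hcM : (c : D') ∈ M := by
        rw [← hMQ] at hcQ
        exact hcQ
      exact hM.ne_top (M.eq_top_of_isUnit_mem hcM hc)
    obtain ⟨v, hv⟩ := hu.exists_left_inv
    have hx : x = (v : D') * ((c : D') * x) := by
      rw [← mul_assoc, show (v : D') * (c : D') = 1 from congrArg Subtype.val hv, one_mul]
    rw [hx]
    exact G.mul_mem v.2 (hCG ⟨_, hcx⟩)
  exact ⟨by rw [← Algebra.top_toSubmodule, ← htop]; exact hGfg⟩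

/-- An Artin-Rees bound for a submodule of a finite module. -/
theorem exists_comap_pow_le {R : Type u} [CommRing R] [IsNoetherianRing R] {M N : Type v} [AddCommGroup M]
    [AddCommGroup N] [Module R M] [Module R N] [Module.Finite R M] (f : N →ₗ[R] M) (hf : Function.Injective f)
    (I : Ideal R) : ∃ c : ℕ, ∀ n, (I ^ (n + c) • (⊤ : Submodule R M)).comap f ≤ I ^ n • (⊤ : Submodule R N) := by
  obtain ⟨k, hk⟩ := I.exists_pow_inf_eq_pow_smul (LinearMap.range f)
  refine ⟨k, fun n x hx => ?_⟩
  have h1 : f x ∈ I ^ (n + k) • (⊤ : Submodule R M) ⊓ LinearMap.range f := ⟨hx, x, rfl⟩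
  rw [hk (n + k) (by omega)] at h1
  have h2 : f x ∈ I ^ n • LinearMap.range f := by
    rw [Nat.add_sub_cancel] at h1
    exact Submodule.smul_mono le_rfl inf_le_right h1
  rw [← Submodule.map_top f, ← Submodule.map_smul''] at h2
  obtain ⟨y, hy, hyx⟩ := h2
  rw [← hf hyx]
  exact hy

/-- In a finite algebra over a Noetherian local ring a power of the Jacobson radical lies over the closed point. -/
theorem exists_jacobson_pow_le (A : Type u) {B : Type v} [CommRing A] [IsLocalRing A] [IsNoetherianRing A]
    [CommRing B] [Algebra A B] [Module.Finite A B] :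
    ∃ n : ℕ, Ideal.jacobson (⊥ : Ideal B) ^ n ≤ (maximalIdeal A).map (algebraMap A B) := by
  haveI : IsNoetherianRing B := IsNoetherianRing.of_finite A B
  refine Ideal.exists_pow_le_of_le_radical_of_fg ?_ (IsNoetherian.noetherian _)
  intro x hx
  rw [Ideal.radical_eq_sInf]
  refine Ideal.mem_sInf.2 fun {P} ⟨hle, hP⟩ => ?_
  haveI := hP
  have h1 : Ideal.comap (algebraMap A B) P ≠ ⊤ := Ideal.comap_ne_top _ hP.ne_top
  have hPA : Ideal.comap (algebraMap A B) P = maximalIdeal A :=
    le_antisymm (IsLocalRing.le_maximalIdeal (J := Ideal.comap (algebraMap A B) P) h1) (Ideal.map_le_iff_le_comap.1 hle)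
  haveI : (P.comap (algebraMap A B)).IsMaximal := hPA ▸ maximalIdeal.isMaximal A
  have hmax : P.IsMaximal := Ideal.isMaximal_of_isIntegral_of_isMaximal_comap (R := A) P ‹_›
  exact Ideal.mem_sInf.1 hx ⟨bot_le, hmax⟩

end SHSubLib
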