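import Groth.Agent.SHSubLib.Norm
import Groth.Agent.SHSubLib.Bounds
import Groth.Agent.SemilocalEssLib.App
import Groth.Agent.S16438
import Mathlib

/-! The residue field product criterion for essentially etale intermediate algebras. -/

set_option autoImplicit false
set_option synthInstance.maxHeartbeats 400000
set_option maxHeartbeats 1600000

universe u

open IsLocalRing TensorProduct
open scoped nonZeroDivisors

namespace SHSubLib

/-- Kernel of the composite of a bijection with the quotient by the Jacobson radical. -/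
theorem ker_mk_comp_tensor {A T U W : Type u} [CommRing A] [CommRing T] [CommRing U] [CommRing W]
    [Algebra A T] [Algebra A U] [Algebra A W] (φ : T ⊗[A] U →ₐ[A] W) (hs : Function.Surjective φ)
    (hi : Function.Injective φ) :
    RingHom.ker ((Ideal.Quotient.mkₐ A (Ideal.jacobson (⊥ : Ideal W))).comp φ) =
      Ideal.jacobson (R := T ⊗[A] U) ⊥ := by
  ext z
  rw [RingHom.mem_ker, AlgHom.comp_apply, Ideal.Quotient.mkₐ_eq_mk, Ideal.Quotient.eq_zero_iff_mem,
    Ideal.mem_jacobson_bot]
  refine ⟨fun h => Ideal.mem_jacobson_bot.2 fun y => ?_, fun h y => ?_⟩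
  · obtain ⟨v, hv⟩ := IsUnit.exists_right_inv (h (φ y))
    obtain ⟨w, rfl⟩ := hs v
    refine IsUnit.of_mul_eq_one w (hi ?_)
    rw [map_mul, map_add, map_mul, map_one, hv]
  · obtain ⟨w, rfl⟩ := hs y
    simpa using (Ideal.mem_jacobson_bot.1 h w).map φ

/-- Primes of an integral tensor product over the closed point are maximal, and so are their restrictions. -/
theorem isMaximal_tensor {A T U R : Type u} [CommRing A] [IsLocalRing A] [CommRing T] [CommRing U] [CommRing R]
    [Algebra A T] [Algebra A U] [Algebra A R] [Algebra.IsIntegral A T] (mU : Ideal U) [Algebra.IsIntegral A (U ⧸ mU)]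
    (g : R →ₐ[A] T ⊗[A] U) (M : Ideal (T ⊗[A] U)) [M.IsPrime]
    (hU : mU ≤ M.comap (Algebra.TensorProduct.includeRight : U →ₐ[A] T ⊗[A] U))
    (hA : maximalIdeal A ≤ M.comap (algebraMap A (T ⊗[A] U))) :
    M.IsMaximal ∧ (M.comap g).IsMaximal := by
  have h : Algebra.IsIntegral A ((T ⊗[A] U) ⧸ M) := by
    let q : T ⊗[A] U →ₐ[A] (T ⊗[A] U) ⧸ M := Ideal.Quotient.mkₐ A M
    let f : (U ⧸ mU) →ₐ[A] (T ⊗[A] U) ⧸ M :=
      Ideal.Quotient.liftₐ _ (q.comp Algebra.TensorProduct.includeRight) fun e he =>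
        Ideal.Quotient.eq_zero_iff_mem.2 (hU he)
    refine ⟨fun y => ?_⟩
    obtain ⟨z, rfl⟩ := Ideal.Quotient.mk_surjective y
    change IsIntegral A (q z)
    induction z using TensorProduct.induction_on with
    | zero => rw [map_zero]; exact isIntegral_zero
    | tmul a e =>
      rw [show a ⊗ₜ[A] e = (a ⊗ₜ[A] (1 : U)) * ((1 : T) ⊗ₜ[A] e) by
        rw [Algebra.TensorProduct.tmul_mul_tmul, mul_one, one_mul], map_mul]
      exact ((Algebra.IsIntegral.isIntegral (R := A) a).map (q.comp Algebra.TensorProduct.includeLeft)).mul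
        ((Algebra.IsIntegral.isIntegral (R := A) (Ideal.Quotient.mk mU e)).map f)
    | add z z' hz hz' => rw [map_add]; exact hz.add hz'
  refine ⟨isMaximal_of_integral_quot M h hA, ?_⟩
  haveI : (M.comap g).IsPrime := Ideal.IsPrime.comap g
  refine isMaximal_of_integral_quot (A := A) _ ⟨fun x => ?_⟩ fun a ha => ?_
  · let j : (R ⧸ M.comap g) →ₐ[A] (T ⊗[A] U) ⧸ M := Ideal.quotientMapₐ (R₁ := A) M g le_rfl
    exact (isIntegral_algHom_iff j Ideal.quotientMap_injective).1 (h.isIntegral _)
  · rw [Ideal.mem_comap, Ideal.mem_comap, AlgHom.commutes]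
    exact hA ha

variable {A S : Type u} [CommRing A] [IsLocalRing A] [IsReduced A] [CommRing S] [IsLocalRing S] [Algebra A S]
  [IsLocalHom (algebraMap A S)] [Hensel.IsStrictHenselization A S]
variable {D : Subalgebra A S} [IsLocalRing D]
variable {A' D' : Subalgebra A (FractionRing S)}
  (hA' : ∀ x : (FractionRing S), x ∈ A' ↔ (IsIntegral A x ∧
      ∃ a ∈ nonZeroDivisors A, ∃ b : A, algebraMap A (FractionRing S) a * x = algebraMap A (FractionRing S) b))
  (hD' : ∀ x : (FractionRing S), x ∈ D' ↔ (IsIntegral D x ∧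
      ∃ a ∈ nonZeroDivisors A, ∃ d ∈ D, algebraMap A (FractionRing S) a * x = algebraMap S (FractionRing S) d))
  (hle : A' ≤ D') (ι : D →ₐ[A] D') (hι : ∀ d : D, (ι d : (FractionRing S)) = algebraMap S (FractionRing S) d)

theorem productMap_eq (z : A' ⊗[A] D) :
    (∀ d : D, (ι d : (FractionRing S)) = algebraMap S (FractionRing S) d) →
      ((Algebra.TensorProduct.productMap (Subalgebra.inclusion hle) ι z : D') : FractionRing S) = mu A' D z := by
  intro hι
  induction z using TensorProduct.induction_on with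
  | zero => simp
  | tmul a d =>
    rw [Algebra.TensorProduct.productMap_apply_tmul, MulMemClass.coe_mul, hι, mu_tmul]
    rfl
  | add z z' hz hz' => rw [map_add, map_add, ← hz, ← hz']; rfl

include hA' hD' hι in
/-- The residue conditions hold for an essentially etale subalgebra. -/
theorem residue_conditions (hN : CAlg.IsNagata A) (hX : EGA4loc.IsEssentiallyEtale A D) :
    {N : Ideal D' | N.IsMaximal}.Finite ∧
      Function.Surjective ((Ideal.Quotient.mkₐ A (Ideal.jacobson (⊥ : Ideal D'))).comp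
        (Algebra.TensorProduct.productMap (Subalgebra.inclusion hle) ι)) ∧
      RingHom.ker ((Ideal.Quotient.mkₐ A (Ideal.jacobson (⊥ : Ideal D'))).comp
        (Algebra.TensorProduct.productMap (Subalgebra.inclusion hle) ι)) =
        (Ideal.jacobson (⊥ : Ideal A')).map
            (Algebra.TensorProduct.includeLeft : A' →ₐ[A] A' ⊗[A] D) ⊔
          (maximalIdeal D).map
            (Algebra.TensorProduct.includeRight : D →ₐ[A] A' ⊗[A] D) := by
  haveI := hN.1
  have hmin : (minimalPrimes A).Finite := minimalPrimes.finite_of_isNoetherianRing A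
  haveI := EssEtFracLib.flat_of_essEt hX
  haveI := isIntegral_normA A' hA'
  set φ := Algebra.TensorProduct.productMap (Subalgebra.inclusion hle) ι with hφdef
  have hsurj : Function.Surjective φ := fun x => by
    obtain ⟨z, hz⟩ := (mem_range_mu_iff A' hA' hmin D hX (x : FractionRing S)).2 ((hD' _).1 x.2)
    exact ⟨z, Subtype.ext ((productMap_eq hle ι z hι).trans hz)⟩
  have hinj : Function.Injective φ := fun z z' h => mu_injective A' hA' D (by
    rw [← productMap_eq hle ι z hι, ← productMap_eq hle ι z' hι, ← hφdef, h])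
  refine ⟨?_, (Ideal.Quotient.mkₐ_surjective A _).comp hsurj, ?_⟩
  · refine Set.Finite.of_finite_image ((finite_maximal_tensor A' hA' hN D hX).subset ?_)
      ((Ideal.comap_injective_of_surjective φ.toRingHom hsurj).injOn (s := {N : Ideal D' | N.IsMaximal}))
    rintro _ ⟨N, hN', rfl⟩
    haveI : N.IsMaximal := hN'
    exact Ideal.comap_isMaximal_of_surjective _ hsurj
  have h1 : RingHom.ker ((Ideal.Quotient.mkₐ A (Ideal.jacobson (⊥ : Ideal D'))).comp φ) =
      Ideal.jacobson (R := A' ⊗[A] D) ⊥ :=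
    ker_mk_comp_tensor (A := A) (T := A') (U := D) φ hsurj hinj
  rw [h1, jacobson_tensor A' hA' hN D hX]
  refine le_antisymm le_sup_left (sup_le le_rfl ?_)
  rw [← jacobson_tensor A' hA' hN D hX, Ideal.map_le_iff_le_comap]
  intro d hd
  refine Ideal.mem_sInf.2 fun {M} hM => ?_
  haveI := hM.2
  letI : Algebra D (A' ⊗[A] D) := (Algebra.TensorProduct.includeRight : D →ₐ[A] A' ⊗[A] D).toRingHom.toAlgebra
  haveI : Algebra.IsIntegral D (A' ⊗[A] D) := ⟨isIntegral_includeRight A' D⟩
  have h : M.comap (algebraMap D (A' ⊗[A] D)) = maximalIdeal D :=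
    IsLocalRing.eq_maximalIdeal (by exact Ideal.isMaximal_comap_of_isIntegral_of_isMaximal (R := D) (S := A' ⊗[A] D) M)
  rw [← h] at hd
  exact hd

include hD' hι in
theorem isIntegral_iota :
    letI := ι.toRingHom.toAlgebra
    Algebra.IsIntegral D D' := by
  letI := ι.toRingHom.toAlgebra
  haveI : IsScalarTower D D' (FractionRing S) := IsScalarTower.of_algebraMap_eq fun d => (hι d).symm
  exact ⟨fun x => (isIntegral_algHom_iff (IsScalarTower.toAlgHom D D' (FractionRing S)) Subtype.val_injective).1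
    ((hD' x).1 x.2).1⟩

include hD' hι in
theorem comap_iota_maximal (N : Ideal D') [N.IsMaximal] : N.comap ι = maximalIdeal D := by
  letI := ι.toRingHom.toAlgebra
  haveI := isIntegral_iota hD' ι hι
  exact IsLocalRing.eq_maximalIdeal (by exact Ideal.isMaximal_comap_of_isIntegral_of_isMaximal (R := D) (S := D') N)

variable (E : Subalgebra A S) [IsLocalRing E]

omit [IsReduced A] [IsLocalRing S] [IsLocalHom (algebraMap A S)] [Hensel.IsStrictHenselization A S] in
theorem finite_quotient_maximal (hE : EGA4loc.IsEssentiallyEtale A E) [IsLocalHom (algebraMap A E)] :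
    Module.Finite A (E ⧸ maximalIdeal E) := by
  haveI := EssEtFracLib.quasiFinite_of_essEt hE
  have hmA : (maximalIdeal E).comap (algebraMap A E) = maximalIdeal A :=
    ((IsLocalRing.local_hom_TFAE (algebraMap A E)).out 0 4).1 ‹IsLocalHom (algebraMap A E)›
  haveI : (maximalIdeal E).LiesOver (maximalIdeal A) := ⟨hmA.symm⟩
  haveI : Algebra.QuasiFinite (A ⧸ maximalIdeal A) (E ⧸ maximalIdeal E) :=
    Algebra.QuasiFinite.of_restrictScalars A _ _
  let := Ideal.Quotient.field (maximalIdeal A)
  haveI : Module.Finite (A ⧸ maximalIdeal A) (E ⧸ maximalIdeal E) := Module.Finite.of_quasiFinite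
  exact Module.Finite.trans (A ⧸ maximalIdeal A) _

include hA' hD' hι in
/-- The inclusion of the normalization into the normalized tensor product. -/
theorem exists_incl (hE : EGA4loc.IsEssentiallyEtale A E) (hmin : (minimalPrimes A).Finite) (hDE : D ≤ E) :
    ∃ g : D' →ₐ[A] A' ⊗[A] E, (∀ x, mu A' E (g x) = (x : FractionRing S)) ∧
      (∀ a : A', g (Subalgebra.inclusion hle a) = a ⊗ₜ 1) ∧
      ∀ d : D, g (ι d) = (1 : A') ⊗ₜ Subalgebra.inclusion hDE d := by
  haveI := EssEtFracLib.flat_of_essEt hE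
  have hmem : ∀ x : D', (x : FractionRing S) ∈ (mu A' E).range := fun x => by
    obtain ⟨⟨p, hp, hpx⟩, a, ha, d, hd, hxd⟩ := (hD' _).1 x.2
    refine (mem_range_mu_iff A' hA' hmin E hE _).2 ⟨⟨p.map (Subalgebra.inclusion hDE).toRingHom, hp.map _, ?_⟩,
      a, ha, d, hDE hd, hxd⟩
    rw [Polynomial.eval₂_map]
    exact hpx
  choose gf hgf' using hmem
  have hgf : ∀ x, mu A' E (gf x) = (x : FractionRing S) := hgf'
  have hinj := mu_injective A' hA' E
  let g : D' →ₐ[A] A' ⊗[A] E :=
    { toFun := gf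
      map_one' := hinj (by change mu A' E (gf 1) = mu A' E 1; rw [map_one, hgf 1]; rfl)
      map_mul' := fun x y => hinj (by
        change mu A' E (gf (x * y)) = mu A' E (gf x * gf y)
        rw [map_mul, hgf x, hgf y, hgf (x * y)]; rfl)
      map_zero' := hinj (by change mu A' E (gf 0) = mu A' E 0; rw [map_zero, hgf 0]; rfl)
      map_add' := fun x y => hinj (by
        change mu A' E (gf (x + y)) = mu A' E (gf x + gf y)
        rw [map_add, hgf x, hgf y, hgf (x + y)]; rfl)
      commutes' := fun a => hinj (by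
        change mu A' E (gf (algebraMap A D' a)) = mu A' E (algebraMap A _ a)
        rw [AlgHom.commutes, hgf (algebraMap A D' a)]; rfl) }
  refine ⟨g, hgf, fun a => hinj ?_, fun d => hinj ?_⟩
  · change mu A' E (gf (Subalgebra.inclusion hle a)) = mu A' E (a ⊗ₜ 1)
    rw [hgf, mu_tmul, OneMemClass.coe_one, map_one, mul_one]
    rfl
  · change mu A' E (gf (ι d)) = mu A' E ((1 : A') ⊗ₜ Subalgebra.inclusion hDE d)
    rw [hgf, hι, mu_tmul, OneMemClass.coe_one, one_mul]
    rfl

variable (hDE : D ≤ E) (g : D' →ₐ[A] A' ⊗[A] E) (hg : ∀ x, mu A' E (g x) = (x : FractionRing S))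
  (hgA : ∀ a : A', g (Subalgebra.inclusion hle a) = a ⊗ₜ 1)
  (hgD : ∀ d : D, g (ι d) = (1 : A') ⊗ₜ Subalgebra.inclusion hDE d)

include hA' in
theorem isMaximal_comap_g (hE : EGA4loc.IsEssentiallyEtale A E) [IsLocalHom (algebraMap A E)]
    (M : Ideal (A' ⊗[A] E)) [M.IsMaximal] : (M.comap g).IsMaximal := by
  obtain ⟨-, hMA⟩ := isMaximal_comap_includeLeft A' hA' E hE M
  have hME : maximalIdeal E ≤ M.comap (Algebra.TensorProduct.includeRight : E →ₐ[A] A' ⊗[A] E) := by
    rw [← HenselBranchLib.map_maximal_of_essEt hE, Ideal.map_le_iff_le_comap]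
    intro a ha
    rw [← hMA] at ha
    rw [Ideal.mem_comap, Ideal.mem_comap, AlgHom.commutes]
    exact ha
  haveI := isIntegral_normA A' hA'
  haveI := finite_quotient_maximal E hE
  refine (isMaximal_tensor (A := A) (T := A') (U := E) (maximalIdeal E) g M hME ?_).2
  rw [← hMA]

include hA' hD' hι hgA hgD in
/-- Every maximal ideal of the normalization is dominated. -/
theorem exists_maximal_over (hE : EGA4loc.IsEssentiallyEtale A E) [IsLocalHom (algebraMap A E)]
    [IsLocalHom (algebraMap D S)] [IsLocalHom (algebraMap E S)]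
    (hsurjφ : Function.Surjective ((Ideal.Quotient.mkₐ A (Ideal.jacobson (⊥ : Ideal D'))).comp
      (Algebra.TensorProduct.productMap (Subalgebra.inclusion hle) ι)))
    (N : Ideal D') [N.IsMaximal] : ∃ M : Ideal (A' ⊗[A] E), M.IsMaximal ∧ M.comap g = N := by
  have hND := comap_iota_maximal hD' ι hι N
  letI : Field (D' ⧸ N) := Ideal.Quotient.field N
  let Ω := AlgebraicClosure (D' ⧸ N)
  let i : D →ₐ[A] E := Subalgebra.inclusion hDE
  haveI hiloc : IsLocalHom (i : D →+* E) := ⟨fun d hd =>
    isUnit_of_map_unit (algebraMap D S) d (hd.map (algebraMap E S))⟩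
  haveI : IsLocalHom (algebraMap A D) := ⟨fun a ha => isUnit_of_map_unit (algebraMap A S) a (by
    rw [IsScalarTower.algebraMap_apply A D S]; exact ha.map (algebraMap D S))⟩
  let fD : D →+* D' ⧸ N := (Ideal.Quotient.mk N).comp ι.toRingHom
  haveI : IsLocalHom fD := ⟨fun d hd => by
    by_contra hnu
    have hd' : d ∈ maximalIdeal D := hnu
    rw [← hND] at hd'
    exact hd.ne_zero (Ideal.Quotient.eq_zero_iff_mem.2 hd')⟩
  letI : Algebra (ResidueField D) (D' ⧸ N) := (ResidueField.lift fD).toAlgebra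
  letI : Algebra (ResidueField D) (ResidueField E) := (ResidueField.map (i : D →+* E)).toAlgebra
  haveI : IsScalarTower (ResidueField A) (ResidueField D) (ResidueField E) :=
    IsScalarTower.of_algebraMap_eq fun x => by
      obtain ⟨a, rfl⟩ := IsLocalRing.residue_surjective x
      change residue E (algebraMap A E a) = residue E (i (algebraMap A D a))
      rw [AlgHom.commutes]
  haveI : Module.Finite A (ResidueField E) := finite_quotient_maximal E hE
  haveI : Module.Finite (ResidueField A) (ResidueField E) :=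
    Module.Finite.of_restrictScalars_finite A (ResidueField A) (ResidueField E)
  haveI : Module.Finite (ResidueField D) (ResidueField E) :=
    Module.Finite.of_restrictScalars_finite (ResidueField A) (ResidueField D) (ResidueField E)
  letI : Algebra (ResidueField D) Ω := ((algebraMap (D' ⧸ N) Ω).comp (algebraMap (ResidueField D) (D' ⧸ N))).toAlgebra
  let ψ : ResidueField E →ₐ[ResidueField D] Ω := IsAlgClosed.lift
  let θ₁ : A' →ₐ[A] Ω := (IsScalarTower.toAlgHom A (D' ⧸ N) Ω).comp
    ((Ideal.Quotient.mkₐ A N).comp (Subalgebra.inclusion hle))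
  have hθD : ∀ d : D, ψ (residue E (i d)) = algebraMap (D' ⧸ N) Ω (Ideal.Quotient.mk N (ι d)) := fun d =>
    ψ.commutes (residue D d)
  let θ₂ : E →ₐ[A] Ω :=
    { (ψ : ResidueField E →+* Ω).comp (residue E) with
      commutes' := fun a => by
        change ψ (residue E (algebraMap A E a)) = algebraMap A Ω a
        rw [← AlgHom.commutes i a, hθD, AlgHom.commutes, IsScalarTower.algebraMap_apply A (D' ⧸ N) Ω]
        rfl }
  let θ := Algebra.TensorProduct.productMap θ₁ θ₂
  let M := RingHom.ker θ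
  haveI : M.IsPrime := RingHom.ker_isPrime _
  have hθ₂ : ∀ e : E, θ ((1 : A') ⊗ₜ e) = ψ (residue E e) := fun e => by
    rw [Algebra.TensorProduct.productMap_apply_tmul, map_one, one_mul]
    rfl
  have hME : maximalIdeal E ≤ M.comap (Algebra.TensorProduct.includeRight : E →ₐ[A] A' ⊗[A] E) := fun e he => by
    rw [Ideal.mem_comap, RingHom.mem_ker]
    change θ ((1 : A') ⊗ₜ e) = 0
    rw [hθ₂, (IsLocalRing.residue_eq_zero_iff e).2 he, map_zero]
  haveI := isIntegral_normA A' hA'
  haveI := finite_quotient_maximal E hE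
  obtain ⟨hMmax, hgM⟩ := isMaximal_tensor (A := A) (T := A') (U := E) (maximalIdeal E) g M hME fun a ha => by
    have h1 : algebraMap A E a ∈ maximalIdeal E :=
      fun hu => ha (isUnit_of_map_unit (algebraMap A E) a hu)
    have h2 := hME h1
    rw [Ideal.mem_comap, AlgHom.commutes] at h2
    exact Ideal.mem_comap.2 h2
  haveI := hMmax
  refine ⟨M, hMmax, ((‹N.IsMaximal›).eq_of_le hgM.ne_top fun x hx => ?_).symm⟩
  set φ := Algebra.TensorProduct.productMap (Subalgebra.inclusion hle) ι
  have hcompat : ∀ z : A' ⊗[A] D, θ (g (φ z)) = algebraMap (D' ⧸ N) Ω (Ideal.Quotient.mk N (φ z)) := by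
    intro z
    induction z using TensorProduct.induction_on with
    | zero => simp
    | tmul a d =>
      rw [Algebra.TensorProduct.productMap_apply_tmul, map_mul, map_mul, hgA, hgD, map_mul,
        Algebra.TensorProduct.productMap_apply_tmul, map_one, mul_one, hθ₂, hθD, map_mul]
      rfl
    | add z z' hz hz' => simp only [map_add, hz, hz']
  obtain ⟨z, hz⟩ := hsurjφ (Ideal.Quotient.mk _ x)
  have hr : x - φ z ∈ Ideal.jacobson (⊥ : Ideal D') := Ideal.Quotient.eq.1 hz.symm
  have hrM : x - φ z ∈ M.comap g := Ideal.mem_sInf.1 hr ⟨bot_le, hgM⟩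
  have hrN : x - φ z ∈ N := Ideal.mem_sInf.1 hr ⟨bot_le, ‹N.IsMaximal›⟩
  have hzN : φ z ∈ N := by simpa using N.sub_mem hx hrN
  have hzM : φ z ∈ M.comap g := by
    rw [Ideal.mem_comap, RingHom.mem_ker, hcompat, Ideal.Quotient.eq_zero_iff_mem.2 hzN, map_zero]
  simpa using (M.comap g).add_mem hrM hzM

include hA' hD' hι hgA hgD hg in
/-- The normalized tensor product is faithfully flat over the normalization. -/
theorem faithfullyFlat_normalization (hmin : (minimalPrimes A).Finite) (hE : EGA4loc.IsEssentiallyEtale A E)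
    [IsLocalHom (algebraMap A E)] [IsLocalHom (algebraMap D S)] [IsLocalHom (algebraMap E S)]
    (hsurjφ : Function.Surjective ((Ideal.Quotient.mkₐ A (Ideal.jacobson (⊥ : Ideal D'))).comp
      (Algebra.TensorProduct.productMap (Subalgebra.inclusion hle) ι))) :
    letI := g.toRingHom.toAlgebra
    Module.FaithfullyFlat D' (A' ⊗[A] E) := by
  letI := g.toRingHom.toAlgebra
  haveI : IsScalarTower A D' (A' ⊗[A] E) := IsScalarTower.of_algebraMap_eq fun a => (g.commutes a).symm
  haveI := EssEtFracLib.flat_of_essEt hE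
  obtain ⟨L, hL, hLred, hLart⟩ := exists_fracK hmin E hE D hDE
  haveI := hLred
  haveI := hLart
  have hleL : D' ≤ L := fun x hx => (hL x).2 ((hD' x).1 hx).2
  have hnormal : EGA4.IsNormalRing D' := by
    letI := ι.toRingHom.toAlgebra
    haveI := isIntegral_iota hD' ι hι
    haveI : IsScalarTower D D' (FractionRing S) := IsScalarTower.of_algebraMap_eq fun d => (hι d).symm
    refine isNormalRing_of_intClosed (Subalgebra.inclusion hleL).toRingHom (Subalgebra.inclusion_injective hleL)
      fun z hz => ?_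
    have hz' : IsIntegral D' (z : FractionRing S) := by
      obtain ⟨p, hp, hpz⟩ := hz
      refine ⟨p, hp, ?_⟩
      have h := congrArg L.val.toRingHom hpz
      rw [Polynomial.hom_eval₂, map_zero] at h
      exact h
    exact ⟨⟨z, (hD' _).2 ⟨isIntegral_trans _ hz', (hL _).1 z.2⟩⟩, Subtype.ext rfl⟩
  let π : D' ⊗[A] E →ₐ[D'] A' ⊗[A] E :=
    Algebra.TensorProduct.lift (Algebra.ofId D' (A' ⊗[A] E))
      (Algebra.TensorProduct.includeRight : E →ₐ[A] A' ⊗[A] E) fun _ _ => Commute.all _ _
  have hπ : Function.Surjective π := by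
    intro z
    induction z using TensorProduct.induction_on with
    | zero => exact ⟨0, map_zero _⟩
    | tmul a e =>
      refine ⟨Subalgebra.inclusion hle a ⊗ₜ e, ?_⟩
      rw [Algebra.TensorProduct.lift_tmul]
      change g (Subalgebra.inclusion hle a) * ((1 : A') ⊗ₜ e) = a ⊗ₜ e
      rw [hgA, Algebra.TensorProduct.tmul_mul_tmul, mul_one, one_mul]
    | add z z' hz hz' =>
      obtain ⟨y, rfl⟩ := hz
      obtain ⟨y', rfl⟩ := hz'
      exact ⟨y + y', map_add _ _ _⟩
  haveI := quasiFinite_tensor D' hE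
  haveI : Module.Flat D' (A' ⊗[A] E) := by
    refine flat_of_surjective_normal (E := A' ⊗[A] E) (isNormalRing_tensor D' hE hnormal) π hπ fun Q hQ => ?_
    haveI := hQ.1.1
    have hμ : Function.Injective (mu A' E).toRingHom := mu_injective A' hA' E
    obtain ⟨P, hP, -, hPQ⟩ := Ideal.exists_comap_eq_of_mem_minimalPrimes (mu A' E).toRingHom (I := ⊥) Q (by
      rw [Ideal.comap_bot_of_injective _ hμ]; exact hQ)
    haveI := hP
    let q0 := Q.comap (algebraMap D' (A' ⊗[A] E))
    have hq0 : ∀ x : D', x ∈ q0 ↔ (x : FractionRing S) ∈ P := fun x => by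
      change g x ∈ Q ↔ _
      rw [← hPQ]
      change mu A' E (g x) ∈ P ↔ _
      rw [hg]
    refine ⟨⟨Ideal.IsPrime.comap _, bot_le⟩, fun q hq hle' x hx => ?_⟩
    haveI := hq.1
    obtain ⟨z, hz⟩ := SemilocalEssLib.exists_regular (⟨x, hleL x.2⟩ : L)
    obtain ⟨a, ha, d, hd, hzd⟩ := (hL _).1 z.2
    have haP : algebraMap A D' a ∉ q0 := fun h =>
      hP.ne_top (P.eq_top_of_isUnit_mem ((hq0 _).1 h) (isUnit_algebraMap_frac (S := S) ha))
    have hz' : (x : FractionRing S) * (z : FractionRing S) * x = x := congrArg Subtype.val hz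
    have hprod : x * (x * ι ⟨d, hd⟩ - algebraMap A D' a) = 0 := by
      apply Subtype.ext
      change (x : FractionRing S) * ((x : FractionRing S) * (ι ⟨d, hd⟩ : FractionRing S) -
        algebraMap A (FractionRing S) a) = 0
      rw [hι, ← hzd]
      linear_combination algebraMap A (FractionRing S) a * hz'
    rcases hq.1.mem_or_mem (hprod ▸ q.zero_mem) with h | h
    · exact h
    · refine absurd ?_ haP
      have h1 : x * ι ⟨d, hd⟩ - algebraMap A D' a ∈ q0 := hle' h
      simpa using q0.sub_mem (q0.mul_mem_right (ι ⟨d, hd⟩) hx) h1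
  refine { submodule_ne_top := fun N hN htop => ?_ }
  haveI := hN
  obtain ⟨M, hM, hMN⟩ := exists_maximal_over hA' hD' hle ι hι E hDE g hgA hgD hE hsurjφ N
  rw [Ideal.smul_top_eq_map, Submodule.restrictScalars_eq_top_iff] at htop
  refine hM.ne_top (top_le_iff.1 (htop ▸ ?_))
  rw [Ideal.map_le_iff_le_comap]
  exact hMN.ge

include hA' hD' hle hι hg hgA hgD in
/-- Finiteness of the intermediate algebra and of its normalization. -/
theorem essFiniteType_and_finite (hN : CAlg.IsNagata A) (hE : EGA4loc.IsEssentiallyEtale A E)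
    [IsLocalHom (algebraMap A E)] [IsLocalHom (algebraMap D S)] [IsLocalHom (algebraMap E S)]
    (hfin : {N : Ideal D' | N.IsMaximal}.Finite)
    (hsurjφ : Function.Surjective ((Ideal.Quotient.mkₐ A (Ideal.jacobson (⊥ : Ideal D'))).comp
      (Algebra.TensorProduct.productMap (Subalgebra.inclusion hle) ι))) :
    Algebra.EssFiniteType A D ∧ (letI := ι.toRingHom.toAlgebra; Module.Finite D D') := by
  haveI := hN.1
  have hmin : (minimalPrimes A).Finite := minimalPrimes.finite_of_isNoetherianRing A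
  haveI := SemilocalEssLib.isReduced_of_essEt hE
  haveI := EssEtFracLib.flat_of_essEt hE
  let := EssEtFracLib.fracAlgebra hE
  have := EssEtFracLib.fracTower hE
  obtain ⟨hloc, hart, -⟩ := EssEtFracLib.main_frac hmin hE
  haveI := hloc
  haveI := hart
  haveI : IsReduced (FractionRing E) :=
    isReduced_localizationPreserves E⁰ (FractionRing E) ‹IsReduced E›
  haveI : IsLocalHom (algebraMap A D) := ⟨fun a ha => isUnit_of_map_unit (algebraMap A S) a (by
    rw [IsScalarTower.algebraMap_apply A D S]; exact ha.map (algebraMap D S))⟩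
  let K₀ := FractionRing E
  let f : E →ₐ[A] FractionRing S := (IsScalarTower.toAlgHom A S (FractionRing S)).comp E.val
  let ψ : K₀ →ₐ[A] FractionRing S := IsLocalization.liftAlgHom
    (M := A⁰.map (algebraMap A E)) (f := f) (by
      rintro ⟨_, a, ha, rfl⟩
      rw [AlgHom.commutes]
      exact isUnit_algebraMap_frac ha)
  have hψ : ∀ e : E, ψ (algebraMap E K₀ e) = algebraMap S (FractionRing S) e := fun e =>
    IsLocalization.lift_eq _ e
  have hψinj : Function.Injective ψ := by
    refine (injective_iff_map_eq_zero _).2 fun z hz => ?_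
    obtain ⟨b, a, rfl⟩ := IsLocalization.exists_mk'_eq (A⁰.map (algebraMap A E)) z
    have hb : algebraMap S (FractionRing S) (b : S) = 0 := by
      rw [← hψ, ← IsLocalization.mk'_spec K₀ b a, map_mul, hz, zero_mul]
    have hb0 : b = 0 := Subtype.ext (IsFractionRing.injective S (FractionRing S) (hb.trans (map_zero _).symm))
    rw [hb0, IsLocalization.mk'_zero]
  let R : Subalgebra A K₀ := (integralClosure E K₀).restrictScalars A
  have hR : integralClosure A K₀ ≤ R := fun x hx => (IsIntegral.tower_top hx : IsIntegral E x)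
  have hψint : ∀ y : K₀, IsIntegral E y ↔ IsIntegral E (ψ y) := fun y => by
    let ψE : K₀ →ₐ[E] FractionRing S :=
      { (ψ : K₀ →+* FractionRing S) with commutes' := fun e => hψ e }
    exact (isIntegral_algHom_iff ψE hψinj).symm
  have hσ : ∀ y : R, ψ (y : K₀) ∈ (mu A' E).range := fun y => by
    refine (mem_range_mu_iff A' hA' hmin E hE _).2 ⟨(hψint _).1 y.2, ?_⟩
    obtain ⟨e, ⟨_, a, ha, rfl⟩, hy⟩ := IsLocalization.exists_mk'_eq (A⁰.map (algebraMap A E)) (y : K₀)
    refine ⟨a, ha, e, e.2, ?_⟩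
    rw [← hψ, ← AlgHom.commutes ψ a, ← map_mul, ← hy, mul_comm, IsScalarTower.algebraMap_apply A E K₀]
    exact congrArg ψ (IsLocalization.mk'_spec K₀ e _)
  choose σf hσf' using hσ
  have hσf : ∀ z : R, mu A' E (σf z) = ψ (z : K₀) := hσf'
  have hμ := mu_injective A' hA' E
  let σ : R →ₐ[A] A' ⊗[A] E :=
    { toFun := σf
      map_one' := hμ (by change mu A' E (σf 1) = mu A' E 1; rw [map_one, hσf 1]; exact map_one ψ)
      map_mul' := fun x y => hμ (by
        change mu A' E (σf (x * y)) = mu A' E (σf x * σf y)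
        rw [map_mul, hσf x, hσf y, hσf (x * y)]; exact map_mul ψ _ _)
      map_zero' := hμ (by change mu A' E (σf 0) = mu A' E 0; rw [map_zero, hσf 0]; exact map_zero ψ)
      map_add' := fun x y => hμ (by
        change mu A' E (σf (x + y)) = mu A' E (σf x + σf y)
        rw [map_add, hσf x, hσf y, hσf (x + y)]; exact map_add ψ _ _)
      commutes' := fun a => hμ (by
        change mu A' E (σf (algebraMap A R a)) = mu A' E (algebraMap A _ a)
        rw [AlgHom.commutes, hσf (algebraMap A R a)]; exact ψ.commutes a) }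
  obtain ⟨L₀, hL₀, -, hred₀, hart₀⟩ := exists_fracSub hmin hE (D.comap E.val)
  haveI := hred₀
  haveI := hart₀
  let L : Subalgebra A K₀ := L₀.restrictScalars A
  have hreg : ∀ y ∈ L, ∃ z ∈ L, y * z * y = y := fun y hy => by
    obtain ⟨z, hz⟩ := SemilocalEssLib.exists_regular (⟨y, hy⟩ : L₀)
    exact ⟨z, z.2, congrArg Subtype.val hz⟩
  have hlift : ∀ x : D', ∃ y : K₀, y ∈ L ∧ IsIntegral E y ∧ ψ y = (x : FractionRing S) := by
    intro x
    obtain ⟨hint, a, ha, d, hd, hxd⟩ := (hD' _).1 x.2
    obtain ⟨v, hv⟩ := (EssEtFracLib.exists_fractionMap hE a ha).exists_left_inv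
    have hy : ψ (v * algebraMap E K₀ ⟨d, hDE hd⟩) = (x : FractionRing S) := by
      apply (isUnit_algebraMap_frac (S := S) ha).mul_left_cancel
      rw [hxd, ← AlgHom.commutes ψ a, ← map_mul, ← mul_assoc, mul_comm (algebraMap A K₀ a) v, hv, one_mul, hψ]
    refine ⟨_, (hL₀ _).2 ⟨a, ha, ⟨d, hDE hd⟩, hd, ?_⟩, (hψint _).2 ?_, hy⟩
    · rw [← mul_assoc, mul_comm (algebraMap A K₀ a) v, hv, one_mul]
    · rw [hy]
      obtain ⟨p, hp, hpx⟩ := hint
      exact ⟨p.map (Subalgebra.inclusion hDE).toRingHom, hp.map _, by rw [Polynomial.eval₂_map]; exact hpx⟩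
  letI : Algebra D D' := ι.toRingHom.toAlgebra
  haveI : IsScalarTower A D D' := IsScalarTower.of_algebraMap_eq fun a => (ι.commutes a).symm
  haveI := isIntegral_iota hD' ι hι
  let C : Subalgebra A D' := integralClosure A D'
  choose y hyL hyint hyψ using hlift
  haveI := SemilocalEssLib.finite_integralClosure_fraction hN hE
  haveI : Module.Finite A C := by
    have hc : ∀ c : C, IsIntegral A (y c.1) := fun c => by
      refine (isIntegral_algHom_iff ψ hψinj).1 ?_
      rw [hyψ]
      exact (c.2 : IsIntegral A c.1).map D'.val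
    let F : C →ₗ[A] integralClosure A K₀ :=
      { toFun := fun c => ⟨y c.1, hc c⟩
        map_add' := fun a b => Subtype.ext (hψinj (by
          change ψ (y (a + b).1) = ψ (y a.1 + y b.1)
          rw [map_add, hyψ, hyψ, hyψ]; rfl))
        map_smul' := fun r a => Subtype.ext (hψinj (by
          change ψ (y (r • a).1) = ψ (r • y a.1)
          rw [map_smul, hyψ, hyψ]; rfl)) }
    exact Module.Finite.of_injective F fun a b h => Subtype.ext (Subtype.ext (by
      rw [← hyψ a.1, ← hyψ b.1]
      exact congrArg ψ (congrArg Subtype.val h :)))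
  have hfrac : ∀ (x : D') (N : Ideal D'), N.IsMaximal → ∃ a ∈ C, a ∉ N ∧ a * x ∈ C := by
    intro x N hN'
    haveI := hN'
    obtain ⟨M, hM, hMN⟩ := exists_maximal_over hA' hD' hle ι hι E hDE g hgA hgD hE hsurjφ N
    haveI := hM
    let MR := M.comap σ
    haveI : MR.IsPrime := Ideal.IsPrime.comap σ
    obtain ⟨p₀, hp₀, hp₀M⟩ := Ideal.exists_minimalPrimes_le (bot_le : (⊥ : Ideal R) ≤ MR)
    have hp₀' : p₀ ∈ ((⊥ : Ideal K₀).comap R.val.toRingHom).minimalPrimes := by
      rwa [Ideal.comap_bot_of_injective _ (Subtype.val_injective : Function.Injective R.val.toRingHom)]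
    obtain ⟨P, hP, -, hPp₀⟩ := Ideal.exists_comap_eq_of_mem_minimalPrimes R.val.toRingHom p₀ hp₀'
    haveI := hP
    haveI : P.IsMaximal := IsArtinianRing.isMaximal_of_isPrime P
    obtain ⟨v, hvu, hvi, hvy⟩ := SemilocalEssLib.exists_unit_mul_integral_of_isIntegral hE (K := K₀) (hyint x)
    have hsi : IsIntegral A (algebraMap E K₀ v) := hvi.map (IsScalarTower.toAlgHom A E K₀)
    have hsu : IsUnit (⟨algebraMap E K₀ v, hR hsi⟩ : R) := hvu.map (algebraMap E (integralClosure E K₀))
    have hsM : (⟨algebraMap E K₀ v, hR hsi⟩ : R) ∉ MR := fun h =>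
      (Ideal.IsPrime.ne_top ‹MR.IsPrime›) (MR.eq_top_of_isUnit_mem h hsu)
    obtain ⟨a, ha, hai, haM, hax⟩ := SemilocalEssLib.exists_mul_integral L hreg P R hR MR
      (fun r hr => hp₀M (by rw [← hPp₀]; exact hr)) (hyL x) hsi (by rw [mul_comm]; exact hvy) hsM
    have haD : ψ a ∈ D' := by
      refine (hD' _).2 ⟨(hai.map ψ).tower_top, ?_⟩
      obtain ⟨b, hb, d, hd, hbd⟩ := (hL₀ a).1 ha
      refine ⟨b, hb, (d : S), hd, ?_⟩
      rw [← AlgHom.commutes ψ b, ← map_mul, hbd, hψ]
    refine ⟨⟨ψ a, haD⟩, (isIntegral_algHom_iff D'.val Subtype.val_injective).1 (hai.map ψ), fun hN'' => haM ?_, ?_⟩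
    · rw [← hMN] at hN''
      change σ ⟨a, hR hai⟩ ∈ M
      have : σ ⟨a, hR hai⟩ = g ⟨ψ a, haD⟩ := hμ ((hσf _).trans (hg ⟨ψ a, haD⟩).symm)
      rw [this]
      exact hN''
    · refine (isIntegral_algHom_iff D'.val Subtype.val_injective).1 ?_
      change IsIntegral A (ψ a * (x : FractionRing S))
      rw [← hyψ x, ← map_mul]
      exact hax.map ψ
  have hinjD : Function.Injective (algebraMap D D') := fun d e h => Subtype.ext
    (IsFractionRing.injective S (FractionRing S) (by rw [← hι, ← hι]; exact congrArg Subtype.val h))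
  exact ⟨SemilocalEssLib.essFiniteType_of_semilocal hinjD C hfin hfrac, finite_of_semilocal C hfin hfrac⟩

end SHSubLib
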