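import Groth.Agent.SHGalLib.Cover
import Groth.Agent.SHSubLib.Main
import Groth.Agent.SHSubLib.Residue
import Groth.Agent.S0507
import Groth.Agent.S0508
import Groth.Agent.S0509
import Groth.Agent.S0511
import Groth.Agent.S0538
import Mathlib

/-! Elements approximated by an intermediate algebra lie in essentially etale subalgebras with small residue field. -/

set_option autoImplicit false
set_option synthInstance.maxHeartbeats 400000
set_option maxHeartbeats 1600000

universe u

open IsLocalRing TensorProduct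

namespace SHSubLib

/-- Etale algebras lift through a local map out of a henselian ring when their residues do. -/
theorem exists_algHom_lift {R C T S : Type u} [CommRing R] [CommRing C] [Algebra R C] [Algebra.Etale R C]
    [CommRing T] [HenselianLocalRing T] [Algebra R T] [CommRing S] [IsLocalRing S] [Algebra R S]
    (θ : T →ₐ[R] S) [IsLocalHom (θ : T →+* S)] (f : C →ₐ[R] S)
    (h : ∀ c, ∃ z, residue S (θ z) = residue S (f c)) : ∃ ψ : C →ₐ[R] T, ∀ c, θ (ψ c) = f c := by
  let i : ResidueField T →+* ResidueField S := ResidueField.map (θ : T →+* S)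
  have hi : Function.Injective i := i.injective
  have hmem : ∀ c, ((residue S).comp (f : C →+* S)) c ∈ i.range := fun c => by
    obtain ⟨z, hz⟩ := h c
    exact ⟨residue T z, hz⟩
  let e : ResidueField T ≃+* i.range := RingEquiv.ofBijective i.rangeRestrict
    ⟨fun x y hxy => hi (congrArg Subtype.val hxy), i.rangeRestrict_surjective⟩
  let θ₀ : C →+* ResidueField T := e.symm.toRingHom.comp (((residue S).comp (f : C →+* S)).codRestrict i.range hmem)
  have hθ₀ : ∀ c, i (θ₀ c) = residue S (f c) := fun c => congrArg Subtype.val (e.apply_symm_apply ⟨_, hmem c⟩)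
  obtain ⟨ψ, hψ, -⟩ := HenselLib.existsUnique_algHom θ₀ (RingHom.ext fun r => hi (by
    rw [RingHom.comp_apply, hθ₀, AlgHom.commutes, RingHom.comp_apply]
    change residue S (algebraMap R S r) = residue S (θ (algebraMap R T r))
    rw [AlgHom.commutes]))
  refine ⟨ψ, fun c => ?_⟩
  have h1 : θ.comp ψ = f :=
    HenselLib.algHom_ext_of_sub_mem (J := maximalIdeal S) (IsLocalRing.maximalIdeal_le_jacobson _) _ _ fun x => by
      rw [← residue_eq_zero_iff, map_sub, AlgHom.comp_apply, ← hθ₀ x, ← hψ x]
      exact sub_self _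
  exact DFunLike.congr_fun h1 c

/-- An essentially etale subalgebra with small residue field lies in the image of a henselian ring. -/
theorem le_range_of_residue {A T S : Type u} [CommRing A] [IsLocalRing A] [CommRing T] [HenselianLocalRing T]
    [Algebra A T] [CommRing S] [IsLocalRing S] [Algebra A S] (θ : T →ₐ[A] S) [IsLocalHom (θ : T →+* S)]
    (E : Subalgebra A S) [IsLocalRing E] [IsLocalHom (algebraMap E S)] (hE : EGA4loc.IsEssentiallyEtale A E)
    (h : ∀ e : E, ∃ z, residue S (θ z) = residue S (e : S)) : E ≤ θ.range := by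
  obtain ⟨C, _, _, q, _, hC, -, ⟨ε⟩⟩ := hE
  let f : C →ₐ[A] S := E.val.comp (ε.symm.toAlgHom.comp (IsScalarTower.toAlgHom A C (Localization.AtPrime q)))
  obtain ⟨ψ, hψ⟩ := exists_algHom_lift θ f fun c => h _
  intro x hx
  obtain ⟨c, t, hct⟩ := IsLocalization.exists_mk'_eq q.primeCompl (ε ⟨x, hx⟩)
  have hu : IsUnit (f t) :=
    (((IsLocalization.map_units (Localization.AtPrime q) t).map ε.symm).map E.val)
  have hu' : IsUnit (ψ t) := isUnit_of_map_unit (θ : T →+* S) _ ((hψ t).symm ▸ hu)
  obtain ⟨w, hw⟩ := hu'.exists_right_inv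
  refine ⟨ψ c * w, ?_⟩
  change θ (ψ c * w) = x
  apply hu.mul_left_cancel
  have h1 : f t * x = f c := by
    have h2 := congrArg (fun y => E.val (ε.symm y)) (IsLocalization.mk'_spec (Localization.AtPrime q) c t)
    simp only [map_mul] at h2
    rw [hct, AlgEquiv.symm_apply_apply] at h2
    rw [mul_comm]
    exact h2
  rw [h1, ← hψ, ← map_mul, mul_left_comm, hw, mul_one, hψ]

/-- A ring covered by etale algebras has every flat algebra over the base flat over it. -/
theorem flat_of_forall_etCov {A H S : Type u} [CommRing A] [CommRing H] [CommRing S] [Algebra A H] [Algebra A S]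
    [Algebra H S] [IsScalarTower A H S] [Module.Flat A S] (hcov : ∀ x : H, HenselLib.EtCov (R := A) x) :
    Module.Flat H S := by
  classical
  refine Module.Flat.iff_forall_isTrivialRelation.2 fun {l f x} hfx => ?_
  obtain ⟨U, _, _, _, ξ, hξ⟩ := HenselLib.exists_etale_cover (Finset.univ.image f) fun a _ => hcov a
  choose v hv using fun i => hξ (f i) (Finset.mem_image_of_mem _ (Finset.mem_univ i))
  letI : Algebra U S := ((IsScalarTower.toAlgHom A H S).comp ξ).toRingHom.toAlgebra
  haveI : IsScalarTower A U S :=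
    IsScalarTower.of_algebraMap_eq fun r => (((IsScalarTower.toAlgHom A H S).comp ξ).commutes r).symm
  haveI : Module.Flat U S := HenselLib.flat_of_etale (R := A)
  obtain ⟨k, a, y, hy, ha⟩ := Module.Flat.isTrivialRelation_of_sum_smul_eq_zero (f := v) (x := x) (by
    rw [← hfx]
    refine Finset.sum_congr rfl fun i _ => ?_
    rw [Algebra.smul_def, Algebra.smul_def, ← hv i]
    rfl)
  refine ⟨k, fun i j => ξ (a i j), y, fun i => ?_, fun j => ?_⟩
  · rw [hy i]
    refine Finset.sum_congr rfl fun j _ => ?_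
    rw [Algebra.smul_def, Algebra.smul_def]
    rfl
  · simp only [← hv]
    change ∑ i, ξ (v i) * ξ (a i j) = 0
    simp only [← map_mul]
    rw [← map_sum, ha j, map_zero]

/-- A family adapted to two subspaces meeting in the constants, with coordinate functionals. -/
theorem exists_family {k₀ K : Type u} [Field k₀] [Field K] [Algebra k₀ K] (M F : Submodule k₀ K)
    [FiniteDimensional k₀ F] (h1 : (1 : K) ∈ F) (h : ∀ x ∈ F, x ∈ M → x ∈ Set.range (algebraMap k₀ K)) :
    ∃ (κ : Type u) (r : ℕ) (β : κ → K) (c : Fin r → K) (φ : κ ⊕ Fin r → K →ₗ[k₀] k₀),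
      (∀ i, β i ∈ M) ∧ (∀ x ∈ M, x ∈ Submodule.span k₀ (Set.range β)) ∧ (∀ l, c l ∈ F) ∧
      (∀ x ∈ F, ∃ (γ : k₀) (a : Fin r → k₀), x = algebraMap k₀ K γ + ∑ l, a l • c l) ∧
      (∀ i, φ i (Sum.elim β c i) = 1) ∧ ∀ i l, l ≠ i → φ i (Sum.elim β c l) = 0 := by
  classical
  let P : Submodule k₀ K := Submodule.span k₀ {1}
  obtain ⟨C, hC⟩ := Submodule.exists_isCompl P
  let W := C ⊓ F
  haveI : FiniteDimensional k₀ W := Submodule.finiteDimensional_of_le inf_le_right
  let βb := Module.Basis.ofVectorSpace k₀ M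
  let cb := Module.finBasis k₀ W
  let β : _ → K := fun i => ((βb i : M) : K)
  let c : Fin _ → K := fun l => ((cb l : W) : K)
  have hv : LinearIndependent k₀ (Sum.elim β c) := by
    refine LinearIndependent.sum_type (βb.linearIndependent.map' M.subtype (Submodule.ker_subtype _))
      (cb.linearIndependent.map' W.subtype (Submodule.ker_subtype _)) ?_
    rw [Submodule.disjoint_def]
    intro x hx hx'
    have h2 : x ∈ M := (Submodule.span_le (p := M)).2 (by rintro _ ⟨i, rfl⟩; exact (βb i).2) hx
    have h3 : x ∈ W := (Submodule.span_le (p := W)).2 (by rintro _ ⟨i, rfl⟩; exact (cb i).2) hx'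
    obtain ⟨γ, hγ⟩ := h _ h3.2 h2
    have h4 : x ∈ P := Submodule.mem_span_singleton.2 ⟨γ, by rw [← Algebra.algebraMap_eq_smul_one]; exact hγ⟩
    exact Submodule.disjoint_def.1 hC.disjoint _ h4 h3.1
  have hfun : ∀ i, ∃ φ : K →ₗ[k₀] k₀, φ (Sum.elim β c i) = 1 ∧ ∀ l, l ≠ i → φ (Sum.elim β c l) = 0 := fun i => by
    obtain ⟨φ, hφ⟩ := LinearMap.exists_extend ((Module.Basis.span hv).coord i)
    have hl : ∀ l, φ (Sum.elim β c l) = if l = i then 1 else 0 := fun l => by
      have h := DFunLike.congr_fun hφ ((Module.Basis.span hv) l)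
      rw [LinearMap.comp_apply, Module.Basis.coord_apply, Module.Basis.repr_self, Finsupp.single_apply,
        Submodule.subtype_apply, Module.Basis.span_apply] at h
      exact h
    exact ⟨φ, by rw [hl, if_pos rfl], fun l hne => by rw [hl, if_neg hne]⟩
  choose φ hφ1 hφ0 using hfun
  refine ⟨_, _, β, c, φ, fun i => (βb i).2, fun x hx => ?_, fun l => (cb l).2.2, fun x hx => ?_, hφ1, hφ0⟩
  · have hres : (⟨x, hx⟩ : M) ∈ Submodule.span k₀ (Set.range βb) := by rw [βb.span_eq]; exact Submodule.mem_top
    have h' := Submodule.mem_map_of_mem (f := M.subtype) hres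
    rw [Submodule.map_span, ← Set.range_comp] at h'
    exact h'
  · have hPF : P ≤ F := (Submodule.span_singleton_le_iff_mem 1 F).2 h1
    have hx' : x ∈ P ⊔ W := by
      rw [show P ⊔ W = (P ⊔ C) ⊓ F from (sup_inf_assoc_of_le C hPF).symm, hC.sup_eq_top]
      exact ⟨Submodule.mem_top, hx⟩
    obtain ⟨p, hp, q, hq, hpq⟩ := Submodule.mem_sup.1 hx'
    obtain ⟨γ, rfl⟩ := Submodule.mem_span_singleton.1 hp
    refine ⟨γ, fun l => cb.repr ⟨q, hq⟩ l, ?_⟩
    have h3 := congrArg (fun y : W => (y : K)) (cb.sum_repr ⟨q, hq⟩)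
    simp only [AddSubmonoidClass.coe_finset_sum, Submodule.coe_smul] at h3
    rw [← hpq, Algebra.algebraMap_eq_smul_one]; exact congrArg (fun y => γ • (1 : K) + y) h3.symm

set_option synthInstance.maxHeartbeats 200000 in
/-- Finite etale local algebras over a covered henselian ring are covered. -/
theorem forall_etCov_of_etale {A H B : Type u} [CommRing A] [IsLocalRing A] [CommRing H] [IsLocalRing H]
    [CommRing B] [HenselianLocalRing B] [Algebra A H] [Algebra H B] [Algebra A B] [IsScalarTower A H B]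
    [Algebra.Etale H B] [Module.Finite H B] [IsLocalHom (algebraMap H B)]
    (hres : ∀ y : H, ∃ a : A, residue H (algebraMap A H a) = residue H y)
    (hH : ∀ y : H, HenselLib.EtCov (R := A) y) : ∀ b : B, HenselLib.EtCov (R := A) b := by
  haveI : FiniteDimensional (ResidueField H) (ResidueField B) := inferInstance
  obtain ⟨γ, hγ⟩ := Field.exists_primitive_element (ResidueField H) (ResidueField B)
  have hint : IsIntegral (ResidueField H) γ := Algebra.IsIntegral.isIntegral γ
  let rA : A →+* ResidueField H := (residue H).comp (algebraMap A H)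
  have hrA : Function.Surjective rA := fun y => by
    obtain ⟨y, rfl⟩ := IsLocalRing.residue_surjective y
    exact hres y
  obtain ⟨P, hP, -, hPm⟩ := Polynomial.lifts_and_natDegree_eq_and_monic
    (f := rA) (p := minpoly (ResidueField H) γ) (Polynomial.map_surjective _ hrA _) (minpoly.monic hint)
  obtain ⟨b₀, hb₀⟩ := IsLocalRing.residue_surjective γ
  have hsq : ∀ a : A, residue B (algebraMap A B a) = algebraMap (ResidueField H) (ResidueField B) (rA a) := fun a => by
    rw [IsScalarTower.algebraMap_apply A H B]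
    rfl
  have hev : ∀ (b : B) (Q : Polynomial A), residue B ((Polynomial.aeval b) Q) =
      (Polynomial.aeval (residue B b)) (Q.map rA) := fun b Q => by
    rw [Polynomial.aeval_def, Polynomial.aeval_def, Polynomial.hom_eval₂, Polynomial.eval₂_map]
    congr 1
    exact RingHom.ext hsq
  have h0 : (Polynomial.aeval b₀) P ∈ maximalIdeal B := by
    rw [← residue_eq_zero_iff, hev, hb₀, hP, minpoly.aeval]
  have h1 : IsUnit ((Polynomial.aeval b₀) P.derivative) := by
    rw [← notMem_maximalIdeal, ← residue_eq_zero_iff, hev, hb₀, ← Polynomial.derivative_map, hP]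
    exact (Algebra.IsSeparable.isSeparable (ResidueField H) γ).aeval_derivative_ne_zero (minpoly.aeval _ _)
  obtain ⟨τ, hτ, hτb⟩ := HenselianLocalRing.is_henselian (P.map (algebraMap A B)) (hPm.map _) b₀
    (by rw [Polynomial.eval_map_algebraMap]; exact h0)
    (by rw [Polynomial.derivative_map, Polynomial.eval_map_algebraMap]; exact h1)
  have hτ' : (Polynomial.aeval τ) P = 0 := by
    rw [← Polynomial.eval_map_algebraMap]; exact hτ
  have hτγ : residue B τ = γ := by
    rw [← hb₀, ← sub_eq_zero, ← map_sub, residue_eq_zero_iff]; exact hτb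
  have hτu : IsUnit ((Polynomial.aeval τ) P.derivative) := by
    rw [← notMem_maximalIdeal, ← residue_eq_zero_iff, hev, hτγ, ← hb₀, ← hev, residue_eq_zero_iff,
      notMem_maximalIdeal]
    exact h1
  let Q := HenselLib.rootPair P hPm
  have hτcov : τ ∈ HenselLib.etCovSubalgebra A B := by
    have hm : Q.HasMap τ := ⟨hτ', hτu⟩
    exact ⟨Q.Ring, _, _, inferInstance, Q.lift τ hm, Q.X, Q.lift_X τ hm⟩
  have htop : Algebra.adjoin H {τ} = ⊤ := by
    rw [← Algebra.toSubmodule_eq_top]
    refine top_le_iff.1 (Submodule.le_of_le_smul_of_le_jacobson_bot Module.Finite.fg_top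
      (maximalIdeal_le_jacobson (R := H) ⊥) fun b _ => ?_)
    have hγb : residue B b ∈ Algebra.adjoin (ResidueField H) {γ} := by
      rw [← IntermediateField.adjoin_simple_toSubalgebra_of_isAlgebraic hint.isAlgebraic, hγ,
        IntermediateField.top_toSubalgebra]
      exact Algebra.mem_top
    rw [Algebra.adjoin_singleton_eq_range_aeval] at hγb
    obtain ⟨q, hq⟩ := hγb
    obtain ⟨Q', hQ'⟩ := Polynomial.map_surjective _ IsLocalRing.residue_surjective q
    have hb : b - (Polynomial.aeval τ) Q' ∈ maximalIdeal B := by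
      rw [← residue_eq_zero_iff, map_sub, sub_eq_zero, Polynomial.aeval_def, Polynomial.hom_eval₂, hτγ]
      refine hq.symm.trans ?_
      rw [← hQ']
      exact Polynomial.eval₂_map (residue H) (algebraMap (ResidueField H) (ResidueField B)) γ
    rw [← sub_add_cancel b ((Polynomial.aeval τ) Q'), add_comm]
    refine Submodule.add_mem_sup (Polynomial.aeval_mem_adjoin_singleton H τ) ?_
    rw [Ideal.smul_top_eq_map, Submodule.restrictScalars_mem,
      Algebra.FormallyUnramified.map_maximalIdeal (R := H) (S := B)]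
    exact hb
  intro b
  have hb : b ∈ Algebra.adjoin H {τ} := htop ▸ Algebra.mem_top
  change b ∈ HenselLib.etCovSubalgebra A B
  induction hb using Algebra.adjoin_induction with
  | mem y hy => rw [Set.mem_singleton_iff.1 hy]; exact hτcov
  | algebraMap r => exact HenselLib.EtCov.map (hH r) (IsScalarTower.toAlgHom A H B)
  | add y y' _ _ hy hy' => exact add_mem hy hy'
  | mul y y' _ _ hy hy' => exact mul_mem hy hy'

/-- Covered local subrings contain essentially etale local subalgebras around finitely many elements. -/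
theorem exists_essEt_of_covered {A B S : Type u} [CommRing A] [IsLocalRing A] [CommRing B] [IsLocalRing B]
    [CommRing S] [IsLocalRing S] [Algebra A B] [Algebra A S] [IsLocalHom (algebraMap A S)] [Module.Flat A B]
    (j : B →ₐ[A] S) (hj : Function.Injective j) [IsLocalHom (j : B →+* S)]
    (hcov : ∀ b : B, HenselLib.EtCov (R := A) b) (s : Finset B) :
    ∃ E : Subalgebra A S, (∀ b ∈ s, j b ∈ E) ∧ E ≤ j.range ∧ ∃ _ : IsLocalRing E, IsLocalHom (algebraMap E S) ∧
      EGA4loc.IsEssentiallyEtale A E := by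
  obtain ⟨U, _, _, _, q, _, ψ, hψloc, hψflat, hψs⟩ := HenselLib.exists_local_cover hcov s
  let Ψ : Localization.AtPrime q →ₐ[A] S := j.comp ψ
  have hΨinj : Function.Injective Ψ := by
    letI : Algebra (Localization.AtPrime q) B := (ψ : Localization.AtPrime q →+* B).toAlgebra
    haveI : Module.Flat (Localization.AtPrime q) B := hψflat
    haveI : IsLocalHom (algebraMap (Localization.AtPrime q) B) := hψloc
    haveI : Module.FaithfullyFlat (Localization.AtPrime q) B := Module.FaithfullyFlat.of_flat_of_isLocalHom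
    exact hj.comp (FaithfulSMul.algebraMap_injective (Localization.AtPrime q) B)
  let ε : Localization.AtPrime q ≃ₐ[A] Ψ.range := AlgEquiv.ofInjective Ψ hΨinj
  haveI : IsLocalRing Ψ.range := RingEquiv.isLocalRing ε.toRingEquiv
  have hloc : ∀ b, IsUnit (Ψ b) → IsUnit b := fun b hb =>
    hψloc.map_nonunit b (isUnit_of_map_unit (j : B →+* S) _ hb)
  have hlocal : IsLocalHom (algebraMap Ψ.range S) := ⟨fun y hy => by
    obtain ⟨b, rfl⟩ := ε.surjective y
    exact (hloc b hy).map ε⟩
  refine ⟨Ψ.range, fun b hb => ?_, ?_, inferInstance, hlocal, U, inferInstance, inferInstance, q, inferInstance,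
    inferInstance, ?_, ⟨ε.symm⟩⟩
  · obtain ⟨u, hu⟩ := hψs b hb
    exact ⟨u, congrArg j hu⟩
  · rintro _ ⟨u, rfl⟩
    exact ⟨ψ u, rfl⟩
  · have h1 : (maximalIdeal S).comap (algebraMap A S) = maximalIdeal A :=
      ((IsLocalRing.local_hom_TFAE (algebraMap A S)).out 0 4).1 ‹_›
    haveI : IsLocalHom (Ψ : Localization.AtPrime q →+* S) := ⟨hloc⟩
    have h2 : (maximalIdeal S).comap (Ψ : Localization.AtPrime q →+* S) = maximalIdeal (Localization.AtPrime q) :=
      ((IsLocalRing.local_hom_TFAE (Ψ : Localization.AtPrime q →+* S)).out 0 4).1 ‹_›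
    rw [← h1, show algebraMap A S = (Ψ : Localization.AtPrime q →+* S).comp (algebraMap A (Localization.AtPrime q))
      from (Ψ.comp_algebraMap).symm, ← Ideal.comap_comap, h2, IsScalarTower.algebraMap_eq A U (Localization.AtPrime q),
      ← Ideal.comap_comap]
    exact congrArg (Ideal.comap (algebraMap A U))
      (IsLocalization.AtPrime.under_maximalIdeal (Localization.AtPrime q) q).symm

/-- Elements of a two-step etale tower which are spanned by a small algebra modulo high powers lie in the bottom. -/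
theorem mem_range_of_forall_mem_span {A B₀ B₁ S : Type u} [CommRing A] [IsLocalRing A] [CommRing B₀] [IsLocalRing B₀]
    [IsNoetherianRing B₀] [CommRing B₁] [CommRing S] [Algebra A S] [Algebra A B₀] [Algebra B₀ S] [IsScalarTower A B₀ S]
    [Module.Flat B₀ S] [Algebra B₀ B₁] (j₁ : B₁ →ₐ[B₀] S)
    (hm : (maximalIdeal A).map (algebraMap A B₀) ≤ maximalIdeal B₀)
    {κ : Type u} [DecidableEq κ] {r : ℕ} (β : κ → S) (cB : Fin r → B₁)
    (hspan : Submodule.span B₀ (insert 1 (Set.range cB)) = ⊤)
    (Λ : κ ⊕ Fin r → S →ₗ[B₀] B₀ ⧸ maximalIdeal B₀)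
    (hΛ : ∀ i l, Λ l (Sum.elim β (fun l => j₁ (cB l)) i) = if i = l then 1 else 0)
    (x : S) (hx : x ∈ j₁.range)
    (happ : ∀ n, x ∈ Submodule.span B₀ (Set.range β) ⊔ ((maximalIdeal A ^ n).map (algebraMap A S)).restrictScalars B₀)
    (happ₀ : ∀ (a₀ : B₀) n, algebraMap B₀ S a₀ ∈
      Submodule.span B₀ (Set.range β) ⊔ ((maximalIdeal A ^ n).map (algebraMap A S)).restrictScalars B₀) :
    x ∈ Set.range (algebraMap B₀ S) := by
  classical
  obtain ⟨b, hb⟩ := hx
  have hbV : b ∈ Submodule.span B₀ (insert 1 (Set.range cB)) := hspan ▸ Submodule.mem_top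
  obtain ⟨a₀, z', hz', hbz⟩ := Submodule.mem_span_insert.1 hbV
  obtain ⟨a, ha⟩ := (Submodule.mem_span_range_iff_exists_fun _).1 hz'
  let e : κ ⊕ Fin r → S := Sum.elim β (fun l => j₁ (cB l))
  have hxe : x = algebraMap B₀ S a₀ + ∑ l, a l • e (Sum.inr l) := by
    rw [← hb, hbz, ← ha]
    change j₁ (a₀ • (1 : B₁) + ∑ l, a l • cB l) = _
    simp only [map_add, map_sum, map_smul, map_one, ← Algebra.algebraMap_eq_smul_one, e, Sum.elim_inr, AlgHom.commutes]
  have hzero : ∀ n l, a l ∈ (maximalIdeal A ^ n).map (algebraMap A B₀) := by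
    intro n
    have hmem : x - algebraMap B₀ S a₀ ∈ Submodule.span B₀ (Set.range β) ⊔
        ((maximalIdeal A ^ n).map (algebraMap A S)).restrictScalars B₀ := sub_mem (happ n) (happ₀ a₀ n)
    obtain ⟨p, hp, q, hq, hpq⟩ := Submodule.mem_sup.1 hmem
    obtain ⟨c, hc⟩ := Finsupp.mem_span_range_iff_exists_finsupp.1 hp
    let F : Finset (κ ⊕ Fin r) := c.support.disjSum Finset.univ
    let α : F → B₀ := fun i => Sum.elim (fun i => - c i) a i.1
    have hα : ∑ i : F, α i • e i.1 ∈ (maximalIdeal A ^ n).map (algebraMap A B₀) • (⊤ : Submodule B₀ S) := by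
      rw [Ideal.smul_top_eq_map, Ideal.map_map, ← IsScalarTower.algebraMap_eq,
        Finset.sum_coe_sort F (fun i => Sum.elim (fun i => - c i) a i • e i), Finset.sum_disjSum]
      have h1 : (∑ i ∈ c.support, Sum.elim (fun i => - c i) a (Sum.inl i) • e (Sum.inl i)) +
          ∑ i, Sum.elim (fun i => - c i) a (Sum.inr i) • e (Sum.inr i) = q := by
        have h3 : x - algebraMap B₀ S a₀ = ∑ l, a l • e (Sum.inr l) := by rw [hxe]; ring
        have h2 : q = x - algebraMap B₀ S a₀ - p := by rw [← hpq]; ring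
        rw [h2, h3, ← hc]
        simp only [Finsupp.sum, Sum.elim_inl, Sum.elim_inr, neg_smul, Finset.sum_neg_distrib, e]
        abel
      rw [h1]
      exact hq
    intro l
    exact coeff_mem_of_flat (maximalIdeal B₀) _ (maximalIdeal_le_jacobson ⊥) (fun i : F => e i.1)
      (fun i : F => Λ i.1) (fun i i' => by rw [hΛ]; exact if_congr Subtype.coe_inj rfl rfl) α hα
      ⟨Sum.inr l, Finset.inr_mem_disjSum.2 (Finset.mem_univ l)⟩
  have hal : ∀ l, a l = 0 := fun l => by
    have h : a l ∈ ⨅ n : ℕ, maximalIdeal B₀ ^ n := (Submodule.mem_iInf _).2 fun n => by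
      refine (?_ : (maximalIdeal A ^ n).map (algebraMap A B₀) ≤ _) (hzero n l)
      rw [Ideal.map_pow]
      exact Ideal.pow_right_mono hm n
    rw [Ideal.iInf_pow_eq_bot_of_isLocalRing _ (maximalIdeal.isMaximal _).ne_top] at h
    exact (Submodule.mem_bot _).1 h
  exact ⟨a₀, by rw [hxe]; simp [hal]⟩

variable {A S : Type u} [CommRing A] [IsLocalRing A] [IsNoetherianRing A] [CommRing S] [IsLocalRing S] [Algebra A S]
  [IsLocalHom (algebraMap A S)] [Hensel.IsStrictHenselization A S]

/-- Elements approximated by an intermediate algebra with approximable maximal ideal lie in essentially etale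
subalgebras contained in the image of its henselization. -/
theorem exists_cover (D : Subalgebra A S) {T : Type u} [CommRing T] [HenselianLocalRing T] [Algebra A T]
    (θ : T →ₐ[A] S) [IsLocalHom (θ : T →+* S)] [IsLocalHom (algebraMap A T)] (hDθ : D ≤ θ.range)
    (happrox : ∀ (z : T) (n : ℕ), ∃ d ∈ D, θ z - d ∈ (maximalIdeal A ^ n).map (algebraMap A S))
    (hD : ∀ x : D, (x : S) ∈ maximalIdeal S → ∀ n : ℕ, ∃ y ∈ (maximalIdeal A).map (algebraMap A D),
      (x : S) - ((y : D) : S) ∈ (maximalIdeal A ^ n).map (algebraMap A S))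
    (s : Finset S) (hs : ∀ x ∈ s, x ∈ θ.range) :
    ∃ E : Subalgebra A S, (s : Set S) ⊆ E ∧ E ≤ θ.range ∧ ∃ _ : IsLocalRing E, IsLocalHom (algebraMap E S) ∧
      EGA4loc.IsEssentiallyEtale A E := by
  classical
  haveI hffA : Module.FaithfullyFlat A S := Groth.Agent.S0539.result A S
  haveI hSh : HenselianLocalRing S := Hensel.IsStrictHenselization.henselian A
  -- henselization of the base
  let H := HenselLib.HR A
  haveI hH : Hensel.IsHenselization A H := inferInstance
  haveI : HenselianLocalRing H := hH.henselian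
  haveI : IsNoetherianRing H := (Groth.Agent.S0511.result A H).1 inferInstance
  obtain ⟨gS, hgS, -⟩ := hH.universal S (algebraMap A S) inferInstance
  obtain ⟨gT, hgT, -⟩ := hH.universal T (algebraMap A T) inferInstance
  letI : Algebra H S := gS.toAlgebra
  haveI : IsScalarTower A H S := IsScalarTower.of_algebraMap_eq fun a => (RingHom.congr_fun hgS a).symm
  letI : Algebra H T := gT.toAlgebra
  haveI : IsScalarTower A H T := IsScalarTower.of_algebraMap_eq fun a => (RingHom.congr_fun hgT a).symm
  have hmH : (maximalIdeal A).map (algebraMap A H) = maximalIdeal H := Groth.Agent.S0507.result A H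
  have hlocH : ∀ (U : Type u) [CommRing U] [IsLocalRing U] [Algebra A U] [Algebra H U] [IsScalarTower A H U]
      [IsLocalHom (algebraMap A U)], IsLocalHom (algebraMap H U) := fun U _ _ _ _ _ hU => by
    refine ((IsLocalRing.local_hom_TFAE (algebraMap H U)).out 2 0).1 ?_
    rw [← hmH, Ideal.map_map, ← IsScalarTower.algebraMap_eq]
    exact Ideal.map_le_iff_le_comap.2 fun a ha => fun hu => ha (isUnit_of_map_unit (algebraMap A U) a hu)
  haveI : IsLocalHom (algebraMap H S) := hlocH S
  haveI : IsLocalHom (algebraMap H T) := hlocH T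
  have hθH : ∀ x : H, θ (algebraMap H T x) = algebraMap H S x := by
    haveI : IsLocalHom ((θ : T →+* S).comp (algebraMap H T)) := inferInstance
    have h := (hH.universal S (algebraMap A S) inferInstance).unique
      (y₁ := (θ : T →+* S).comp (algebraMap H T)) (y₂ := algebraMap H S)
      (by rw [RingHom.comp_assoc, ← IsScalarTower.algebraMap_eq]; exact θ.comp_algebraMap)
      hgS
    exact fun x => RingHom.congr_fun h x
  let θH : T →ₐ[H] S := { (θ : T →+* S) with commutes' := hθH }
  haveI : IsLocalHom (θH : T →+* S) := ‹IsLocalHom (θ : T →+* S)›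
  have hcovH : ∀ x : H, HenselLib.EtCov (R := A) x := HenselLib.etCov_hens _
  haveI : Module.Flat H S := flat_of_forall_etCov hcovH
  haveI : Module.Flat A H := (Groth.Agent.S0509.result A H).toFlat
  haveI hAlgk : Algebra.IsSeparable (ResidueField A) (ResidueField S) :=
    (Hensel.IsStrictHenselization.isSepClosure (R := A) (S := S)).separable
  haveI : IsScalarTower (ResidueField A) (ResidueField H) (ResidueField S) :=
    IsScalarTower.of_algebraMap_eq fun x => by
      obtain ⟨a, rfl⟩ := IsLocalRing.residue_surjective x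
      change residue S (algebraMap A S a) = residue S (algebraMap H S (algebraMap A H a))
      rw [← IsScalarTower.algebraMap_apply]
  haveI : Algebra.IsSeparable (ResidueField H) (ResidueField S) :=
    Algebra.isSeparable_tower_top_of_isSeparable (ResidueField A) (ResidueField H) (ResidueField S)
  have hkH : Function.Surjective (algebraMap (ResidueField A) (ResidueField H)) :=
    (Groth.Agent.S0508.result A H).2
  -- a level containing the elements
  obtain ⟨E₁, hsE₁, hE₁l, hE₁h, hE₁, -⟩ := exists_essEt_ge A S s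
  haveI := hE₁l
  haveI := hE₁h
  haveI : IsLocalHom (algebraMap A E₁) := ⟨fun a ha => isUnit_of_map_unit (algebraMap A S) a (by
    rw [IsScalarTower.algebraMap_apply A E₁ S]; exact ha.map (algebraMap E₁ S))⟩
  haveI := finite_quotient_maximal E₁ hE₁
  obtain ⟨t, ht⟩ := Module.Finite.fg_top (R := A) (M := E₁ ⧸ maximalIdeal E₁)
  let ρ : (E₁ ⧸ maximalIdeal E₁) →+* ResidueField S := ResidueField.map (algebraMap E₁ S)
  let F₁ : IntermediateField (ResidueField H) (ResidueField S) := IntermediateField.adjoin _ (ρ '' t)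
  haveI : FiniteDimensional (ResidueField H) F₁ :=
    IntermediateField.finiteDimensional_adjoin fun x _ => Algebra.IsIntegral.isIntegral x
  have hAk : ∀ (F : IntermediateField (ResidueField H) (ResidueField S)) (a : A),
      residue S (algebraMap A S a) ∈ F := fun F a => by
    have h := F.algebraMap_mem (residue H (algebraMap A H a))
    rw [show algebraMap (ResidueField H) (ResidueField S) (residue H (algebraMap A H a)) =
      residue S (algebraMap H S (algebraMap A H a)) from rfl, ← IsScalarTower.algebraMap_apply] at h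
    exact h
  have hE₁F : ∀ e : E₁, residue S (e : S) ∈ F₁ := fun e => by
    change ρ (Ideal.Quotient.mk (maximalIdeal E₁) e) ∈ F₁
    have h : Ideal.Quotient.mk (maximalIdeal E₁) e ∈ Submodule.span A (t : Set (E₁ ⧸ maximalIdeal E₁)) :=
      ht ▸ Submodule.mem_top
    generalize Ideal.Quotient.mk (maximalIdeal E₁) e = y at h ⊢
    induction h using Submodule.span_induction with
    | mem y hy => exact IntermediateField.subset_adjoin _ _ ⟨y, hy, rfl⟩
    | zero => rw [map_zero]; exact F₁.zero_mem
    | add y y' _ _ hy hy' => rw [map_add]; exact F₁.add_mem hy hy'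
    | smul a y _ hy =>
      rw [Algebra.smul_def, map_mul]
      exact F₁.mul_mem (hAk F₁ a) hy
  let kD : IntermediateField (ResidueField H) (ResidueField S) :=
    { (ResidueField.map (θ : T →+* S)).fieldRange with
      algebraMap_mem' := fun x => by
        obtain ⟨y, rfl⟩ := IsLocalRing.residue_surjective x
        refine ⟨residue T (algebraMap H T y), ?_⟩
        change residue S (θ (algebraMap H T y)) = residue S (algebraMap H S y)
        rw [hθH] }
  have hkD : ∀ x, x ∈ kD ↔ ∃ z, residue S (θ z) = x := fun x => by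
    change x ∈ (ResidueField.map (θ : T →+* S)).fieldRange ↔ _
    rw [RingHom.mem_fieldRange]
    exact ⟨fun ⟨y, hy⟩ => by obtain ⟨z, rfl⟩ := IsLocalRing.residue_surjective y; exact ⟨z, hy⟩,
      fun ⟨z, hz⟩ => ⟨residue T z, hz⟩⟩
  let F₀ : IntermediateField (ResidueField H) (ResidueField S) := F₁ ⊓ kD
  haveI : FiniteDimensional (ResidueField H) F₀ :=
    FiniteDimensional.of_injective (IntermediateField.inclusion (inf_le_left : F₀ ≤ F₁)).toLinearMap
      (IntermediateField.inclusion (inf_le_left : F₀ ≤ F₁)).injective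
  obtain ⟨D₀⟩ := SHGalLib.nonempty_FEL (A := H) (S := S) F₀
  obtain ⟨D₁⟩ := SHGalLib.nonempty_FEL (A := H) (S := S) F₁
  obtain ⟨f, hf⟩ := D₀.exists_hom D₁ (IntermediateField.inclusion (inf_le_left : F₀ ≤ F₁))
  have hj10 : ∀ b, D₁.j (f b) = D₀.j b := D₀.comp_eq D₁ f fun b => by rw [hf b]; rfl
  letI : Algebra A D₁.B := ((algebraMap H D₁.B).comp (algebraMap A H)).toAlgebra
  haveI : IsScalarTower A H D₁.B := IsScalarTower.of_algebraMap_eq' rfl
  haveI := D₁.henselian
  haveI := D₁.loc
  haveI : IsLocalHom ((D₁.j.restrictScalars A : D₁.B →ₐ[A] S) : D₁.B →+* S) := D₁.loc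
  have hE₁B : E₁ ≤ (D₁.j.restrictScalars A).range := le_range_of_residue _ E₁ hE₁ fun e => by
    obtain ⟨b, hb⟩ := IsLocalRing.residue_surjective (D₁.res.symm ⟨_, hE₁F e⟩)
    refine ⟨b, ?_⟩
    have h := D₁.hres b
    rw [hb, RingEquiv.apply_symm_apply] at h
    exact h.symm
  -- the small level sits in the image of the henselian ring
  haveI := D₀.loc
  letI : Algebra D₀.B S := (D₀.j : D₀.B →+* S).toAlgebra
  haveI : IsScalarTower H D₀.B S := IsScalarTower.of_algebraMap_eq fun h => (D₀.j.commutes h).symm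
  haveI : Module.Flat D₀.B S := HenselLib.flat_of_etale (R := H)
  haveI : IsLocalHom (algebraMap D₀.B S) := D₀.loc
  haveI : IsNoetherianRing D₀.B := IsNoetherianRing.of_finite H D₀.B
  obtain ⟨ψ₀, hψ₀⟩ := exists_algHom_lift θH D₀.j fun b => by
    obtain ⟨z, hz⟩ := (hkD _).1 (D₀.res (residue D₀.B b)).2.2
    exact ⟨z, hz.trans (D₀.hres b)⟩
  have hB₀T : ∀ b, D₀.j b ∈ θ.range := fun b => ⟨ψ₀ b, hψ₀ b⟩
  have hB₀D : ∀ (b : D₀.B) (n : ℕ), ∃ d ∈ D, D₀.j b - d ∈ (maximalIdeal A ^ n).map (algebraMap A S) := fun b n => by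
    obtain ⟨d, hd, h⟩ := happrox (ψ₀ b) n
    exact ⟨d, hd, by rw [← hψ₀ b]; exact h⟩
  have hres₀ : ∀ γ : F₀, ∃ b : D₀.B, residue S (D₀.j b) = γ := fun γ => by
    obtain ⟨b, hb⟩ := IsLocalRing.residue_surjective (D₀.res.symm γ)
    exact ⟨b, by rw [← D₀.hres, hb, RingEquiv.apply_symm_apply]⟩
  -- linear algebra over the small residue field
  obtain ⟨κ, r₀, βk, ck, φ, hβk, hβspan, hck, hF₁dec, hφ1, hφ0⟩ :=
    haveI : FiniteDimensional (ResidueField H) (IntermediateField.extendScalars (inf_le_left : F₀ ≤ F₁)) :=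
      ‹FiniteDimensional (ResidueField H) F₁›
    haveI : FiniteDimensional F₀ (IntermediateField.extendScalars (inf_le_left : F₀ ≤ F₁)) :=
      Module.Finite.of_restrictScalars_finite (ResidueField H) F₀ _
    exists_family (IntermediateField.extendScalars (inf_le_right : F₀ ≤ kD)).toSubalgebra.toSubmodule
      (IntermediateField.extendScalars (inf_le_left : F₀ ≤ F₁)).toSubalgebra.toSubmodule F₁.one_mem
      fun x hx hx' => ⟨(⟨x, hx, hx'⟩ : F₀), rfl⟩
  have hsmul : ∀ (b : D₀.B) (x : S), residue S (b • x) = (D₀.res (residue D₀.B b)) • residue S x := fun b x => by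
    rw [Algebra.smul_def, map_mul, IntermediateField.smul_def, smul_eq_mul, D₀.hres]
    rfl
  let Λ : κ ⊕ Fin r₀ → S →ₗ[D₀.B] D₀.B ⧸ maximalIdeal D₀.B := fun i =>
    { toFun := fun x => D₀.res.symm (φ i (residue S x))
      map_add' := fun x y => by rw [map_add, map_add, map_add]; rfl
      map_smul' := fun b x => by
        rw [hsmul, map_smul, smul_eq_mul, map_mul, RingEquiv.symm_apply_apply, RingHom.id_apply, Algebra.smul_def]
        rfl }
  choose βd hβd using fun i => (hkD _).1 (hβk i)
  have hdT : ∀ i, ∃ d ∈ D, residue S d = βk i := fun i => by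
    obtain ⟨d, hd, h⟩ := happrox (βd i) 1
    refine ⟨d, hd, ?_⟩
    rw [← hβd i, eq_comm, ← sub_eq_zero, ← map_sub, residue_eq_zero_iff]
    rw [pow_one, Groth.Agent.S0538.result A S] at h
    exact h
  choose β hβD hβ using hdT
  choose cB hcB using fun l => IsLocalRing.residue_surjective (D₁.res.symm (⟨ck l, hck l⟩ : F₁))
  have hcres : ∀ l, residue S (D₁.j (cB l)) = ck l := fun l => by
    rw [← D₁.hres, hcB, RingEquiv.apply_symm_apply]
  letI : Algebra D₀.B D₁.B := (f : D₀.B →+* D₁.B).toAlgebra
  let j₁ : D₁.B →ₐ[D₀.B] S := { (D₁.j : D₁.B →+* S) with commutes' := hj10 }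
  have hΛ : ∀ i l, Λ l (Sum.elim β (fun l => j₁ (cB l)) i) = if i = l then 1 else 0 := fun i l => by
    change D₀.res.symm (φ l (residue S (Sum.elim β (fun l => D₁.j (cB l)) i))) = _
    rw [show residue S (Sum.elim β (fun l => D₁.j (cB l)) i) = Sum.elim βk ck i by
      rcases i with i | i
      · exact hβ i
      · exact hcres i]
    split_ifs with h
    · subst h
      rw [hφ1]
      exact map_one D₀.res.symm
    · rw [hφ0 l i h]
      exact map_zero D₀.res.symm
  -- everything in the intermediate algebra is spanned modulo high powers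
  let V : Submodule D₀.B S := Submodule.span D₀.B (Set.range β)
  have hspan : ∀ r, ∀ d ∈ D, d ∈ V ⊔ ((maximalIdeal A ^ r).map (algebraMap A S)).restrictScalars D₀.B := by
    intro r
    induction r with
    | zero =>
      intro d _
      refine Submodule.mem_sup_right ?_
      rw [Submodule.restrictScalars_mem, pow_zero, Ideal.one_eq_top, Ideal.map_top]
      exact Submodule.mem_top
    | succ r ih =>
      intro d hd
      obtain ⟨z, hz⟩ : ∃ z, θ z = d := hDθ hd
      have hk : residue S d ∈ kD := (hkD _).2 ⟨z, by rw [hz]⟩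
      obtain ⟨c, hc⟩ := Finsupp.mem_span_range_iff_exists_finsupp.1 (hβspan _ hk)
      choose h hh using fun i => hres₀ (c i)
      choose h' hh'D hh' using fun i => hB₀D (h i) (r + 1)
      let x : D := ⟨d, hd⟩ - ∑ i ∈ c.support, ⟨h' i, hh'D i⟩ * ⟨β i, hβD i⟩
      have hxS : (x : S) = d - ∑ i ∈ c.support, h' i * β i := by
        simp only [x, AddSubgroupClass.coe_sub, AddSubmonoidClass.coe_finset_sum, MulMemClass.coe_mul]
      have hle1 : (maximalIdeal A ^ (r + 1)).map (algebraMap A S) ≤ maximalIdeal S := by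
        rw [← Groth.Agent.S0538.result A S]
        exact Ideal.map_mono (Ideal.pow_le_self (by omega))
      have hh'res : ∀ i, residue S (h' i) = c i := fun i => by
        rw [← hh i, eq_comm, ← sub_eq_zero, ← map_sub, residue_eq_zero_iff]
        exact hle1 (hh' i)
      have hxm : (x : S) ∈ maximalIdeal S := by
        rw [← residue_eq_zero_iff, hxS, map_sub, map_sum, sub_eq_zero]
        rw [← hc, Finsupp.sum]
        refine Finset.sum_congr rfl fun i _ => ?_
        rw [map_mul, hh'res, hβ, IntermediateField.smul_def, smul_eq_mul]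
      obtain ⟨y, hy, hxy⟩ := hD x hxm (r + 1)
      have hyV : ((y : D) : S) ∈ V ⊔ ((maximalIdeal A ^ (r + 1)).map (algebraMap A S)).restrictScalars D₀.B := by
        have hy' : y ∈ maximalIdeal A • (⊤ : Submodule A D) := by rw [Ideal.smul_top_eq_map]; exact hy
        refine Submodule.smul_induction_on hy' (fun a ha u _ => ?_) fun u u' hu hu' => ?_
        · obtain ⟨p, hp, q, hq, hpq⟩ := Submodule.mem_sup.1 (ih u u.2)
          rw [Subalgebra.coe_smul, ← hpq, smul_add, Algebra.smul_def, Algebra.smul_def]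
          refine Submodule.add_mem_sup ?_ ?_
          · rw [IsScalarTower.algebraMap_apply A H S, IsScalarTower.algebraMap_apply H D₀.B S, ← Algebra.smul_def]
            exact Submodule.smul_mem _ _ hp
          · rw [Submodule.restrictScalars_mem, pow_succ', Ideal.map_mul]
            exact Ideal.mul_mem_mul (Ideal.mem_map_of_mem _ ha) hq
        · exact add_mem hu hu'
      have hsum : d = ((y : D) : S) + ((x : S) - y) + (∑ i ∈ c.support, h i • β i +
          ∑ i ∈ c.support, (h' i - D₀.j (h i)) * β i) := by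
        rw [hxS]
        simp only [sub_mul, Finset.sum_sub_distrib, Algebra.smul_def]
        change d = _ + _ + (∑ i ∈ c.support, D₀.j (h i) * β i + _)
        ring
      rw [hsum]
      refine add_mem (add_mem hyV (Submodule.mem_sup_right hxy)) (add_mem (Submodule.mem_sup_left
        (sum_mem fun i _ => Submodule.smul_mem _ _ (Submodule.subset_span ⟨i, rfl⟩))) (Submodule.mem_sup_right ?_))
      refine sum_mem fun i _ => ?_
      rw [Submodule.restrictScalars_mem]
      refine Ideal.mul_mem_right _ _ ?_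
      have h5 := hh' i
      rw [← neg_sub]
      exact neg_mem h5
  -- the big level over the small one
  haveI : IsScalarTower H D₀.B D₁.B := IsScalarTower.of_algebraMap_eq fun h => (f.commutes h).symm
  haveI : Module.Finite D₀.B D₁.B := Module.Finite.of_restrictScalars_finite H D₀.B D₁.B
  have hV₁ : Submodule.span D₀.B (insert (1 : D₁.B) (Set.range cB)) = ⊤ := by
    refine top_le_iff.1 (Submodule.le_of_le_smul_of_le_jacobson_bot Module.Finite.fg_top
      (maximalIdeal_le_jacobson (R := D₀.B) ⊥) fun b _ => ?_)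
    obtain ⟨γ, a, hγa⟩ := hF₁dec _ (D₁.res (residue D₁.B b)).2
    obtain ⟨g₀, hg₀⟩ := hres₀ γ
    choose g hg using fun l => hres₀ (a l)
    have hmem : b - (g₀ • (1 : D₁.B) + ∑ l, g l • cB l) ∈ maximalIdeal D₁.B := by
      by_contra hu
      rw [IsLocalRing.notMem_maximalIdeal] at hu
      refine ((hu.map D₁.j).map (residue S)).ne_zero ?_
      rw [map_sub, map_sub, sub_eq_zero, ← D₁.hres, hγa]
      simp only [map_add, map_sum, Algebra.smul_def, map_mul, map_one, mul_one]
      change _ = residue S (D₁.j (f g₀)) + ∑ l, residue S (D₁.j (f (g l))) * residue S (D₁.j (cB l))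
      rw [hj10, hg₀]
      congr 1
      refine Finset.sum_congr rfl fun l _ => ?_
      rw [hj10, hg, hcres]
      rfl
    rw [← sub_add_cancel b (g₀ • (1 : D₁.B) + ∑ l, g l • cB l), add_comm]
    refine Submodule.add_mem_sup (add_mem (Submodule.smul_mem _ _ (Submodule.subset_span (Set.mem_insert _ _)))
      (sum_mem fun l _ => Submodule.smul_mem _ _ (Submodule.subset_span (Set.mem_insert_of_mem _ ⟨l, rfl⟩)))) ?_
    rw [Ideal.smul_top_eq_map, Submodule.restrictScalars_mem]
    haveI : IsLocalHom (algebraMap H D₁.B) := ⟨fun h hh => isUnit_of_map_unit (algebraMap H S) h (by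
      rw [← D₁.j.commutes h]; exact hh.map D₁.j)⟩
    refine (?_ : maximalIdeal D₁.B ≤ _) hmem
    rw [← Algebra.FormallyUnramified.map_maximalIdeal (R := H) (S := D₁.B), IsScalarTower.algebraMap_eq H D₀.B D₁.B,
      ← Ideal.map_map]
    refine Ideal.map_mono (Ideal.map_le_iff_le_comap.2 fun h hh => ?_)
    exact fun hu => hh (isUnit_of_map_unit (algebraMap H S) h (by
      rw [IsScalarTower.algebraMap_apply H D₀.B S]; exact hu.map (algebraMap D₀.B S)))
  letI : Algebra A D₀.B := ((algebraMap H D₀.B).comp (algebraMap A H)).toAlgebra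
  haveI : IsScalarTower A H D₀.B := IsScalarTower.of_algebraMap_eq' rfl
  haveI : IsScalarTower A D₀.B S := IsScalarTower.of_algebraMap_eq fun a => by
    rw [IsScalarTower.algebraMap_apply A H S, IsScalarTower.algebraMap_apply A H D₀.B,
      IsScalarTower.algebraMap_apply H D₀.B S]
  haveI hHB₀ : IsLocalHom (algebraMap H D₀.B) := ⟨fun h hh => isUnit_of_map_unit (algebraMap H S) h (by
    rw [IsScalarTower.algebraMap_apply H D₀.B S]; exact hh.map (algebraMap D₀.B S))⟩
  have hm : (maximalIdeal A).map (algebraMap A D₀.B) ≤ maximalIdeal D₀.B := by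
    rw [IsScalarTower.algebraMap_eq A H D₀.B, ← Ideal.map_map, hmH]
    exact Ideal.map_le_iff_le_comap.2 fun h hh hu => hh (isUnit_of_map_unit (algebraMap H D₀.B) h hu)
  have hsmall : ∀ x ∈ s, x ∈ Set.range D₀.j := fun x hx => by
    refine mem_range_of_forall_mem_span (A := A) j₁ hm β cB hV₁ Λ hΛ x ?_ (fun n => ?_) (fun a₀ n => ?_)
    · obtain ⟨b, hb⟩ := hE₁B (hsE₁ hx)
      exact ⟨b, hb⟩
    · obtain ⟨zx, hzx'⟩ := hs x hx
      have hzx : θ zx = x := hzx'
      obtain ⟨d, hd, hdx⟩ := happrox zx n
      rw [show x = (θ zx - d) + d by rw [← hzx]; ring]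
      exact add_mem (Submodule.mem_sup_right hdx) (hspan n d hd)
    · obtain ⟨d, hd, hdx⟩ := hB₀D a₀ n
      change D₀.j a₀ ∈ _
      rw [show D₀.j a₀ = (D₀.j a₀ - d) + d by ring]
      exact add_mem (Submodule.mem_sup_right hdx) (hspan n d hd)
  -- descent to an essentially etale subalgebra
  haveI : Module.Flat A D₀.B := Module.Flat.trans A H D₀.B
  haveI := D₀.henselian
  have hcov : ∀ b : D₀.B, HenselLib.EtCov (R := A) b := forall_etCov_of_etale (A := A) (H := H) (B := D₀.B)
    (fun y => by
      obtain ⟨x, hx⟩ := hkH (residue H y)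
      obtain ⟨a, rfl⟩ := IsLocalRing.residue_surjective x
      exact ⟨a, hx⟩) hcovH
  have hsmall' : ∀ x : S, ∃ b, x ∈ s → D₀.j b = x := fun x => by
    by_cases hx : x ∈ s
    · obtain ⟨b, hb⟩ := hsmall x hx
      exact ⟨b, fun _ => hb⟩
    · exact ⟨0, fun h => absurd h hx⟩
  choose g hg using hsmall'
  haveI : IsLocalHom ((IsScalarTower.toAlgHom A D₀.B S : D₀.B →ₐ[A] S) : D₀.B →+* S) := D₀.loc
  obtain ⟨E, hsE, hEr, hEl, hEh, hE⟩ := exists_essEt_of_covered (IsScalarTower.toAlgHom A D₀.B S) D₀.inj hcov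
    (s.image g)
  refine ⟨E, fun x hx => ?_, fun y hy => ?_, hEl, hEh, hE⟩
  · have h := hsE _ (Finset.mem_image_of_mem g hx)
    rwa [show (IsScalarTower.toAlgHom A D₀.B S) (g x) = x from hg x hx] at h
  · obtain ⟨b, rfl⟩ := hEr hy
    exact hB₀T b

end SHSubLib
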