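import Groth.Agent.SHSubLib.InfNorm
import Groth.Agent.HenselLib.HenselizationExists
import Groth.Agent.HenselLib.LocalCover
import Groth.Agent.S0507
import Groth.Agent.S0508
import Groth.Agent.S0509
import Groth.Agent.S0540
import Mathlib

/-! Injectivity of the map from the henselization of an intermediate algebra into the strict henselization. -/

set_option autoImplicit false
set_option synthInstance.maxHeartbeats 400000
set_option maxHeartbeats 1600000

universe u

open IsLocalRing TensorProduct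
open scoped nonZeroDivisors

namespace SHSubLib

/-- A reduced ring with finitely many primes, all maximal, is Artinian. -/
theorem isArtinianRing_of_finite_primes {L : Type u} [CommRing L] [IsReduced L]
    (hmax : ∀ p : Ideal L, p.IsPrime → p.IsMaximal) (hfin : {p : Ideal L | p.IsPrime}.Finite) :
    IsArtinianRing L := by
  haveI : Finite (MaximalSpectrum L) := by
    haveI := hfin.to_subtype
    exact Finite.of_injective (fun M : MaximalSpectrum L => (⟨M.asIdeal, M.isMaximal.isPrime⟩ : {p : Ideal L | p.IsPrime}))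
      fun M N h => MaximalSpectrum.ext (congrArg Subtype.val h)
  have hinf : (⨅ M : MaximalSpectrum L, M.asIdeal) = ⊥ := by
    rw [eq_bot_iff]
    intro x hx
    refine (Ideal.mem_bot).2 (IsReduced.eq_zero x (nilpotent_iff_mem_prime.2 fun p hp => ?_))
    exact (Submodule.mem_iInf _).1 hx ⟨p, hmax p hp⟩
  let e := Ideal.quotientInfRingEquivPiQuotient (fun M : MaximalSpectrum L => M.asIdeal)
    fun I J h => Ideal.isCoprime_iff_sup_eq.2 (I.isMaximal.coprime_of_ne J.isMaximal fun hIJ => h (MaximalSpectrum.ext hIJ))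
  haveI : ∀ M : MaximalSpectrum L, IsArtinianRing (L ⧸ M.asIdeal) := fun M =>
    letI := Ideal.Quotient.field M.asIdeal
    inferInstance
  haveI : IsArtinianRing (∀ M : MaximalSpectrum L, L ⧸ M.asIdeal) := inferInstance
  haveI : IsArtinianRing (L ⧸ ⨅ M : MaximalSpectrum L, M.asIdeal) := e.symm.surjective.isArtinianRing
    (f := e.symm.toRingHom)
  exact Function.Surjective.isArtinianRing
    (f := ((RingEquiv.quotientBot L).toRingHom.comp (Ideal.quotEquivOfEq hinf).toRingHom))
    ((RingEquiv.quotientBot L).surjective.comp (Ideal.quotEquivOfEq hinf).surjective)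

/-- Elements of a quasi-finite algebra vanishing at a generic point vanish near the primes of integrality. -/
theorem exists_notMem_mul_eq_zero {R T : Type u} [CommRing R] [CommRing T] [Algebra R T] [Algebra.QuasiFinite R T]
    (M : Ideal T) [M.IsPrime] (hM : IsDomain (Localization.AtPrime M)) (Q : Ideal T) [Q.IsPrime] (hQM : Q ≤ M)
    (hmin : Q.under R ∈ minimalPrimes R) (x : T) (hx : x ∈ Q) : ∃ s ∉ M, s * x = 0 := by
  haveI := hM
  let p := RingHom.ker (algebraMap T (Localization.AtPrime M))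
  haveI : p.IsPrime := RingHom.ker_isPrime _
  have hpQ : p ≤ Q := by
    intro t ht
    obtain ⟨s, hs⟩ := (IsLocalization.map_eq_zero_iff M.primeCompl _ t).1 ht
    exact ((‹Q.IsPrime›).mem_or_mem (hs.symm ▸ Q.zero_mem)).resolve_left fun h => s.2 (hQM h)
  have hunder : p.under R = Q.under R :=
    le_antisymm (Ideal.comap_mono hpQ) (hmin.2 ⟨Ideal.IsPrime.comap _, bot_le⟩ (Ideal.comap_mono hpQ))
  have hpeq : p = Q := Algebra.QuasiFinite.eq_of_le_of_under_eq p Q hpQ hunder
  obtain ⟨s, hs⟩ := (IsLocalization.map_eq_zero_iff M.primeCompl _ x).1 (hpeq.ge hx)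
  exact ⟨s, s.2, hs⟩

variable {A S : Type u} [CommRing A] [IsLocalRing A] [IsReduced A] [IsNoetherianRing A] [CommRing S] [IsLocalRing S]
  [Algebra A S] [IsLocalHom (algebraMap A S)] [Hensel.IsStrictHenselization A S]

/-- The fractions of an intermediate algebra inside the fractions of the strict henselization. -/
theorem exists_fracD (D : Subalgebra A S) [IsLocalRing D] [IsLocalHom (algebraMap D S)] :
    ∃ L : Subalgebra A (FractionRing S),
      (∀ x, x ∈ L ↔ ∃ a ∈ A⁰, ∃ d ∈ D, algebraMap A (FractionRing S) a * x = algebraMap S (FractionRing S) d) ∧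
        IsReduced L ∧ IsArtinianRing L ∧ ∀ x ∈ L, ∃ z ∈ L, x * z * x = x := by
  have hmin : (minimalPrimes A).Finite := minimalPrimes.finite_of_isNoetherianRing A
  haveI := (Groth.Agent.S0540.result A S).1 inferInstance
  haveI hKred := isReduced_frac (A := A) (S := S)
  haveI : IsReduced S := isReduced_of_injective (algebraMap S (FractionRing S)) (IsFractionRing.injective _ _)
  haveI := (BranchLib.fractionRing_data S (minimalPrimes.finite_of_isNoetherianRing S)).1
  let L : Subalgebra A (FractionRing S) :=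
    { carrier := {x | ∃ a ∈ A⁰, ∃ d ∈ D, algebraMap A (FractionRing S) a * x = algebraMap S (FractionRing S) d}
      mul_mem' := by
        rintro x y ⟨a, ha, d, hd, hx⟩ ⟨b, hb, e, he, hy⟩
        exact ⟨a * b, A⁰.mul_mem ha hb, d * e, D.mul_mem hd he, by rw [map_mul, map_mul, ← hx, ← hy]; ring⟩
      add_mem' := by
        rintro x y ⟨a, ha, d, hd, hx⟩ ⟨b, hb, e, he, hy⟩
        refine ⟨a * b, A⁰.mul_mem ha hb, algebraMap A S b * d + algebraMap A S a * e,
          D.add_mem (D.mul_mem (D.algebraMap_mem b) hd) (D.mul_mem (D.algebraMap_mem a) he), ?_⟩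
        rw [map_mul, map_add, map_mul, map_mul, ← hx, ← hy, ← IsScalarTower.algebraMap_apply,
          ← IsScalarTower.algebraMap_apply]
        ring
      algebraMap_mem' := fun c => ⟨1, A⁰.one_mem, algebraMap A S c, D.algebraMap_mem c, by
        rw [map_one, one_mul, ← IsScalarTower.algebraMap_apply]⟩ }
  have hreg : ∀ x ∈ L, ∃ z ∈ L, x * z * x = x := by
    rintro x ⟨a, ha, d, hd, hxd⟩
    obtain ⟨E, hsE, hEl, hEh, hE, -⟩ := exists_essEt_ge A S {d}
    haveI := hEl
    haveI := hEh
    obtain ⟨L', hL', hred', hart'⟩ := exists_fracK hmin E hE (D ⊓ E) inf_le_right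
    haveI := hred'
    haveI := hart'
    have hx : x ∈ L' := (hL' x).2 ⟨a, ha, d, ⟨hd, hsE (by simp)⟩, hxd⟩
    obtain ⟨z, hz⟩ := SemilocalEssLib.exists_regular (⟨x, hx⟩ : L')
    obtain ⟨b, hb, e, he, hze⟩ := (hL' z).1 z.2
    exact ⟨z, ⟨b, hb, e, he.1, hze⟩, congrArg Subtype.val hz⟩
  haveI hLred : IsReduced L := isReduced_of_injective L.val Subtype.val_injective
  have hmax : ∀ p : Ideal L, p.IsPrime → p.IsMaximal := fun p hp => by
    refine Ideal.isMaximal_iff.2 ⟨fun h => hp.ne_top ((Ideal.eq_top_iff_one p).2 h), fun J x hpJ hxp hxJ => ?_⟩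
    obtain ⟨z, hz, hxz⟩ := hreg x x.2
    have h0 : x * (⟨z, hz⟩ * x - 1) = 0 := Subtype.ext (by
      change (x : FractionRing S) * (z * x - 1) = 0
      linear_combination hxz)
    have h1 : ⟨z, hz⟩ * x - 1 ∈ J := hpJ ((hp.mem_or_mem (h0 ▸ p.zero_mem)).resolve_left hxp)
    simpa using J.sub_mem (J.mul_mem_left ⟨z, hz⟩ hxJ) h1
  have hmem : ∀ p : Ideal L, p.IsPrime → ∃ P : PrimeSpectrum (FractionRing S), P.asIdeal.comap L.val = p := fun p hp => by
    haveI := hp
    obtain ⟨q, hq, hqp⟩ := Ideal.exists_minimalPrimes_le (bot_le : (⊥ : Ideal L) ≤ p)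
    have hq' : q ∈ ((⊥ : Ideal (FractionRing S)).comap L.val.toRingHom).minimalPrimes := by
      rwa [Ideal.comap_bot_of_injective _ (Subtype.val_injective : Function.Injective L.val.toRingHom)]
    obtain ⟨P, hP, -, hPq⟩ := Ideal.exists_comap_eq_of_mem_minimalPrimes L.val.toRingHom q hq'
    exact ⟨⟨P, hP⟩, hPq.trans ((hmax q hq.1.1).eq_of_le hp.ne_top hqp)⟩
  have hfin : {p : Ideal L | p.IsPrime}.Finite :=
    (Set.finite_range fun P : PrimeSpectrum (FractionRing S) => P.asIdeal.comap L.val).subset fun p hp => hmem p hp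
  exact ⟨L, fun x => Iff.rfl, hLred, isArtinianRing_of_finite_primes hmax hfin, hreg⟩

variable {D : Subalgebra A S} [IsLocalRing D] [IsLocalHom (algebraMap D S)]
variable {A' D' : Subalgebra A (FractionRing S)}
  (hA' : ∀ x : (FractionRing S), x ∈ A' ↔ (IsIntegral A x ∧
      ∃ a ∈ nonZeroDivisors A, ∃ b : A, algebraMap A (FractionRing S) a * x = algebraMap A (FractionRing S) b))
  (hD' : ∀ x : (FractionRing S), x ∈ D' ↔ (IsIntegral D x ∧
      ∃ a ∈ nonZeroDivisors A, ∃ d ∈ D, algebraMap A (FractionRing S) a * x = algebraMap S (FractionRing S) d))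
  (hle : A' ≤ D') (ι : D →ₐ[A] D') (hι : ∀ d : D, (ι d : (FractionRing S)) = algebraMap S (FractionRing S) d)

omit [IsNoetherianRing A] [IsReduced A] in
/-- A prime of a base change of a residually trivial local extension is determined by its traces. -/
theorem eq_of_over {D₀ B C : Type u} [CommRing D₀] [CommRing B] [CommRing C] [Algebra D₀ B] [Algebra D₀ C]
    (mC : Ideal C) (hC : ∀ c : C, ∃ d : D₀, c - algebraMap D₀ C d ∈ mC) (M M' : Ideal (B ⊗[D₀] C))
    (hM : mC ≤ M.comap (Algebra.TensorProduct.includeRight : C →ₐ[D₀] B ⊗[D₀] C))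
    (hM' : mC ≤ M'.comap (Algebra.TensorProduct.includeRight : C →ₐ[D₀] B ⊗[D₀] C))
    (h : M.comap (Algebra.TensorProduct.includeLeft : B →ₐ[D₀] B ⊗[D₀] C) =
      M'.comap (Algebra.TensorProduct.includeLeft : B →ₐ[D₀] B ⊗[D₀] C)) : M = M' := by
  have key : ∀ z : B ⊗[D₀] C, ∃ b : B, z - b ⊗ₜ (1 : C) ∈
      mC.map (Algebra.TensorProduct.includeRight : C →ₐ[D₀] B ⊗[D₀] C) := by
    intro z
    induction z using TensorProduct.induction_on with
    | zero => exact ⟨0, by simp⟩
    | add z z' hz hz' =>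
      obtain ⟨b, hb⟩ := hz
      obtain ⟨b', hb'⟩ := hz'
      refine ⟨b + b', ?_⟩
      rw [TensorProduct.add_tmul, add_sub_add_comm]
      exact add_mem hb hb'
    | tmul b c =>
      obtain ⟨d, hd⟩ := hC c
      refine ⟨d • b, ?_⟩
      have h1 : b ⊗ₜ[D₀] c - (d • b) ⊗ₜ[D₀] (1 : C) = (b ⊗ₜ[D₀] (1 : C)) * ((1 : B) ⊗ₜ[D₀] (c - algebraMap D₀ C d)) := by
        rw [Algebra.TensorProduct.tmul_mul_tmul, mul_one, one_mul, TensorProduct.tmul_sub, TensorProduct.smul_tmul,
          Algebra.algebraMap_eq_smul_one]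
      rw [h1]
      exact Ideal.mul_mem_left _ _ (Ideal.mem_map_of_mem _ hd)
  ext z
  obtain ⟨b, hb⟩ := key z
  have h1 := Ideal.map_le_iff_le_comap.2 hM hb
  have h2 := Ideal.map_le_iff_le_comap.2 hM' hb
  have h3 : b ⊗ₜ[D₀] (1 : C) ∈ M ↔ b ⊗ₜ[D₀] (1 : C) ∈ M' := by
    have := SetLike.ext_iff.1 h b
    simpa using this
  constructor
  · intro hz
    have h4 : b ⊗ₜ[D₀] (1 : C) ∈ M := by simpa using M.sub_mem hz h1
    simpa using M'.add_mem (h3.1 h4) h2
  · intro hz
    have h4 : b ⊗ₜ[D₀] (1 : C) ∈ M' := by simpa using M'.sub_mem hz h2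
    simpa using M.add_mem (h3.2 h4) h1

include hA' hD' hι in
/-- Under the residue conditions the henselization injects into the strict henselization. -/
theorem injective_henselization {Dh : Type u} [CommRing Dh] [IsLocalRing Dh] [Algebra D Dh]
    [IsLocalHom (algebraMap D Dh)] [Hensel.IsHenselization D Dh] [Algebra Dh S] [IsScalarTower D Dh S]
    [IsLocalHom (algebraMap Dh S)]
    (hsurjφ : Function.Surjective ((Ideal.Quotient.mkₐ A (Ideal.jacobson (⊥ : Ideal D'))).comp
      (Algebra.TensorProduct.productMap (Subalgebra.inclusion hle) ι))) :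
    Function.Injective (algebraMap Dh S) := by
  classical
  have hmin : (minimalPrimes A).Finite := minimalPrimes.finite_of_isNoetherianRing A
  haveI : Module.Flat D Dh := (Groth.Agent.S0509.result D Dh).toFlat
  obtain ⟨e⟩ := HenselLib.nonempty_algEquiv_HR (R := D) Dh
  have hcov : ∀ z : Dh, HenselLib.EtCov (R := D) z := fun z => by
    have h := HenselLib.EtCov.map (HenselLib.etCov_hens (R := D) _ (e.symm z)) (e : HenselLib.HR D →ₐ[D] Dh)
    simpa using h
  refine (injective_iff_map_eq_zero _).2 fun z hz => ?_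
  obtain ⟨U, _, _, _, q, _, ψ, hψloc, hψflat, hψs⟩ := HenselLib.exists_local_cover hcov {z}
  obtain ⟨u, hu⟩ := hψs z (Finset.mem_singleton_self z)
  suffices hu0 : u = 0 by
    rw [← hu, hu0]
    exact map_zero ψ
  let D₁ := Localization.AtPrime q
  haveI := hψloc
  have hmψ : (maximalIdeal D).map (algebraMap D Dh) = maximalIdeal Dh := Groth.Agent.S0507.result D Dh
  have hresψ : ∀ c : D₁, ∃ d : D, c - algebraMap D D₁ d ∈ maximalIdeal D₁ := fun c => by
    obtain ⟨y, hy⟩ := (Groth.Agent.S0508.result D Dh).2 (residue Dh (ψ c))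
    obtain ⟨d, rfl⟩ := IsLocalRing.residue_surjective y
    refine ⟨d, fun hunit => ?_⟩
    have h := (hunit.map ψ).map (residue Dh)
    rw [map_sub, map_sub, AlgHom.commutes, ← hy, ResidueField.map_residue, sub_self] at h
    exact not_isUnit_zero h
  have hD₁ : EGA4loc.IsEssentiallyEtale D D₁ := by
    refine ⟨U, inferInstance, inferInstance, q, inferInstance, inferInstance, ?_, ⟨AlgEquiv.refl⟩⟩
    have h1 : (maximalIdeal Dh).comap (algebraMap D Dh) = maximalIdeal D :=
      ((IsLocalRing.local_hom_TFAE (algebraMap D Dh)).out 0 4).1 ‹_›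
    have h2 : (maximalIdeal Dh).comap (ψ : D₁ →+* Dh) = maximalIdeal D₁ :=
      ((IsLocalRing.local_hom_TFAE (ψ : D₁ →+* Dh)).out 0 4).1 hψloc
    rw [← h1, show algebraMap D Dh = (ψ : D₁ →+* Dh).comp (algebraMap D D₁) from (ψ.comp_algebraMap).symm,
      ← Ideal.comap_comap, h2, IsScalarTower.algebraMap_eq D U D₁, ← Ideal.comap_comap]
    exact congrArg (Ideal.comap (algebraMap D U)) (IsLocalization.AtPrime.under_maximalIdeal D₁ q).symm
  haveI : Module.Flat D D₁ := EssEtFracLib.flat_of_essEt hD₁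
  letI : Algebra D D' := ι.toRingHom.toAlgebra
  haveI : IsScalarTower D D' (FractionRing S) := IsScalarTower.of_algebraMap_eq fun d => (hι d).symm
  haveI := isIntegral_iota hD' ι hι
  obtain ⟨L, hL, hLred, hLart, hreg⟩ := exists_fracD D
  haveI := hLred
  haveI := hLart
  have hleL : D' ≤ L := fun x hx => (hL x).2 ((hD' x).1 hx).2
  have hnormal : EGA4.IsNormalRing D' := by
    refine isNormalRing_of_intClosed (Subalgebra.inclusion hleL).toRingHom (Subalgebra.inclusion_injective hleL)
      fun z hz => ?_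
    have hz' : IsIntegral D' (z : FractionRing S) := by
      obtain ⟨p, hp, hpz⟩ := hz
      refine ⟨p, hp, ?_⟩
      have h := congrArg L.val.toRingHom hpz
      rw [Polynomial.hom_eval₂, map_zero] at h
      exact h
    exact ⟨⟨z, (hD' _).2 ⟨isIntegral_trans _ hz', (hL _).1 z.2⟩⟩, Subtype.ext rfl⟩
  -- injectivity of the base change
  have hιinj : Function.Injective (algebraMap D D') := fun d d' h => Subtype.ext
    (IsFractionRing.injective S (FractionRing S) (by rw [← hι, ← hι]; exact congrArg Subtype.val h))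
  have hincl : Function.Injective
      (Algebra.TensorProduct.includeRight : D₁ →ₐ[D] D' ⊗[D] D₁) :=
    Algebra.TensorProduct.includeRight_injective hιinj
  apply hincl
  rw [map_zero]
  haveI := quasiFinite_tensor (A := D) (X := D₁) D' hD₁
  have hN1 : EGA4.IsNormalRing (D' ⊗[D] D₁) := isNormalRing_tensor D' hD₁ hnormal
  set x' : D' ⊗[D] D₁ := (Algebra.TensorProduct.includeRight : D₁ →ₐ[D] D' ⊗[D] D₁) u with hx'
  let Ann : Ideal (D' ⊗[D] D₁) := (Submodule.span (D' ⊗[D] D₁) {x'}).annihilator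
  suffices hAnn : Ann = ⊤ by
    have h1 := (Ideal.eq_top_iff_one _).1 hAnn
    rw [Submodule.mem_annihilator_span_singleton, one_smul] at h1
    exact h1
  by_contra htop
  obtain ⟨M, hM, hAM⟩ := Ideal.exists_le_maximal Ann htop
  haveI := hM
  -- the maximal ideal is dominated
  haveI : IsLocalHom (algebraMap D D₁) := ⟨fun d hd => isUnit_of_map_unit (algebraMap D Dh) d (by
    rw [← ψ.commutes d]; exact hd.map ψ)⟩
  have hMdata := maximal_tensor_data (A := D) (T := D') (U := D₁) M
  obtain ⟨G, hG⟩ := exists_inclS A' hA' hD' hmin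
  haveI : (M.comap (Algebra.TensorProduct.includeLeft : D' →ₐ[D] D' ⊗[D] D₁)).IsPrime := Ideal.IsPrime.comap _
  haveI : (M.comap (Algebra.TensorProduct.includeLeft : D' →ₐ[D] D' ⊗[D] D₁)).IsMaximal :=
    isMaximal_of_integral_quot (A := D) _ inferInstance fun d hd => by
      rw [Ideal.mem_comap, Ideal.mem_comap, AlgHom.commutes]
      exact hMdata.2.1 hd
  obtain ⟨P, hP, hPN⟩ := exists_maximal_overS A' hA' hD' hle ι hι G hG hsurjφ
    (M.comap (Algebra.TensorProduct.includeLeft : D' →ₐ[D] D' ⊗[D] D₁))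
  haveI := hP
  letI : Algebra D (A' ⊗[A] S) :=
    (((Algebra.TensorProduct.includeRight : S →ₐ[A] A' ⊗[A] S) : S →+* A' ⊗[A] S).comp (algebraMap D S)).toAlgebra
  let fD : D' →ₐ[D] A' ⊗[A] S := { (G : D' →+* A' ⊗[A] S) with commutes' := fun d => G_iota A' hA' ι hι G hG d }
  let fS : D₁ →ₐ[D] A' ⊗[A] S :=
    { (((Algebra.TensorProduct.includeRight : S →ₐ[A] A' ⊗[A] S) : S →+* A' ⊗[A] S).comp
        ((algebraMap Dh S).comp (ψ : D₁ →+* Dh))) with
      commutes' := fun d => by
        change (1 : A') ⊗ₜ[A] algebraMap Dh S (ψ (algebraMap D D₁ d)) = (1 : A') ⊗ₜ[A] algebraMap D S d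
        rw [AlgHom.commutes, ← IsScalarTower.algebraMap_apply] }
  let Φ : D' ⊗[D] D₁ →ₐ[D] A' ⊗[A] S := Algebra.TensorProduct.lift fD fS fun _ _ => Commute.all _ _
  have hPM : P.comap Φ = M := by
    obtain ⟨hPS, -, -⟩ := maximal_data A' hA' P
    refine eq_of_over (D₀ := D) (B := D') (C := D₁) (maximalIdeal D₁) hresψ _ _ (fun c hc => ?_) hMdata.1 ?_
    · rw [Ideal.mem_comap, Ideal.mem_comap]
      change Φ ((1 : D') ⊗ₜ[D] c) ∈ P
      rw [Algebra.TensorProduct.lift_tmul, map_one, one_mul]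
      refine hPS ?_
      intro hu
      exact hc (hψloc.map_nonunit c (isUnit_of_map_unit (algebraMap Dh S) _ hu))
    · ext b
      rw [Ideal.mem_comap, Ideal.mem_comap, Algebra.TensorProduct.includeLeft_apply,
        Algebra.TensorProduct.lift_tmul, map_one, mul_one, ← hPN]
      rfl
  obtain ⟨P₀, hP₀, hP₀P⟩ := Ideal.exists_minimalPrimes_le (bot_le : (⊥ : Ideal (A' ⊗[A] S)) ≤ P)
  haveI := hP₀.1.1
  have hμ : Function.Injective (muS A').toRingHom := muS_injective A' hA'
  obtain ⟨Pk, hPk, -, hPkP⟩ := Ideal.exists_comap_eq_of_mem_minimalPrimes (muS A').toRingHom (I := ⊥) P₀ (by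
    rw [Ideal.comap_bot_of_injective _ hμ]; exact hP₀)
  haveI := hPk
  haveI : (P₀.comap Φ).IsPrime := Ideal.IsPrime.comap Φ
  have hQM : P₀.comap Φ ≤ M := hPM ▸ Ideal.comap_mono hP₀P
  have hx'Q : x' ∈ P₀.comap Φ := by
    have h0 : Φ x' = 0 := by
      change Φ ((1 : D') ⊗ₜ[D] u) = 0
      rw [Algebra.TensorProduct.lift_tmul, map_one, one_mul]
      change (1 : A') ⊗ₜ[A] algebraMap Dh S (ψ u) = 0
      rw [show ψ u = z from hu, hz, TensorProduct.tmul_zero]
    rw [Ideal.mem_comap, h0]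
    exact P₀.zero_mem
  let q0 := (P₀.comap Φ).under D'
  have hq0 : ∀ x : D', x ∈ q0 ↔ (x : FractionRing S) ∈ Pk := fun x => by
    change Φ (x ⊗ₜ[D] (1 : D₁)) ∈ P₀ ↔ _
    rw [Algebra.TensorProduct.lift_tmul, map_one, mul_one, ← hPkP]
    change muS A' (G x) ∈ Pk ↔ _
    rw [hG]
  have hq0min : q0 ∈ minimalPrimes D' := by
    refine ⟨⟨Ideal.IsPrime.comap _, bot_le⟩, fun p hp hle' x hx => ?_⟩
    haveI := hp.1
    obtain ⟨z', hz'L, hzx⟩ := hreg _ (hleL x.2)
    obtain ⟨a, ha, d, hd, hzd⟩ := (hL _).1 hz'L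
    have haP : algebraMap A D' a ∉ q0 := fun h =>
      hPk.ne_top (Pk.eq_top_of_isUnit_mem ((hq0 _).1 h) (isUnit_algebraMap_frac (S := S) ha))
    have hprod : x * (x * ι ⟨d, hd⟩ - algebraMap A D' a) = 0 := by
      apply Subtype.ext
      change (x : FractionRing S) * ((x : FractionRing S) * (ι ⟨d, hd⟩ : FractionRing S) -
        algebraMap A (FractionRing S) a) = 0
      rw [hι, ← hzd]
      linear_combination algebraMap A (FractionRing S) a * hzx
    rcases hp.1.mem_or_mem (hprod ▸ p.zero_mem) with h | h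
    · exact h
    · refine absurd ?_ haP
      have h1 : x * ι ⟨d, hd⟩ - algebraMap A D' a ∈ q0 := hle' h
      simpa using q0.sub_mem (q0.mul_mem_right (ι ⟨d, hd⟩) hx) h1
  obtain ⟨s, hsM, hs⟩ := exists_notMem_mul_eq_zero (R := D') (T := D' ⊗[D] D₁) M (hN1 M).1 _ hQM hq0min x' hx'Q
  exact hsM (hAM ((Submodule.mem_annihilator_span_singleton _ _).2 hs))

end SHSubLib
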