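import Groth.Agent.SHSubLib.Radical
import Groth.Agent.SHSubLib.Cover
import Groth.Agent.SHSubLib.Inj
import Groth.Agent.StrictHensBCLib.Integral
import Mathlib

/-! Intermediate algebras of a strict henselization of a henselian ring. -/

set_option autoImplicit false
set_option synthInstance.maxHeartbeats 400000
set_option maxHeartbeats 1600000

universe u

open IsLocalRing TensorProduct
open scoped nonZeroDivisors

namespace SHSubLib

section general

/-- Normality passes to flat quotients of etale algebras. -/
theorem isNormalRing_of_surjective_flat {R T E : Type u} [CommRing R] [CommRing T] [CommRing E] [Algebra R T]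
    [Algebra R E] [Algebra.Etale R T] [Module.Flat R E] (hT : EGA4.IsNormalRing T) (π : T →ₐ[R] E)
    (hπ : Function.Surjective π) : EGA4.IsNormalRing E := by
  letI : Algebra T E := π.toRingHom.toAlgebra
  haveI : IsScalarTower R T E := IsScalarTower.of_algebraMap_eq fun r => (π.commutes r).symm
  haveI : Module.Flat T E := HenselLib.flat_of_etale (R := R)
  let I := RingHom.ker π
  haveI : Module.Flat T (T ⧸ I) := Module.Flat.of_linearEquiv
    (({ (Ideal.quotientKerAlgEquivOfSurjective hπ).toRingEquiv with
        commutes' := fun t => rfl } : (T ⧸ I) ≃ₐ[T] E).toLinearEquiv)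
  have key : ∀ x ∈ I, ∃ i ∈ I, x = i * x := by
    intro x hx
    have h := Ideal.inf_eq_mul_of_pure I (Ideal.span {x})
    have hx2 : x ∈ I * Ideal.span {x} := h ▸ ⟨hx, Ideal.mem_span_singleton_self x⟩
    obtain ⟨i, hi, hix⟩ := Ideal.mem_mul_span_singleton.1 hx2
    exact ⟨i, hi, hix.symm⟩
  intro P hP
  haveI : (P.comap π).IsPrime := Ideal.IsPrime.comap π
  obtain ⟨hd, hc⟩ := hT (P.comap π)
  haveI := hd
  haveI := hc
  let f : Localization.AtPrime (P.comap π) →+* Localization.AtPrime P :=
    Localization.localRingHom _ P π.toRingHom rfl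
  have hf : Function.Bijective f := by
    refine ⟨(injective_iff_map_eq_zero f).2 fun z hz => ?_, fun z => ?_⟩
    · obtain ⟨t, s, rfl⟩ := IsLocalization.exists_mk'_eq (P.comap π).primeCompl z
      rw [Localization.localRingHom_mk', IsLocalization.mk'_eq_zero_iff] at hz
      obtain ⟨⟨w, hw⟩, hwt⟩ := hz
      obtain ⟨w', rfl⟩ := hπ w
      have hI : w' * t ∈ I := by
        rw [RingHom.mem_ker, map_mul]
        exact hwt
      obtain ⟨i, hi, hit⟩ := key _ hI
      rw [IsLocalization.mk'_eq_zero_iff]
      refine ⟨⟨(1 - i) * w', fun h => ?_⟩, ?_⟩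
      · change π ((1 - i) * w') ∈ P at h
        rw [map_mul, map_sub, map_one, RingHom.mem_ker.1 hi, sub_zero, one_mul] at h
        exact hw h
      · change (1 - i) * w' * t = 0
        linear_combination hit
    · obtain ⟨x, ⟨s, hs⟩, rfl⟩ := IsLocalization.exists_mk'_eq P.primeCompl z
      obtain ⟨x', rfl⟩ := hπ x
      obtain ⟨s', rfl⟩ := hπ s
      exact ⟨IsLocalization.mk' _ x' (⟨s', hs⟩ : (P.comap π).primeCompl), Localization.localRingHom_mk' _ _ _ _ _ _⟩
  let e := RingEquiv.ofBijective f hf
  haveI : IsDomain (Localization.AtPrime P) := e.symm.toMulEquiv.isDomain _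
  exact ⟨inferInstance, IsIntegrallyClosed.of_equiv e⟩

/-- Injective maps into integral tensor products hit every maximal ideal. -/
theorem exists_maximal_of_integral {A T U R : Type u} [CommRing A] [CommRing T] [CommRing U] [CommRing R]
    [Algebra A T] [Algebra A U] [Algebra A R] [Algebra.IsIntegral A T] [Algebra.IsIntegral A U]
    (g : R →ₐ[A] T ⊗[A] U) (hg : Function.Injective g) (N : Ideal R) [N.IsMaximal] :
    ∃ P : Ideal (T ⊗[A] U), P.IsMaximal ∧ P.comap g = N := by
  letI : Algebra R (T ⊗[A] U) := g.toRingHom.toAlgebra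
  haveI : IsScalarTower A R (T ⊗[A] U) := IsScalarTower.of_algebraMap_eq fun a => (g.commutes a).symm
  haveI : Algebra.IsIntegral A (T ⊗[A] U) := ⟨fun z => by
    induction z using TensorProduct.induction_on with
    | zero => exact isIntegral_zero
    | add z z' hz hz' => exact hz.add hz'
    | tmul a x =>
      rw [show a ⊗ₜ[A] x = (a ⊗ₜ[A] (1 : U)) * ((1 : T) ⊗ₜ[A] x) by
        rw [Algebra.TensorProduct.tmul_mul_tmul, mul_one, one_mul]]
      exact ((Algebra.IsIntegral.isIntegral (R := A) a).map
          (Algebra.TensorProduct.includeLeft : T →ₐ[A] T ⊗[A] U)).mul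
        ((Algebra.IsIntegral.isIntegral (R := A) x).map
          (Algebra.TensorProduct.includeRight : U →ₐ[A] T ⊗[A] U))⟩
  haveI : Algebra.IsIntegral R (T ⊗[A] U) := Algebra.IsIntegral.tower_top (R := A)
  obtain ⟨P, hP, hPN⟩ := Ideal.exists_ideal_over_maximal_of_isIntegral (S := T ⊗[A] U) N (by
    rw [(RingHom.injective_iff_ker_eq_bot (algebraMap R (T ⊗[A] U))).1 hg]
    exact bot_le)
  exact ⟨P, hP, hPN⟩

end general

variable {A S : Type u} [CommRing A] [HenselianLocalRing A] [IsNoetherianRing A] [CommRing S] [IsLocalRing S]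
  [Algebra A S] [IsLocalHom (algebraMap A S)] [Hensel.IsStrictHenselization A S]

omit [IsNoetherianRing A] in
theorem exists_FEL_ge (s : Finset S) :
    ∃ (F : IntermediateField (ResidueField A) (ResidueField S)) (_ : FiniteDimensional (ResidueField A) F)
      (_ : IsGalois (ResidueField A) F) (B : SHGalLib.FEL A S F), ∀ x ∈ s, x ∈ B.j.range := by
  haveI : HenselianLocalRing S := Hensel.IsStrictHenselization.henselian A
  haveI : Module.FaithfullyFlat A S := Groth.Agent.S0539.result A S
  exact SHGalLib.exists_galois_FEL s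

omit [IsNoetherianRing A] in
theorem isIntegral_strict : Algebra.IsIntegral A S := ⟨fun x => by
  obtain ⟨F, _, _, B, hB⟩ := exists_FEL_ge (A := A) {x}
  obtain ⟨b, hb⟩ := hB x (Finset.mem_singleton_self x)
  rw [← hb]
  exact (Algebra.IsIntegral.isIntegral (R := A) b).map B.j⟩

omit [IsNoetherianRing A] in
/-- Intermediate algebras are henselian local rings with local inclusions. -/
theorem intermediate_data (D : Subalgebra A S) : ∃ _ : IsLocalRing D,
    HenselianLocalRing D ∧ IsLocalHom (algebraMap D S) ∧ IsLocalHom (algebraMap A D) := by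
  haveI := isIntegral_strict (A := A) (S := S)
  haveI : Algebra.IsIntegral D S := Algebra.IsIntegral.tower_top (R := A)
  haveI : Algebra.IsIntegral A D := ⟨fun x =>
    (isIntegral_algHom_iff D.val Subtype.val_injective).1 (Algebra.IsIntegral.isIntegral (R := A) (x : S))⟩
  haveI : IsLocalHom (algebraMap D S) :=
    RingHom.IsIntegral.isLocalHom Algebra.IsIntegral.isIntegral (fun x y h => Subtype.val_injective h)
  haveI : IsLocalRing D := RingHom.domain_isLocalRing (algebraMap D S)
  obtain ⟨h1, h2⟩ := StrictHensBCLib.henselianLocalRing_of_integral (A := A) D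
  exact ⟨inferInstance, h1, inferInstance, h2⟩

omit [IsNoetherianRing A] in
/-- The image of a finite etale local algebra is an essentially etale local subalgebra. -/
theorem essEt_range {F : IntermediateField (ResidueField A) (ResidueField S)} (B : SHGalLib.FEL A S F) :
    EGA4loc.IsEssentiallyEtale A B.j.range ∧ Algebra.Etale A B.j.range ∧ Module.Finite A B.j.range := by
  let e : B.B ≃ₐ[A] B.j.range := AlgEquiv.ofInjective B.j B.inj
  haveI : Algebra.Etale A B.j.range := Algebra.Etale.of_equiv e
  haveI : Module.Finite A B.j.range := Module.Finite.equiv e.toLinearEquiv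
  haveI := B.loc
  let εloc : B.B ≃ₐ[A] Localization.AtPrime (maximalIdeal B.B) :=
    IsLocalization.atUnits B.B (maximalIdeal B.B).primeCompl (fun x hx => by
      by_contra h
      exact hx h) |>.restrictScalars A
  have h0 : (maximalIdeal S).comap (algebraMap A S) = maximalIdeal A :=
    ((IsLocalRing.local_hom_TFAE (algebraMap A S)).out 0 4).1 ‹_›
  have h2 : (maximalIdeal S).comap (B.j : B.B →+* S) = maximalIdeal B.B :=
    ((IsLocalRing.local_hom_TFAE (B.j : B.B →+* S)).out 0 4).1 B.loc
  refine ⟨⟨B.B, inferInstance, inferInstance, maximalIdeal B.B, inferInstance, inferInstance, ?_,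
    ⟨e.symm.trans εloc⟩⟩, inferInstance, inferInstance⟩
  rw [← h0, show algebraMap A S = (B.j : B.B →+* S).comp (algebraMap A B.B) from (B.j.comp_algebraMap).symm,
    ← Ideal.comap_comap, h2]

omit [IsNoetherianRing A] in
/-- Residual inclusions give inclusions of the finite etale lifts. -/
theorem FEL_range_mono {F F' : IntermediateField (ResidueField A) (ResidueField S)} (h : F ≤ F')
    (B : SHGalLib.FEL A S F) (B' : SHGalLib.FEL A S F') : B.j.range ≤ B'.j.range := by
  haveI : HenselianLocalRing S := Hensel.IsStrictHenselization.henselian A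
  obtain ⟨f, hf⟩ := B.exists_hom B' (IntermediateField.inclusion h)
  rintro _ ⟨b, rfl⟩
  exact ⟨f b, B.comp_eq B' f (fun b => by rw [hf b]; rfl) b⟩

variable [IsReduced A]
variable {D : Subalgebra A S}
variable {A' : Subalgebra A (FractionRing S)}
  (hA' : ∀ x : (FractionRing S), x ∈ A' ↔ (IsIntegral A x ∧
      ∃ a ∈ nonZeroDivisors A, ∃ b : A, algebraMap A (FractionRing S) a * x = algebraMap A (FractionRing S) b))

include hA' in
/-- The radical of the normalized strict henselization is generated by the radical of the normalization. -/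
theorem jacobson_tensorS (hN : CAlg.IsNagata A) (z : A' ⊗[A] S) (hz : z ∈ Ideal.jacobson (R := A' ⊗[A] S) ⊥) :
    z ∈ Ideal.map (S := A' ⊗[A] S) (Algebra.TensorProduct.includeLeft : A' →ₐ[A] A' ⊗[A] S)
        (Ideal.jacobson (⊥ : Ideal A')) := by
  obtain ⟨s, hs⟩ := exists_finset_tensor A' z
  obtain ⟨E, hsE, hEl, hEh, hE, hff⟩ := exists_essEt_ge A S s
  haveI := hEl
  haveI := hEh
  obtain ⟨w, rfl⟩ := hs E hsE
  have hw : w ∈ Ideal.jacobson (R := A' ⊗[A] E) ⊥ := Ideal.mem_sInf.2 fun {M} hM => by
    haveI := hM.2
    obtain ⟨P, hP, hPM⟩ := exists_maximal_tensor_over (A := A) (T := A') (U := E) (S := S) E.val hff M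
    rw [← hPM, Ideal.mem_comap]
    exact Ideal.mem_sInf.1 hz ⟨bot_le, hP⟩
  rw [jacobson_tensor A' hA' hN E hE] at hw
  have h := Ideal.mem_map_of_mem (Algebra.TensorProduct.map (AlgHom.id A A') E.val) hw
  rw [Ideal.map_mapₐ] at h
  have heq : (Algebra.TensorProduct.map (AlgHom.id A A') E.val).comp
      (Algebra.TensorProduct.includeLeft : A' →ₐ[A] A' ⊗[A] E) =
      (Algebra.TensorProduct.includeLeft : A' →ₐ[A] A' ⊗[A] S) := AlgHom.ext fun a => by
    change a ⊗ₜ[A] ((1 : E) : S) = a ⊗ₜ[A] (1 : S)
    rw [OneMemClass.coe_one]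
  rw [heq] at h
  exact h

variable {D' : Subalgebra A (FractionRing S)}
  (hD' : ∀ x : (FractionRing S), x ∈ D' ↔ (IsIntegral D x ∧
      ∃ a ∈ nonZeroDivisors A, ∃ d ∈ D, algebraMap A (FractionRing S) a * x = algebraMap S (FractionRing S) d))
variable (G : D' →ₐ[A] A' ⊗[A] S) (hG : ∀ x, muS A' (G x) = (x : FractionRing S))

include hA' hG in
/-- Over a henselian base every maximal ideal of the normalization is dominated. -/
theorem exists_maximal_overH (N : Ideal D') [N.IsMaximal] :
    ∃ P : Ideal (A' ⊗[A] S), P.IsMaximal ∧ P.comap G = N := by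
  haveI := isIntegral_normA A' hA'
  haveI := isIntegral_strict (A := A) (S := S)
  exact exists_maximal_of_integral (A := A) (T := A') (U := S) G
    (fun x y h => Subtype.ext (by rw [← hG x, ← hG y, h])) N

include hA' in
theorem finite_maximal_tensorS (hN : CAlg.IsNagata A) : {P : Ideal (A' ⊗[A] S) | P.IsMaximal}.Finite := by
  haveI := finite_normA A' hA' hN
  haveI := isIntegral_normA A' hA'
  let π : A' ⊗[A] S →ₐ[A] ResidueField S ⊗[A] A' :=
    (Algebra.TensorProduct.comm A A' (ResidueField S)).toAlgHom.comp
      (Algebra.TensorProduct.map (AlgHom.id A A') (IsScalarTower.toAlgHom A S (ResidueField S)))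
  have hπ : Function.Surjective π := by
    refine (Algebra.TensorProduct.comm A A' (ResidueField S)).surjective.comp ?_
    exact TensorProduct.map_surjective Function.surjective_id IsLocalRing.residue_surjective
  haveI : Module.Finite (ResidueField S) (ResidueField S ⊗[A] A') := Module.Finite.base_change A (ResidueField S) A'
  haveI : IsArtinianRing (ResidueField S ⊗[A] A') := IsArtinianRing.of_finite (ResidueField S) _
  refine ((Set.finite_range fun M : MaximalSpectrum (ResidueField S ⊗[A] A') => M.asIdeal.comap π)).subset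
    fun P hP => ?_
  haveI : P.IsMaximal := hP
  have hker : RingHom.ker π ≤ P := by
    obtain ⟨h1, -, -⟩ := maximal_tensor_data (A := A) (T := A') (U := S) P
    have hk := Algebra.TensorProduct.lTensor_ker (R := A) (A := A') (IsScalarTower.toAlgHom A S (ResidueField S))
      IsLocalRing.residue_surjective
    rw [show RingHom.ker (IsScalarTower.toAlgHom A S (ResidueField S)) = maximalIdeal S from
      IsLocalRing.ker_residue] at hk
    intro z hz
    refine Ideal.map_le_iff_le_comap.2 h1 (hk.le ?_)
    exact (Algebra.TensorProduct.comm A A' (ResidueField S)).map_eq_zero_iff.1 hz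
  have hc : Ideal.comap π (Ideal.map π P) = P := by
    rw [Ideal.comap_map_of_surjective π hπ, sup_eq_left]
    exact hker
  refine ⟨⟨P.map π, (Ideal.map_eq_top_or_isMaximal_of_surjective π hπ ‹_›).resolve_left fun htop => ?_⟩, hc⟩
  exact Ideal.IsMaximal.ne_top ‹_› (by rw [← hc, htop, Ideal.comap_top])

end SHSubLib
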