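import Groth.Agent.SHSubLib.HensPure
import Mathlib

/-! Etale intermediate algebras with extended minimal primes are those with purely inseparable residues. -/

set_option autoImplicit false
set_option synthInstance.maxHeartbeats 400000
set_option maxHeartbeats 1600000

universe u

open IsLocalRing TensorProduct

namespace SHSubLib

section general

/-- Minimal primes over an extended prime are minimal when the extension has going down. -/
theorem mem_minimalPrimes_of_extended {D E : Type u} [CommRing D] [CommRing E] [Algebra D E] [Module.Flat D E]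
    {q : Ideal D} (hq : q ∈ minimalPrimes D) {p : Ideal E} (hp : p ∈ (q.map (algebraMap D E)).minimalPrimes) :
    p ∈ minimalPrimes E ∧ p.comap (algebraMap D E) = q := by
  haveI := hp.1.1
  haveI := hq.1.1
  have hqp : q ≤ p.comap (algebraMap D E) := Ideal.map_le_iff_le_comap.1 hp.1.2
  haveI : p.LiesOver (p.comap (algebraMap D E)) := ⟨rfl⟩
  obtain ⟨p', hp'p, hp'prime, hp'over⟩ :=
    Ideal.exists_ideal_le_liesOver_of_le (p := q) (q := p.comap (algebraMap D E)) p hqp
  have hover : p'.comap (algebraMap D E) = q := hp'over.over.symm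
  have heq : p' = p := le_antisymm hp'p (hp.2 ⟨hp'prime, Ideal.map_le_iff_le_comap.2 hover.ge⟩ hp'p)
  subst heq
  refine ⟨⟨⟨hp'prime, bot_le⟩, fun p₀ hp₀ hle => ?_⟩, hover⟩
  haveI := hp₀.1
  have hle' : p₀.comap (algebraMap D E) ≤ q := fun x hx => hover.le (hle hx)
  exact hp.2 ⟨hp₀.1, Ideal.map_le_iff_le_comap.2 (hq.2 ⟨Ideal.IsPrime.comap _, bot_le⟩ hle')⟩ hle

/-- Etale algebras over reduced quotients have reduced fibres. -/
theorem isReduced_quot_map {D E : Type u} [CommRing D] [CommRing E] [Algebra D E] [Algebra.Etale D E]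
    (q : Ideal D) [q.IsPrime] : _root_.IsReduced (E ⧸ q.map (algebraMap D E)) := by
  haveI : _root_.IsReduced ((D ⧸ q) ⊗[D] E) := AlgSpLib.isReduced_of_etale (D ⧸ q) ((D ⧸ q) ⊗[D] E)
  exact isReduced_of_injective
    ((Algebra.TensorProduct.comm D E (D ⧸ q)).toAlgHom.comp
      ((Algebra.TensorProduct.quotIdealMapEquivTensorQuot E q).toAlgHom.restrictScalars D))
    ((Algebra.TensorProduct.comm D E (D ⧸ q)).injective.comp (Algebra.TensorProduct.quotIdealMapEquivTensorQuot E q).injective)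

/-- Elements separable over a compatible subfield lie in the image of a separably closed field. -/
theorem mem_range_of_isSeparable {k₀ kS K : Type u} [Field k₀] [Field kS] [IsSepClosed kS] [Field K] [Algebra k₀ K]
    (τ : kS →+* K) (h : ∀ r : k₀, algebraMap k₀ K r ∈ τ.range) {y : K} (hy : IsSeparable k₀ y) : y ∈ τ.range := by
  let e : kS ≃+* τ.range := RingEquiv.ofBijective τ.rangeRestrict
    ⟨fun a b hab => τ.injective (congrArg Subtype.val hab), τ.rangeRestrict_surjective⟩
  let ρ : k₀ →+* kS := e.symm.toRingHom.comp ((algebraMap k₀ K).codRestrict τ.range h)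
  have hρ : τ.comp ρ = algebraMap k₀ K := RingHom.ext fun r => congrArg Subtype.val (e.apply_symm_apply ⟨_, h r⟩)
  letI : Algebra kS K := τ.toAlgebra
  have hz : Polynomial.aeval y ((minpoly k₀ y).map ρ) = 0 := by
    rw [Polynomial.aeval_def, Polynomial.eval₂_map, RingHom.algebraMap_toAlgebra, hρ]
    exact minpoly.aeval k₀ y
  have hsep : (minpoly kS y).Separable := Polynomial.Separable.of_dvd (Polynomial.Separable.map (f := ρ) hy) (minpoly.dvd kS y hz)
  have hint : IsIntegral kS y := ⟨_, (minpoly.monic hy.isIntegral).map ρ, hz⟩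
  obtain ⟨z, hzy⟩ := minpoly.degree_eq_one_iff.1 (IsSepClosed.degree_eq_one_of_irreducible kS (minpoly.irreducible hint) hsep)
  exact ⟨z, hzy⟩

end general

variable {A S : Type u} [CommRing A] [HenselianLocalRing A] [IsReduced A] [IsNoetherianRing A] [CommRing S]
  [IsLocalRing S] [Algebra A S] [IsLocalHom (algebraMap A S)] [Hensel.IsStrictHenselization A S]
variable {D : Subalgebra A S} [IsLocalRing D] [IsLocalHom (algebraMap D S)]
variable {A' D' : Subalgebra A (FractionRing S)}
  (hA' : ∀ x : (FractionRing S), x ∈ A' ↔ (IsIntegral A x ∧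
      ∃ a ∈ nonZeroDivisors A, ∃ b : A, algebraMap A (FractionRing S) a * x = algebraMap A (FractionRing S) b))
  (hD' : ∀ x : (FractionRing S), x ∈ D' ↔ (IsIntegral D x ∧
      ∃ a ∈ nonZeroDivisors A, ∃ d ∈ D, algebraMap A (FractionRing S) a * x = algebraMap S (FractionRing S) d))
  (hle : A' ≤ D') (ι : D →ₐ[A] D') (hι : ∀ d : D, (ι d : (FractionRing S)) = algebraMap S (FractionRing S) d)
  (G : D' →ₐ[A] A' ⊗[A] S) (hG : ∀ x, muS A' (G x) = (x : FractionRing S))

include hA' hD' hle hι hG in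
/-- Purely inseparable residues make minimal primes extended. -/
theorem extended_of_pure [Module.Finite A D] (hN : CAlg.IsNagata A) (q : ℕ) [ExpChar (ResidueField A) q]
    (hpure : ∀ N : Ideal D', N.IsMaximal → ∀ x : D', ∃ n : ℕ, ∃ d : D, x ^ q ^ n - ι d ∈ N) :
    Algebra.Etale A D ∧
      ∀ Q ∈ minimalPrimes S, Q = Ideal.map (algebraMap D S) (Q.comap (algebraMap D S)) := by
  classical
  obtain ⟨F, _, B, hDB⟩ := exists_eq_FEL hA' hD' hle ι hι G hG hN q hpure
  obtain ⟨-, hBet, -⟩ := essEt_range (A := A) B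
  haveI : Algebra.Etale A D := hDB ▸ hBet
  refine ⟨inferInstance, fun Q hQ => le_antisymm (fun x hx => ?_) Ideal.map_comap_le⟩
  haveI := hQ.1.1
  haveI : Module.FaithfullyFlat A S := Groth.Agent.S0539.result A S
  haveI : Module.Flat D S := HenselLib.flat_of_etale (R := A)
  let q₀ := Q.comap (algebraMap D S)
  have hq₀ : q₀ ∈ minimalPrimes D := by
    refine ⟨⟨Ideal.IsPrime.comap _, bot_le⟩, fun q' hq' hle' => ?_⟩
    haveI := hq'.1
    haveI : Q.LiesOver q₀ := ⟨rfl⟩
    obtain ⟨Q', hQ'Q, hQ'prime, hQ'over⟩ := Ideal.exists_ideal_le_liesOver_of_le (p := q') (q := q₀) Q hle'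
    have h : Q' = Q := le_antisymm hQ'Q (hQ.2 ⟨hQ'prime, bot_le⟩ hQ'Q)
    exact (by rw [hQ'over.over, h] : q' = q₀).ge
  obtain ⟨F', hF', -, B', hB'⟩ := exists_FEL_ge (A := A) {x}
  haveI := hF'
  obtain ⟨B''⟩ := nonempty_FEL' (A := A) (S := S) (F ⊔ F')
  let E := B''.j.range
  obtain ⟨hEl, -, hES, -⟩ := intermediate_data (A := A) E
  haveI := hEl
  haveI := hES
  have hDE : D ≤ E := hDB.le.trans (FEL_range_mono le_sup_left B B'')
  have hxE : x ∈ E := FEL_range_mono le_sup_right B' B'' (hB' x (by simp))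
  obtain ⟨-, hEet, -⟩ := essEt_range (A := A) B''
  haveI := hEet
  letI : Algebra D E := (Subalgebra.inclusion hDE).toRingHom.toAlgebra
  haveI : IsScalarTower A D E := IsScalarTower.of_algebraMap_eq fun _ => rfl
  haveI : IsScalarTower D E S := IsScalarTower.of_algebraMap_eq fun _ => rfl
  haveI : Algebra.Etale D E := Algebra.Etale.of_restrictScalars A D E
  haveI : Module.Flat D E := inferInstance
  haveI := isReduced_quot_map (D := D) (E := E) q₀
  have hxp : ∀ p ∈ (q₀.map (algebraMap D E)).minimalPrimes, (⟨x, hxE⟩ : E) ∈ p := fun p hp => by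
    obtain ⟨hpmin, hpq⟩ := mem_minimalPrimes_of_extended hq₀ hp
    obtain ⟨P', hP', hP'p⟩ := Ideal.exists_comap_eq_of_mem_minimalPrimes_of_injective
      (f := algebraMap E S) Subtype.val_injective p hpmin
    haveI := hP'
    obtain ⟨Q', hQ', hQ'le⟩ := Ideal.exists_minimalPrimes_le (bot_le : (⊥ : Ideal S) ≤ P')
    haveI := hQ'.1.1
    have hQ'p : Q'.comap (algebraMap E S) = p := le_antisymm ((Ideal.comap_mono hQ'le).trans hP'p.le)
      (hpmin.2 ⟨Ideal.IsPrime.comap _, bot_le⟩ ((Ideal.comap_mono hQ'le).trans hP'p.le))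
    have hQQ : Q' = Q := minimalPrimes_inj_of_pure hA' hD' hle ι hι G hG hN q hpure hQ' hQ (by
      rw [IsScalarTower.algebraMap_eq D E S, ← Ideal.comap_comap, hQ'p, hpq]
      rw [← IsScalarTower.algebraMap_eq])
    rw [← hQ'p, hQQ]
    exact hx
  have hrad : (⟨x, hxE⟩ : E) ∈ q₀.map (algebraMap D E) := by
    have h : (⟨x, hxE⟩ : E) ∈ (q₀.map (algebraMap D E)).radical := by
      rw [← Ideal.sInf_minimalPrimes]
      exact Ideal.mem_sInf.2 fun {p} hp => hxp p hp
    obtain ⟨n, hn⟩ := h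
    rw [← Ideal.Quotient.eq_zero_iff_mem, map_pow] at hn
    exact Ideal.Quotient.eq_zero_iff_mem.1 (IsReduced.eq_zero _ ⟨n, hn⟩)
  have h := Ideal.mem_map_of_mem (algebraMap E S) hrad
  rw [Ideal.map_map, ← IsScalarTower.algebraMap_eq] at h
  exact h

include hA' hD' hle hι hG in
/-- For an etale algebra the normalization is generated by the normalized base. -/
theorem G_mem_range [Module.Finite A D] [Algebra.Etale A D] (x : D') :
    ∃ w, Algebra.TensorProduct.map (AlgHom.id A A') D.val w = G x := by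
  have hmin : (minimalPrimes A).Finite := minimalPrimes.finite_of_isNoetherianRing A
  obtain ⟨-, -, -, hAD⟩ := intermediate_data (A := A) D
  haveI := hAD
  have hE : EGA4loc.IsEssentiallyEtale A D := by
    let εloc : D ≃ₐ[A] Localization.AtPrime (maximalIdeal D) :=
      IsLocalization.atUnits D (maximalIdeal D).primeCompl (fun x hx => by
        by_contra h
        exact hx h) |>.restrictScalars A
    exact ⟨D, inferInstance, inferInstance, maximalIdeal D, inferInstance, inferInstance,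
      ((IsLocalRing.local_hom_TFAE (algebraMap A D)).out 0 4).1 hAD, ⟨εloc⟩⟩
  haveI := EssEtFracLib.flat_of_essEt hE
  obtain ⟨s, hsD, hs⟩ := exists_finset_range A' hA' hD' hmin x
  obtain ⟨w, hw⟩ := hs D hE hsD
  exact ⟨w, muS_injective A' hA' (by rw [hG]; exact (muS_map A' D w).trans hw)⟩

include hA' hD' hle hι hG in
/-- Over one maximal ideal of the normalization of an etale algebra with extended minimal primes lies one maximal ideal. -/
theorem eq_of_extended [Module.Finite A D] [Algebra.Etale A D]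
    (hext : ∀ Q ∈ minimalPrimes S, Q = Ideal.map (algebraMap D S) (Q.comap (algebraMap D S)))
    (P P' : Ideal (A' ⊗[A] S)) [P.IsMaximal] [P'.IsMaximal] (h : P.comap G = P'.comap G) : P = P' := by
  classical
  haveI := isReduced_frac (A := A) (S := S)
  haveI : IsReduced S := isReduced_of_injective (algebraMap S (FractionRing S)) (IsFractionRing.injective S _)
  haveI : IsReduced D := isReduced_of_injective D.val Subtype.val_injective
  haveI : Module.FaithfullyFlat A S := Groth.Agent.S0539.result A S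
  haveI : Module.Flat D S := HenselLib.flat_of_etale (R := A)
  have hnorm := isNormalRing_norm hA' hD' ι hι
  let ρ : S →+* A' ⊗[A] S := (Algebra.TensorProduct.includeRight : S →ₐ[A] A' ⊗[A] S).toRingHom
  have hinj := muS_injective A' hA'
  obtain ⟨p, hp, hpP⟩ := Ideal.exists_minimalPrimes_le (bot_le : (⊥ : Ideal (A' ⊗[A] S)) ≤ P)
  obtain ⟨p', hp', hpP'⟩ := Ideal.exists_minimalPrimes_le (bot_le : (⊥ : Ideal (A' ⊗[A] S)) ≤ P')
  haveI := hp.1.1
  haveI := hp'.1.1
  have hlift : ∀ r ∈ minimalPrimes (A' ⊗[A] S), ∃ Pk : Ideal (FractionRing S), Pk.IsPrime ∧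
      Pk.comap (muS A').toRingHom = r := fun r hr =>
    Ideal.exists_comap_eq_of_mem_minimalPrimes_of_injective (f := (muS A').toRingHom) hinj r hr
  have hρmu : ∀ s, muS A' (ρ s) = algebraMap S (FractionRing S) s := fun s => by
    change muS A' ((1 : A') ⊗ₜ[A] s) = _
    rw [muS_tmul, OneMemClass.coe_one, one_mul]
  have hQmin : ∀ r ∈ minimalPrimes (A' ⊗[A] S), r.comap ρ ∈ minimalPrimes S := fun r hr => by
    haveI := hr.1.1
    obtain ⟨Pk, hPk, hPkr⟩ := hlift r hr
    obtain ⟨Q₀, hQ₀, hQ₀le⟩ := Ideal.exists_minimalPrimes_le (bot_le : (⊥ : Ideal S) ≤ r.comap ρ)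
    haveI := hQ₀.1.1
    have hd := (Ideal.disjoint_nonZeroDivisors_of_mem_minimalPrimes hQ₀).symm
    haveI := IsLocalization.isPrime_of_isPrime_disjoint _ (FractionRing S) Q₀ ‹_› hd
    have hc := IsLocalization.comap_map_of_isPrime_disjoint _ (FractionRing S) ‹Q₀.IsPrime› hd
    let p₀ := (Q₀.map (algebraMap S (FractionRing S))).comap (muS A').toRingHom
    have hp₀r : p₀ ≤ r := fun y hy => by
      obtain ⟨⟨s, t⟩, hst⟩ := IsLocalization.surj (nonZeroDivisors S) (muS A' y)
      have hs : s ∈ Q₀ := hc.le (by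
        change algebraMap S (FractionRing S) s ∈ Q₀.map (algebraMap S (FractionRing S))
        rw [← hst]
        exact Ideal.mul_mem_right _ _ hy)
      have hy' : y * ρ t = ρ s := hinj (by rw [map_mul, hρmu, hρmu, hst])
      refine (hr.1.1.mem_or_mem (show y * ρ t ∈ r from hy'.symm ▸ (show ρ s ∈ r from hQ₀le hs))).resolve_right fun ht => ?_
      rw [← hPkr] at ht
      change muS A' (ρ t) ∈ Pk at ht
      rw [hρmu] at ht
      exact hPk.ne_top (Pk.eq_top_of_isUnit_mem ht (IsLocalization.map_units _ t))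
    have hrp₀ : r ≤ p₀ := hr.2 ⟨Ideal.IsPrime.comap _, bot_le⟩ hp₀r
    have hle2 : r.comap ρ ≤ Q₀ := fun s hs => hc.le (by
      have h2 : muS A' (ρ s) ∈ Q₀.map (algebraMap S (FractionRing S)) := hrp₀ hs
      rwa [hρmu] at h2)
    rw [le_antisymm hle2 hQ₀le]
    exact hQ₀
  have hqmin : ∀ r ∈ minimalPrimes (A' ⊗[A] S), (r.comap ρ).comap (algebraMap D S) ∈ minimalPrimes D := fun r hr => by
    have hQ := hQmin r hr
    haveI := hQ.1.1
    refine ⟨⟨Ideal.IsPrime.comap _, bot_le⟩, fun q' hq' hle' => ?_⟩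
    haveI := hq'.1
    haveI : (r.comap ρ).LiesOver ((r.comap ρ).comap (algebraMap D S)) := ⟨rfl⟩
    obtain ⟨Q', hQ'Q, hQ'prime, hQ'over⟩ :=
      Ideal.exists_ideal_le_liesOver_of_le (p := q') (q := (r.comap ρ).comap (algebraMap D S)) (r.comap ρ) hle'
    have h : Q' = r.comap ρ := le_antisymm hQ'Q (hQ.2 ⟨hQ'prime, bot_le⟩ hQ'Q)
    exact (by rw [hQ'over.over, h] : q' = (r.comap ρ).comap (algebraMap D S)).ge
  have hGι : ∀ d : D, G (ι d) = ρ (d : S) := fun d => G_iota A' hA' ι hι G hG d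
  haveI := isMaximal_comap_G A' hA' G P
  obtain ⟨hdom, -⟩ := hnorm (P.comap G)
  haveI := hdom
  have hsub : ∀ r r' : Ideal (A' ⊗[A] S), r ∈ minimalPrimes (A' ⊗[A] S) → r'.IsPrime → r.comap G ≤ P.comap G →
      r'.comap G ≤ P.comap G → r.comap G ≤ r'.comap G := fun r r' hr hr' h1 h2 x hx => by
    haveI := hr.1.1
    haveI := hr'
    obtain ⟨-, a, ha, d, hd, hxd⟩ := (hD' _).1 x.2
    have hxa : algebraMap A D' a * x = ι ⟨d, hd⟩ := Subtype.ext (by rw [hι]; exact hxd)
    have hdq : (⟨d, hd⟩ : D) ∈ (r.comap ρ).comap (algebraMap D S) := by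
      change ρ d ∈ r
      rw [← hGι ⟨d, hd⟩, ← hxa]
      exact Ideal.mul_mem_left (r.comap G) _ hx
    obtain ⟨w, hw, hwd⟩ := exists_mul_eq_zero_of_minimal (hqmin r hr) hdq
    refine mem_of_mul_eq_zero (P.comap G) (r.comap G) (r'.comap G) h1 h2 (u := ι w) (fun hmem => hw ?_) ?_
    · change ρ (w : S) ∈ r
      rw [← hGι]
      exact hmem
    · apply Subtype.ext
      refine (isUnit_algebraMap_frac (S := S) ha).mul_left_cancel ?_
      change algebraMap A (FractionRing S) a * ((ι w : FractionRing S) * x) = algebraMap A (FractionRing S) a * 0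
      rw [mul_zero, mul_left_comm, hxd, hι, ← map_mul, show (w : S) * d = 0 from congrArg Subtype.val hwd, map_zero]
  have h1 : p.comap G ≤ P.comap G := Ideal.comap_mono hpP
  have h2 : p'.comap G ≤ P.comap G := (Ideal.comap_mono hpP').trans h.ge
  have hr : p.comap G = p'.comap G := le_antisymm (hsub p p' hp hp'.1.1 h1 h2) (hsub p' p hp' hp.1.1 h2 h1)
  have hq : (p.comap ρ).comap (algebraMap D S) = (p'.comap ρ).comap (algebraMap D S) := Ideal.ext fun d => by
    change ρ (d : S) ∈ p ↔ ρ (d : S) ∈ p'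
    rw [← hGι]
    exact SetLike.ext_iff.1 hr (ι d)
  have hQ : p.comap ρ = p'.comap ρ := by
    rw [hext _ (hQmin p hp), hext _ (hQmin p' hp'), hq]
  have hp_le : ∀ r r' : Ideal (A' ⊗[A] S), r ∈ minimalPrimes (A' ⊗[A] S) → r' ∈ minimalPrimes (A' ⊗[A] S) →
      r.comap ρ ≤ r'.comap ρ → r ≤ r' := fun r r' hr hr' hle2 y hy => by
    haveI := hr'.1.1
    obtain ⟨Pk, hPk, hPkr⟩ := hlift r' hr'
    obtain ⟨⟨s, t⟩, hst⟩ := IsLocalization.surj (nonZeroDivisors S) (muS A' y)
    have hy' : y * ρ t = ρ s := hinj (by rw [map_mul, hρmu, hρmu, hst])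
    have hs : ρ s ∈ r' := hle2 (show s ∈ r.comap ρ by rw [Ideal.mem_comap, ← hy']; exact r.mul_mem_right _ hy)
    refine (hr'.1.1.mem_or_mem (hy'.symm ▸ hs)).resolve_right fun ht => ?_
    rw [← hPkr] at ht
    change muS A' (ρ t) ∈ Pk at ht
    rw [hρmu] at ht
    exact hPk.ne_top (Pk.eq_top_of_isUnit_mem ht (IsLocalization.map_units _ t))
  have hpp : p = p' := le_antisymm (hp_le p p' hp hp' hQ.le) (hp_le p' p hp' hp hQ.ge)
  haveI := isIntegral_normA A' hA'
  haveI := isIntegral_strict (A := A) (S := S)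
  haveI : Algebra.IsIntegral A (A' ⊗[A] S) := ⟨isIntegral_tensor'⟩
  exact eq_of_prime_le (A := A) (B := A' ⊗[A] S) p P P' hpP (hpp.le.trans hpP')

include hA' hD' hle hι hG in
/-- Residues separable over the image of an etale algebra with extended minimal primes lie in it. -/
theorem mem_of_isSeparable [Module.Finite A D] [Algebra.Etale A D]
    (hext : ∀ Q ∈ minimalPrimes S, Q = Ideal.map (algebraMap D S) (Q.comap (algebraMap D S)))
    (N : Ideal D') [N.IsMaximal] {l : Type u} [Field l] (f : D' →+* l)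
    (hf : Function.Surjective f) (hker : RingHom.ker f = N) (k₀ : Subfield l)
    (hk₀ : ∀ y, y ∈ k₀ ↔ ∃ d, f (ι d) = y) (y : l) (hy : IsSeparable k₀ y) : y ∈ k₀ := by
  classical
  by_contra hynot
  obtain ⟨P, hP, hPN⟩ := exists_maximal_overH hA' G hG N
  haveI := hP
  obtain ⟨K, _, _, π, hπs, hπ⟩ := exists_field_quot (A := A) (T := A' ⊗[A] S) P
  let σ : l →+* K := RingHom.liftOfSurjective f hf ⟨π.toRingHom.comp (G : D' →+* A' ⊗[A] S),
    fun x hx => (hπ _).2 (by
      rw [hker, ← hPN] at hx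
      exact hx)⟩
  have hσ : ∀ x, σ (f x) = π (G x) := fun x => RingHom.liftOfRightInverse_comp_apply _ _ _ _ x
  letI : Algebra k₀ K := (σ.comp (algebraMap k₀ l)).toAlgebra
  let σ' : l →ₐ[k₀] K := { σ with commutes' := fun _ => rfl }
  have hy' : IsSeparable k₀ (σ y) := by
    rw [show σ y = σ' y from rfl]
    unfold IsSeparable at hy ⊢
    rwa [minpoly.algHom_eq σ' σ'.injective]
  obtain ⟨h1, h2, -⟩ := maximal_data A' hA' P
  let τ : ResidueField S →+* K := Ideal.Quotient.lift (maximalIdeal S)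
    (π.comp (Algebra.TensorProduct.includeRight : S →ₐ[A] A' ⊗[A] S)).toRingHom fun s hs => (hπ _).2 (h1 hs)
  haveI : IsSepClosure (ResidueField A) (ResidueField S) := Hensel.IsStrictHenselization.isSepClosure
  haveI : IsSepClosed (ResidueField S) := IsSepClosure.sep_closed (ResidueField A)
  obtain ⟨s, hs⟩ : σ y ∈ τ.range := mem_range_of_isSeparable τ (fun r => by
    obtain ⟨d, hd⟩ := (hk₀ _).1 r.2
    refine ⟨residue S (d : S), ?_⟩
    change π ((1 : A') ⊗ₜ[A] (d : S)) = σ (r : l)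
    rw [← hd, hσ, G_iota A' hA' ι hι G hG d]) hy'
  obtain ⟨s, rfl⟩ := IsLocalRing.residue_surjective s
  replace hs : π ((1 : A') ⊗ₜ[A] s) = σ y := hs
  let Ω := AlgebraicClosure K
  haveI := isIntegral_normA A' hA'
  haveI := isIntegral_strict (A := A) (S := S)
  let ρA : A →+* k₀ := (f.comp (algebraMap A D')).codRestrict k₀ fun a =>
    (hk₀ _).2 ⟨algebraMap A D a, by rw [AlgHom.commutes]; rfl⟩
  have hρA : (algebraMap k₀ K).comp ρA = algebraMap A K := RingHom.ext fun a => by
    change σ (f (algebraMap A D' a)) = _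
    rw [hσ, G.commutes, π.commutes]
  haveI : Algebra.IsAlgebraic k₀ K := ⟨fun z => by
    obtain ⟨z, rfl⟩ := hπs z
    obtain ⟨p, hp, hpz⟩ := ((isIntegral_tensor' (A := A) (T := A') (U := S) z).map π)
    exact IsIntegral.isAlgebraic ⟨p.map ρA, hp.map _, by rw [Polynomial.eval₂_map, hρA]; exact hpz⟩⟩
  haveI : Algebra.IsAlgebraic K Ω := inferInstance
  haveI : Algebra.IsAlgebraic k₀ Ω := Algebra.IsAlgebraic.trans k₀ K Ω
  haveI : IsAlgClosure k₀ Ω := ⟨inferInstance, inferInstance⟩
  haveI : Normal k₀ Ω := IsAlgClosure.normal k₀ Ω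
  let j : K →ₐ[k₀] Ω := IsScalarTower.toAlgHom k₀ K Ω
  have hjy : IsSeparable k₀ (j (σ y)) := by
    unfold IsSeparable at hy' ⊢
    rwa [minpoly.algHom_eq j j.injective]
  have hnb : j (σ y) ∉ (algebraMap k₀ Ω).range := fun ⟨r, hr⟩ => hynot (by
    have h : σ (r : l) = σ y := (algebraMap K Ω).injective hr
    rw [← σ.injective h]
    exact r.2)
  obtain ⟨y₂, hy₂, hne⟩ : ∃ y₂ : Ω, Polynomial.aeval y₂ (minpoly k₀ (j (σ y))) = 0 ∧ y₂ ≠ j (σ y) := by
    by_contra hall
    push Not at hall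
    have hint : IsIntegral k₀ (j (σ y)) := Algebra.IsIntegral.isIntegral _
    have hcard := Polynomial.card_rootSet_eq_natDegree (K := Ω) hjy (IsAlgClosed.splits _)
    have h1 : ((minpoly k₀ (j (σ y))).rootSet Ω : Set Ω) ⊆ {j (σ y)} := fun z hz =>
      hall z (Polynomial.mem_rootSet.1 hz).2
    have h2 : Fintype.card ((minpoly k₀ (j (σ y))).rootSet Ω) ≤ 1 :=
      Fintype.card_le_one_iff_subsingleton.2 ⟨fun a b => Subtype.ext ((h1 a.2).trans (h1 b.2).symm)⟩
    rw [hcard] at h2
    exact hnb ((minpoly.natDegree_eq_one_iff).1 (le_antisymm h2 (minpoly.natDegree_pos hint)))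
  obtain ⟨g, hg⟩ := minpoly.exists_algEquiv_of_root' (Algebra.IsAlgebraic.isAlgebraic (j (σ y))) hy₂
  let θ₁ : A' →ₐ[A] Ω := (IsScalarTower.toAlgHom A K Ω).comp (π.comp Algebra.TensorProduct.includeLeft)
  let θ₂ : S →ₐ[A] Ω :=
    { (g : Ω →+* Ω).comp ((algebraMap K Ω).comp
        (π.comp (Algebra.TensorProduct.includeRight : S →ₐ[A] A' ⊗[A] S)).toRingHom) with
      commutes' := fun a => by
        change g (algebraMap K Ω ((π.comp (Algebra.TensorProduct.includeRight : S →ₐ[A] A' ⊗[A] S)) (algebraMap A S a))) = _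
        rw [AlgHom.commutes, ← hρA, RingHom.comp_apply, ← IsScalarTower.algebraMap_apply, g.commutes,
          IsScalarTower.algebraMap_apply A K Ω, IsScalarTower.algebraMap_apply k₀ K Ω, ← hρA]
        rfl }
  let θ := Algebra.TensorProduct.productMap θ₁ θ₂
  have hθD : ∀ z : A' ⊗[A] D, θ (Algebra.TensorProduct.map (AlgHom.id A A') D.val z) =
      algebraMap K Ω (π (Algebra.TensorProduct.map (AlgHom.id A A') D.val z)) := fun z => by
    induction z using TensorProduct.induction_on with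
    | zero => simp
    | add z z' hz hz' => simp only [map_add, hz, hz']
    | tmul a d =>
      rw [Algebra.TensorProduct.map_tmul, AlgHom.id_apply, Algebra.TensorProduct.productMap_apply_tmul,
        show a ⊗ₜ[A] (D.val d) = (a ⊗ₜ[A] (1 : S)) * ((1 : A') ⊗ₜ[A] (d : S)) by
          rw [Algebra.TensorProduct.tmul_mul_tmul, mul_one, one_mul]; rfl, map_mul, map_mul]
      have hr : π ((1 : A') ⊗ₜ[A] (d : S)) = algebraMap k₀ K ⟨f (ι d), (hk₀ _).2 ⟨d, rfl⟩⟩ := by
        change _ = σ (f (ι d))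
        rw [hσ, G_iota A' hA' ι hι G hG d]
      change algebraMap K Ω (π (a ⊗ₜ[A] (1 : S))) * g (algebraMap K Ω (π ((1 : A') ⊗ₜ[A] (d : S)))) = _
      rw [hr, ← IsScalarTower.algebraMap_apply, g.commutes]
  obtain ⟨x, rfl⟩ := hf y
  obtain ⟨w, hw⟩ := G_mem_range hA' hD' hle ι hι G hG x
  let z := G x - (1 : A') ⊗ₜ[A] s
  have hzP : z ∈ P := (hπ _).1 (by rw [map_sub, ← hσ, hs, sub_self])
  have hzθ : θ z ≠ 0 := by
    rw [map_sub, ← hw, hθD, hw, ← hσ, Algebra.TensorProduct.productMap_apply_tmul, map_one, one_mul, sub_ne_zero]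
    change algebraMap K Ω (σ (f x)) ≠ g (algebraMap K Ω (π ((1 : A') ⊗ₜ[A] s)))
    rw [hs]
    intro hcontra
    exact hne (hg.symm.trans hcontra.symm)
  obtain ⟨P', hP', hkerP'⟩ := Ideal.exists_le_maximal (RingHom.ker θ) (RingHom.ker_ne_top θ)
  haveI := hP'
  haveI : (RingHom.ker θ).IsPrime := RingHom.ker_isPrime θ
  have hmax : (RingHom.ker θ).IsMaximal := by
    haveI := isIntegral_residue (A := A) (S := S)
    refine (isMaximal_tensor (A := A) (T := A') (U := S) (maximalIdeal S) G (RingHom.ker θ) (fun t ht => ?_)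
      (fun a ha => ?_)).1
    · change θ ((1 : A') ⊗ₜ[A] t) = 0
      rw [Algebra.TensorProduct.productMap_apply_tmul, map_one, one_mul]
      change g (algebraMap K Ω (π ((1 : A') ⊗ₜ[A] t))) = 0
      rw [show π ((1 : A') ⊗ₜ[A] t) = 0 from (hπ _).2 (h1 ht), map_zero, map_zero]
    · change θ (algebraMap A (A' ⊗[A] S) a) = 0
      rw [θ.commutes, IsScalarTower.algebraMap_apply A K Ω, ← π.commutes, (hπ _).2 (h2 ha), map_zero]
  have hP'N : (RingHom.ker θ).comap G = P.comap G := Ideal.ext fun x' => by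
    obtain ⟨w', hw'⟩ := G_mem_range hA' hD' hle ι hι G hG x'
    rw [Ideal.mem_comap, Ideal.mem_comap, ← hw', RingHom.mem_ker, hθD, ← hπ, map_eq_zero]
  have hPP := eq_of_extended hA' hD' hle ι hι G hG hext (RingHom.ker θ) P hP'N
  exact hzθ (hPP.ge hzP)

end SHSubLib
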