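import Groth.Agent.HenselBranchLib.Count
import Groth.Agent.BranchLib.One
import Groth.Agent.SHSubLib.HensEtale
import Groth.Agent.S0507
import Groth.Agent.S0508
import Groth.Agent.S0509
import Groth.Agent.S0540
import Mathlib

/-! Branches and extended minimal primes. -/

set_option autoImplicit false
set_option synthInstance.maxHeartbeats 400000
set_option maxHeartbeats 1600000

universe u

open IsLocalRing TensorProduct

namespace SHSubLib

section general

/-- Covers by etale algebras survive a change of base. -/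
theorem etCov_tower {A H S : Type u} [CommRing A] [CommRing H] [CommRing S] [Algebra A H] [Algebra A S] [Algebra H S]
    [IsScalarTower A H S] {x : S} (hx : HenselLib.EtCov (R := A) x) : HenselLib.EtCov (R := H) x := by
  obtain ⟨U, _, _, _, ξ, u, hu⟩ := hx
  refine ⟨H ⊗[A] U, inferInstance, inferInstance, inferInstance,
    Algebra.TensorProduct.lift (Algebra.ofId H S) ξ fun _ _ => Commute.all _ _, 1 ⊗ₜ u, ?_⟩
  rw [← hu]
  simp

/-- Extended primes of a ring covered by etale algebras are radical. -/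
theorem mem_map_of_pow_mem {H S : Type u} [CommRing H] [CommRing S] [IsLocalRing S] [Algebra H S] [Module.Flat H S]
    (hcov : ∀ x : S, HenselLib.EtCov (R := H) x) (q : Ideal H) [q.IsPrime] {x : S} {n : ℕ}
    (hx : x ^ n ∈ q.map (algebraMap H S)) : x ∈ q.map (algebraMap H S) := by
  obtain ⟨U, _, _, _, p, _, ψ, hψl, hψf, hψs⟩ := HenselLib.exists_local_cover hcov {x}
  obtain ⟨y, rfl⟩ := hψs x (Finset.mem_singleton_self x)
  letI : Algebra (Localization.AtPrime p) S := (ψ : Localization.AtPrime p →+* S).toAlgebra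
  haveI : Module.Flat (Localization.AtPrime p) S := hψf
  haveI : IsLocalHom (algebraMap (Localization.AtPrime p) S) := hψl
  haveI : Module.FaithfullyFlat (Localization.AtPrime p) S := Module.FaithfullyFlat.of_flat_of_isLocalHom
  haveI : IsScalarTower H (Localization.AtPrime p) S := IsScalarTower.of_algebraMap_eq fun r => (ψ.commutes r).symm
  have h : y ^ n ∈ q.map (algebraMap H (Localization.AtPrime p)) := by
    rw [← Ideal.comap_map_eq_self_of_faithfullyFlat (B := S) (q.map (algebraMap H (Localization.AtPrime p))),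
      Ideal.map_map, ← IsScalarTower.algebraMap_eq, Ideal.mem_comap, map_pow]
    exact hx
  haveI := isReduced_quot_map (D := H) (E := U) q
  obtain ⟨u, w, rfl⟩ := IsLocalization.exists_mk'_eq p.primeCompl y
  rw [← IsLocalization.mk'_pow, IsScalarTower.algebraMap_eq H U (Localization.AtPrime p), ← Ideal.map_map,
    IsLocalization.mk'_mem_map_algebraMap_iff p.primeCompl] at h
  obtain ⟨t, ht, htu⟩ := h
  have h2 : t * u ∈ q.map (algebraMap H U) := by
    rw [← Ideal.Quotient.eq_zero_iff_mem]
    refine IsReduced.eq_zero _ ⟨n + 1, ?_⟩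
    rw [← map_pow, Ideal.Quotient.eq_zero_iff_mem, show (t * u) ^ (n + 1) = t ^ n * u * (t * u ^ n) by ring]
    exact Ideal.mul_mem_left _ _ htu
  refine (?_ : (q.map (algebraMap H (Localization.AtPrime p))).map (algebraMap (Localization.AtPrime p) S) ≤ _)
    (Ideal.mem_map_of_mem (algebraMap (Localization.AtPrime p) S) (?_ : IsLocalization.mk' _ u w ∈ _))
  · rw [Ideal.map_map, ← IsScalarTower.algebraMap_eq]
  · rw [IsScalarTower.algebraMap_eq H U (Localization.AtPrime p), ← Ideal.map_map,
      IsLocalization.mk'_mem_map_algebraMap_iff p.primeCompl]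
    exact ⟨t, ht, h2⟩

/-- A sigma type over a type with the same finite cardinality has subsingleton fibres. -/
theorem sigma_card_eq_iff {α : Type u} {β : α → Type u} [∀ a, Nonempty (β a)] [Finite (Σ a, β a)] :
    ENat.card α = ENat.card (Σ a, β a) ↔ ∀ a, Subsingleton (β a) := by
  have hs : Function.Surjective (Sigma.fst : (Σ a, β a) → α) := fun a => ⟨⟨a, Classical.arbitrary _⟩, rfl⟩
  haveI : Finite α := Finite.of_surjective _ hs
  constructor
  · intro h a
    have hn : Nat.card (Σ a, β a) = Nat.card α := by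
      rw [Nat.card, Nat.card, ← Cardinal.toNat_toENat, ← Cardinal.toNat_toENat] at *
      exact congrArg ENat.toNat h.symm
    have hb := (Nat.bijective_iff_surjective_and_card Sigma.fst).2 ⟨hs, hn⟩
    exact ⟨fun s t => eq_of_heq (Sigma.mk.inj_iff.1 (hb.1 (show (⟨a, s⟩ : Σ a, β a).1 = (⟨a, t⟩ : Σ a, β a).1 from rfl))).2⟩
  · intro h
    refine (ENat.card_congr (Equiv.ofBijective Sigma.fst ⟨fun ⟨a, s⟩ ⟨b, t⟩ e => ?_, hs⟩)).symm
    subst e
    exact congrArg _ ((h a).elim s t)

/-- Being purely inseparable over the image, modulo every maximal ideal, only depends on the ring up to isomorphism. -/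
theorem pure_transfer {A R R' : Type u} [CommRing A] [CommRing R] [CommRing R'] (f : A →+* R) (f' : A →+* R')
    (e : R ≃+* R') (he : ∀ a, e (f a) = f' a)
    (h : ∀ (M : Ideal R) [M.IsMaximal], ∀ x : R ⧸ M, ∃ n : ℕ, x ^ (ringExpChar (R ⧸ M)) ^ n ∈ ((Ideal.Quotient.mk M).comp f).range)
    (M : Ideal R') [M.IsMaximal] (x : R' ⧸ M) :
    ∃ n : ℕ, x ^ (ringExpChar (R' ⧸ M)) ^ n ∈ ((Ideal.Quotient.mk M).comp f').range := by
  let N := M.comap e.toRingHom
  haveI : N.IsMaximal := Ideal.comap_isMaximal_of_surjective _ e.surjective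
  let E : R ⧸ N ≃+* R' ⧸ M := Ideal.quotientEquiv N M e (Ideal.map_comap_of_surjective e.toRingHom e.surjective M).symm
  letI := Ideal.Quotient.field N
  letI := Ideal.Quotient.field M
  have hchar : ringExpChar (R' ⧸ M) = ringExpChar (R ⧸ N) := by
    obtain ⟨q, hq⟩ := ExpChar.exists (R ⧸ N)
    haveI := hq
    haveI : ExpChar (R' ⧸ M) q := expChar_of_injective_ringHom E.injective q
    rw [ringExpChar.eq (R ⧸ N) q, ringExpChar.eq (R' ⧸ M) q]
  obtain ⟨x, rfl⟩ := E.surjective x
  obtain ⟨n, a, ha⟩ := h N x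
  refine ⟨n, a, ?_⟩
  rw [hchar, ← map_pow, ← ha]
  change Ideal.Quotient.mk M (f' a) = E (Ideal.Quotient.mk N (f a))
  rw [← he]
  rfl

/-- The normalization of a reduced ring agrees with that of its reduction. -/
theorem exists_normRed_equiv (A : Type u) [CommRing A] [_root_.IsReduced A] :
    ∃ e : integralClosure A (FractionRing A) ≃+* CAlg2.normRed A,
      ∀ a, e (algebraMap A _ a) = algebraMap (CAlg2.red A) (CAlg2.normRed A) (Ideal.Quotient.mk _ a) := by
  have h0 : nilradical A = ⊥ := nilradical_eq_zero A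
  let q : A ≃+* CAlg2.red A := RingEquiv.ofBijective (Ideal.Quotient.mk (nilradical A))
    ⟨(injective_iff_map_eq_zero _).2 fun x hx => by
      rw [Ideal.Quotient.eq_zero_iff_mem, h0, Ideal.mem_bot] at hx
      exact hx, Ideal.Quotient.mk_surjective⟩
  let F : FractionRing A ≃+* FractionRing (CAlg2.red A) := IsFractionRing.ringEquivOfRingEquiv q
  have hF : ∀ a, F (algebraMap A _ a) = algebraMap (CAlg2.red A) _ (q a) := fun a =>
    IsFractionRing.ringEquivOfRingEquiv_algebraMap q a
  have hint : ∀ x, IsIntegral A x → IsIntegral (CAlg2.red A) (F x) := fun x ⟨p, hp, hpx⟩ => by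
    refine ⟨p.map q.toRingHom, hp.map _, ?_⟩
    rw [Polynomial.eval₂_map, show (algebraMap (CAlg2.red A) (FractionRing (CAlg2.red A))).comp q.toRingHom =
      F.toRingHom.comp (algebraMap A (FractionRing A)) from RingHom.ext fun a => (hF a).symm]
    have h := congrArg F.toRingHom hpx
    rw [Polynomial.hom_eval₂, map_zero] at h
    exact h
  have hint' : ∀ y, IsIntegral (CAlg2.red A) y → IsIntegral A (F.symm y) := fun y ⟨p, hp, hpy⟩ => by
    refine ⟨p.map q.symm.toRingHom, hp.map _, ?_⟩
    rw [Polynomial.eval₂_map, show (algebraMap A (FractionRing A)).comp q.symm.toRingHom =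
      F.symm.toRingHom.comp (algebraMap (CAlg2.red A) (FractionRing (CAlg2.red A))) from RingHom.ext fun b => by
        obtain ⟨a, rfl⟩ := q.surjective b
        change algebraMap A _ (q.symm (q a)) = F.symm (algebraMap (CAlg2.red A) _ (q a))
        rw [q.symm_apply_apply, ← hF, F.symm_apply_apply]]
    have h := congrArg F.symm.toRingHom hpy
    rw [Polynomial.hom_eval₂, map_zero] at h
    exact h
  exact ⟨{ toFun := fun x => ⟨F x.1, hint _ x.2⟩
           invFun := fun y => ⟨F.symm y.1, hint' _ y.2⟩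
           left_inv := fun x => Subtype.ext (F.symm_apply_apply _)
           right_inv := fun y => Subtype.ext (F.apply_symm_apply _)
           map_mul' := fun x y => Subtype.ext (map_mul F x.1 y.1)
           map_add' := fun x y => Subtype.ext (map_add F x.1 y.1) }, fun a => Subtype.ext (hF a)⟩

end general

/-- Geometric and ordinary branches agree exactly when minimal primes of the strict henselization are extended. -/
theorem extended_iff_card_eq (A Ah Ash : Type u) [CommRing A] [IsLocalRing A] [IsNoetherianRing A] [CommRing Ah]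
    [IsLocalRing Ah] [Algebra A Ah] [IsLocalHom (algebraMap A Ah)] [Hensel.IsHenselization A Ah] [CommRing Ash]
    [IsLocalRing Ash] [Algebra A Ash] [IsLocalHom (algebraMap A Ash)] [Hensel.IsStrictHenselization A Ash]
    [Algebra Ah Ash] [IsScalarTower A Ah Ash] :
    (∀ Q ∈ minimalPrimes Ash, Q = Ideal.map (algebraMap Ah Ash) (Q.comap (algebraMap Ah Ash))) ↔
      Brnch.numBranches A = Brnch.numGeomBranches A := by
  classical
  haveI : Module.FaithfullyFlat A Ash := Groth.Agent.S0539.result A Ash
  haveI : Module.Flat A Ah := (Groth.Agent.S0509.result A Ah).toFlat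
  haveI : IsNoetherianRing Ash := (Groth.Agent.S0540.result A Ash).1 inferInstance
  haveI : IsSepClosure (ResidueField A) (ResidueField Ash) := Hensel.IsStrictHenselization.isSepClosure
  haveI : IsSepClosed (ResidueField Ash) := IsSepClosure.sep_closed (ResidueField A)
  haveI : Algebra.IsAlgebraic (ResidueField A) (ResidueField Ash) := inferInstance
  haveI : HenselianLocalRing Ah := Hensel.IsHenselization.henselian A
  haveI : HenselianLocalRing Ash := Hensel.IsStrictHenselization.henselian A
  obtain ⟨eh⟩ := HenselLib.nonempty_algEquiv_HR (R := A) Ah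
  obtain ⟨es⟩ := HenselLib.nonempty_algEquiv_SH (R := A) Ash
  have hcovh : ∀ x : Ah, HenselLib.EtCov (R := A) x := HenselLib.etCov_of_algEquiv eh (HenselLib.etCov_hens _)
  have hcovs : ∀ x : Ash, HenselLib.EtCov (R := A) x := HenselLib.etCov_of_algEquiv es (HenselLib.etCov_hens _)
  have hres : ∀ s : Ah, ∃ a : A, s - algebraMap A Ah a ∈ maximalIdeal Ah := fun s => by
    obtain ⟨z, hz⟩ := (Groth.Agent.S0508.result A Ah).2 (residue Ah s)
    obtain ⟨a, rfl⟩ := IsLocalRing.residue_surjective z
    refine ⟨a, ?_⟩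
    rw [← residue_eq_zero_iff, map_sub, ← hz]
    exact sub_eq_zero.2 rfl
  haveI : Module.Flat Ah Ash := flat_of_forall_etCov hcovh
  haveI : IsLocalHom (algebraMap Ah Ash) := by
    refine ((IsLocalRing.local_hom_TFAE (algebraMap Ah Ash)).out 2 0).1 ?_
    rw [← Groth.Agent.S0507.result A Ah, Ideal.map_map, ← IsScalarTower.algebraMap_eq]
    exact Ideal.map_le_iff_le_comap.2 fun a ha => fun hu => ha (isUnit_of_map_unit (algebraMap A Ash) a hu)
  haveI : Module.FaithfullyFlat Ah Ash := Module.FaithfullyFlat.of_flat_of_isLocalHom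
  rw [← HenselBranchLib.card_eq_numBranches A Ah hcovh hres, ← HenselBranchLib.card_eq_numGeomBranches A Ash hcovs]
  have hc : ∀ Q ∈ minimalPrimes Ash, Q.comap (algebraMap Ah Ash) ∈ minimalPrimes Ah := fun Q hQ => by
    haveI := hQ.1.1
    refine ⟨⟨Ideal.IsPrime.comap _, bot_le⟩, fun q' hq' hle' => ?_⟩
    haveI := hq'.1
    haveI : Q.LiesOver (Q.comap (algebraMap Ah Ash)) := ⟨rfl⟩
    obtain ⟨Q', hQ'Q, hQ'prime, hQ'over⟩ :=
      Ideal.exists_ideal_le_liesOver_of_le (p := q') (q := Q.comap (algebraMap Ah Ash)) Q hle'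
    have h : Q' = Q := le_antisymm hQ'Q (hQ.2 ⟨hQ'prime, bot_le⟩ hQ'Q)
    exact (by rw [hQ'over.over, h] : q' = Q.comap (algebraMap Ah Ash)).ge
  let c : minimalPrimes Ash → minimalPrimes Ah := fun Q => ⟨_, hc Q.1 Q.2⟩
  have hsurj : Function.Surjective c := fun ⟨p, hp⟩ => by
    obtain ⟨P, hP⟩ := PrimeSpectrum.comap_surjective_of_faithfullyFlat (A := Ah) (B := Ash) ⟨p, hp.1.1⟩
    obtain ⟨Q, hQ, hQP⟩ := Ideal.exists_minimalPrimes_le (I := (⊥ : Ideal Ash)) (J := P.asIdeal) bot_le
    haveI := hQ.1.1
    have h1 : Q.comap (algebraMap Ah Ash) ≤ p := (Ideal.comap_mono hQP).trans (congrArg PrimeSpectrum.asIdeal hP).le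
    exact ⟨⟨Q, hQ⟩, Subtype.ext (le_antisymm h1 (hp.2 ⟨Ideal.IsPrime.comap _, bot_le⟩ h1))⟩
  haveI : Finite (minimalPrimes Ash) := (minimalPrimes.finite_of_isNoetherianRing Ash).to_subtype
  haveI : Finite (minimalPrimes Ah) := Finite.of_surjective c hsurj
  constructor
  · intro hext
    exact (ENat.card_congr (Equiv.ofBijective c ⟨fun Q Q' h => Subtype.ext (by
      rw [hext Q.1 Q.2, hext Q'.1 Q'.2, show Q.1.comap (algebraMap Ah Ash) = Q'.1.comap (algebraMap Ah Ash) from
        congrArg Subtype.val h]), hsurj⟩)).symm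
  · intro hcard Q hQ
    haveI := hQ.1.1
    have hn : Nat.card (minimalPrimes Ash) = Nat.card (minimalPrimes Ah) := by
      rw [Nat.card, Nat.card, ← Cardinal.toNat_toENat, ← Cardinal.toNat_toENat] at *
      exact congrArg ENat.toNat hcard.symm
    have hinj := ((Nat.bijective_iff_surjective_and_card c).2 ⟨hsurj, hn⟩).1
    refine le_antisymm (fun x hx => ?_) Ideal.map_comap_le
    let q := Q.comap (algebraMap Ah Ash)
    have hq : q ∈ minimalPrimes Ah := hc Q hQ
    have hrad : x ∈ (q.map (algebraMap Ah Ash)).radical := by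
      rw [← Ideal.sInf_minimalPrimes]
      refine Ideal.mem_sInf.2 fun {P} hP => ?_
      obtain ⟨hPmin, hPq⟩ := mem_minimalPrimes_of_extended hq hP
      have h : (⟨P, hPmin⟩ : minimalPrimes Ash) = ⟨Q, hQ⟩ := hinj (Subtype.ext hPq)
      rw [show P = Q from congrArg Subtype.val h]
      exact hx
    obtain ⟨n, hn'⟩ := hrad
    exact mem_map_of_pow_mem (fun y => etCov_tower (hcovs y)) q hn'

end SHSubLib
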