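import Groth.Agent.SHSubLib.Main
import Groth.Agent.Unram17Lib.SmoothNormal
import Mathlib

/-! Normal intermediate rings of essentially etale algebras. -/

set_option autoImplicit false

universe u

open IsLocalRing
open scoped nonZeroDivisors TensorProduct

namespace SHSubLib

/-- An essentially etale algebra is flat over an intermediate normal local domain. -/
theorem flat_of_normal {A D E : Type u} [CommRing A] [IsLocalRing A] [CommRing D] [IsLocalRing D] [IsDomain D]
    [IsIntegrallyClosed D] [CommRing E] [IsLocalRing E] [Algebra A D] [Algebra A E] [Algebra D E]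
    [IsScalarTower A D E] [IsLocalHom (algebraMap D E)] (hinj : Function.Injective (algebraMap D E))
    (hE : EGA4loc.IsEssentiallyEtale A E) : Module.Flat D E := by
  obtain ⟨C, _, _, q, _, hC, -, ⟨e⟩⟩ := hE
  let φ : C →ₐ[A] E := e.symm.toAlgHom.comp (IsScalarTower.toAlgHom A C (Localization.AtPrime q))
  let T := D ⊗[A] C
  let μ : T →ₐ[D] E := Algebra.TensorProduct.lift (Algebra.ofId D E) φ fun _ _ => Commute.all _ _
  have hμ : ∀ c, μ ((1 : D) ⊗ₜ c) = φ c := fun c => by
    rw [Algebra.TensorProduct.lift_tmul, map_one, one_mul]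
  let Q := (maximalIdeal E).comap μ
  have hQD : Q.comap (algebraMap D T) = maximalIdeal D := by
    have h0 : (maximalIdeal E).comap (algebraMap D E) = maximalIdeal D :=
      ((IsLocalRing.local_hom_TFAE (algebraMap D E)).out 0 4).1 ‹IsLocalHom (algebraMap D E)›
    rw [← h0]
    ext d
    simp only [Ideal.mem_comap, Q, AlgHom.commutes]
  have hnor : ∀ (p : Ideal D) [p.IsPrime], p = maximalIdeal D →
      IsDomain (Localization.AtPrime p) ∧ IsIntegrallyClosed (Localization.AtPrime p) := by
    rintro p _ rfl
    exact ⟨IsLocalization.isDomain_localization (Ideal.primeCompl_le_nonZeroDivisors _),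
      isIntegrallyClosed_of_isLocalization _ (maximalIdeal D).primeCompl (Ideal.primeCompl_le_nonZeroDivisors _)⟩
  obtain ⟨hdom, -⟩ := Unram17Lib.normal_localization_of_smooth D T Q (hnor _ hQD)
  let R := Localization.AtPrime Q
  let Θ : R →ₐ[D] E := IsLocalization.liftAlgHom (M := Q.primeCompl) (f := μ)
    fun y => (notMem_maximalIdeal.mp y.2 :)
  have hΘ : ∀ t, Θ (algebraMap T R t) = μ t := fun t => IsLocalization.lift_eq _ t
  have hsurj : Function.Surjective Θ := by
    intro x
    obtain ⟨c, t, hct⟩ := IsLocalization.exists_mk'_eq q.primeCompl (e x : Localization.AtPrime q)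
    have hu : IsUnit (φ t) := (IsLocalization.map_units (Localization.AtPrime q) t).map e.symm
    have ht : ((1 : D) ⊗ₜ[A] (t : C)) ∈ Q.primeCompl := fun h =>
      (IsLocalRing.mem_maximalIdeal _).1 (Ideal.mem_comap.1 h) (by rw [hμ]; exact hu)
    refine ⟨IsLocalization.mk' R ((1 : D) ⊗ₜ[A] c) (⟨_, ht⟩ : Q.primeCompl), ?_⟩
    apply hu.mul_left_cancel
    have h1 : φ t * x = φ c := by
      apply e.injective
      rw [map_mul, ← hct]
      simp only [φ, AlgHom.comp_apply, IsScalarTower.coe_toAlgHom']
      rw [mul_comm]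
      erw [e.apply_symm_apply, e.apply_symm_apply]
      exact IsLocalization.mk'_spec (Localization.AtPrime q) c t
    rw [h1, ← hμ t, ← hΘ, ← map_mul]
    exact (congrArg Θ (IsLocalization.mk'_spec' R _ (⟨_, ht⟩ : Q.primeCompl))).trans ((hΘ _).trans (hμ c))
  have hbij : Function.Bijective Θ := by
    refine ⟨(injective_iff_map_eq_zero Θ).2 fun r hr => ?_, hsurj⟩
    haveI : IsDomain R := hdom
    haveI : Algebra.QuasiFinite T R := Algebra.QuasiFinite.of_isLocalization Q.primeCompl
    haveI : Algebra.QuasiFinite D R := Algebra.QuasiFinite.trans D T R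
    obtain ⟨p, hp⟩ : ∃ p, p = RingHom.ker (Θ : R →+* E) := ⟨_, rfl⟩
    have h0 : ∀ d : D, algebraMap D R d ∈ p → d = 0 := fun d hd => hinj (by
      rw [hp, RingHom.mem_ker] at hd
      rw [map_zero, ← hd]
      exact (Θ.commutes d).symm)
    obtain ⟨p', hp'prime, hpp', hp'D⟩ : ∃ p' : Ideal R, p'.IsPrime ∧ p ≤ p' ∧ p'.comap (algebraMap D R) = ⊥ := by
      obtain ⟨p', hpp', hp', h⟩ := Ideal.exists_ideal_comap_le_prime (⊥ : Ideal D) p fun d hd => h0 d hd
      exact ⟨p', hp', hpp', le_bot_iff.1 h⟩
    haveI := hp'prime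
    have h1 : (⊥ : Ideal R) = p' := Algebra.QuasiFinite.eq_of_le_of_under_eq (R := D) ⊥ p' bot_le (by
      rw [Ideal.under, Ideal.under, hp'D, eq_bot_iff]
      intro d hd
      exact h0 d (by rw [Ideal.mem_comap, Ideal.mem_bot] at hd; rw [hd]; exact p.zero_mem))
    have h2 : r ∈ p := by rw [hp]; exact hr
    simpa [← h1] using hpp' h2
  haveI : Module.Flat T R := IsLocalization.flat R Q.primeCompl
  haveI : Module.Flat D R := Module.Flat.trans D T R
  exact Module.Flat.of_linearEquiv (AlgEquiv.ofBijective Θ hbij).toLinearEquiv.symm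

/-- A normal local domain inside an essentially etale algebra over an excellent ring is essentially etale. -/
theorem essFiniteType_of_normal {A E : Type u} [CommRing A] [IsLocalRing A] [IsReduced A] [CommRing E]
    [IsLocalRing E] [Algebra A E] [IsLocalHom (algebraMap A E)] (hN : CAlg.IsNagata A)
    (hE : EGA4loc.IsEssentiallyEtale A E) (D : Subalgebra A E) [IsLocalRing D] [IsLocalHom (algebraMap D E)]
    [IsDomain D] [IsIntegrallyClosed D] : Algebra.EssFiniteType A D := by
  haveI : Module.Flat D E := flat_of_normal Subtype.val_injective hE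
  exact essFiniteType_of_flat hN hE D

end SHSubLib
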