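import Groth.Agent.SHSubLib.HensBasic
import Mathlib

/-! The maximal unramified part of an intermediate algebra, and finiteness over it. -/

set_option autoImplicit false
set_option synthInstance.maxHeartbeats 400000
set_option maxHeartbeats 800000

universe u

open IsLocalRing TensorProduct

namespace SHSubLib

variable {A S : Type u} [CommRing A] [HenselianLocalRing A] [IsNoetherianRing A] [CommRing S] [IsLocalRing S]
  [Algebra A S] [IsLocalHom (algebraMap A S)] [Hensel.IsStrictHenselization A S]

omit [IsNoetherianRing A] in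
/-- Finite residual extensions lift. -/
theorem nonempty_FEL' (F : IntermediateField (ResidueField A) (ResidueField S)) [FiniteDimensional (ResidueField A) F] :
    Nonempty (SHGalLib.FEL A S F) := by
  haveI : HenselianLocalRing S := Hensel.IsStrictHenselization.henselian A
  haveI : Module.FaithfullyFlat A S := Groth.Agent.S0539.result A S
  haveI : Algebra.IsSeparable (ResidueField A) (ResidueField S) :=
    (Hensel.IsStrictHenselization.isSepClosure (R := A) (S := S)).separable
  haveI : Algebra.IsSeparable (ResidueField A) F :=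
    Algebra.isSeparable_tower_bot_of_isSeparable (ResidueField A) F (ResidueField S)
  exact SHGalLib.nonempty_FEL F

omit [IsNoetherianRing A] in
/-- Lifts of residues of a subalgebra lie in the subalgebra. -/
theorem range_le_of_residue (D : Subalgebra A S) {F : IntermediateField (ResidueField A) (ResidueField S)}
    (B : SHGalLib.FEL A S F) (h : ∀ y ∈ F, ∃ d ∈ D, residue S d = y) : B.j.range ≤ D := by
  obtain ⟨hDl, hDh, hDS, -⟩ := intermediate_data (A := A) D
  haveI := hDl
  haveI := hDh
  haveI : IsLocalHom (D.val : D →+* S) := hDS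
  obtain ⟨hBl, -, hBS, -⟩ := intermediate_data (A := A) B.j.range
  haveI := hBl
  haveI := hBS
  obtain ⟨hE, -, -⟩ := essEt_range (A := A) B
  refine (le_range_of_residue (A := A) D.val B.j.range hE fun e => ?_).trans ?_
  · obtain ⟨b, hb⟩ := e.2
    obtain ⟨d, hd, hdy⟩ := h _ (B.res (residue B.B b)).2
    refine ⟨⟨d, hd⟩, hdy.trans ?_⟩
    rw [B.hres]
    exact congrArg (residue S) hb
  · rintro _ ⟨d, rfl⟩
    exact d.2

omit [IsNoetherianRing A] in
theorem exists_resField (D : Subalgebra A S) : ∃ kD : IntermediateField (ResidueField A) (ResidueField S),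
    ∀ x, x ∈ kD ↔ ∃ d ∈ D, residue S d = x := by
  obtain ⟨hDl, -, hDS, -⟩ := intermediate_data (A := A) D
  haveI := hDl
  haveI := hDS
  refine ⟨{ (ResidueField.map (algebraMap D S)).fieldRange with
    algebraMap_mem' := fun x => by
      obtain ⟨a, rfl⟩ := IsLocalRing.residue_surjective x
      exact ⟨residue D (algebraMap A D a), rfl⟩ }, fun x => ?_⟩
  change x ∈ (ResidueField.map (algebraMap D S)).fieldRange ↔ _
  rw [RingHom.mem_fieldRange]
  constructor
  · rintro ⟨y, hy⟩
    obtain ⟨d, rfl⟩ := IsLocalRing.residue_surjective y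
    exact ⟨d, d.2, hy⟩
  · rintro ⟨d, hd, rfl⟩
    exact ⟨residue D ⟨d, hd⟩, rfl⟩

/-- The union of the finite etale lifts inside a subalgebra is a Noetherian subalgebra. -/
theorem exists_unramified (D : Subalgebra A S) : ∃ H : Subalgebra A S, H ≤ D ∧ IsNoetherianRing H ∧
    (∀ (F : IntermediateField (ResidueField A) (ResidueField S)) (_ : FiniteDimensional (ResidueField A) F)
      (B : SHGalLib.FEL A S F), (∀ y ∈ F, ∃ d ∈ D, residue S d = y) → B.j.range ≤ H) ∧
    ∀ x ∈ H, ∃ (F : IntermediateField (ResidueField A) (ResidueField S)) (_ : FiniteDimensional (ResidueField A) F)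
      (B : SHGalLib.FEL A S F), (∀ y ∈ F, ∃ d ∈ D, residue S d = y) ∧ x ∈ B.j.range := by
  obtain ⟨kD, hkD⟩ := exists_resField (A := A) D
  let P : S → Prop := fun x => ∃ (F : IntermediateField (ResidueField A) (ResidueField S))
    (_ : FiniteDimensional (ResidueField A) F) (B : SHGalLib.FEL A S F), F ≤ kD ∧ x ∈ B.j.range
  have hbot : ∀ a, P (algebraMap A S a) := fun a => by
    obtain ⟨B⟩ := nonempty_FEL' (A := A) (S := S) ⊥
    exact ⟨⊥, inferInstance, B, bot_le, B.j.range.algebraMap_mem a⟩
  have hdir : ∀ {x y}, P x → P y → ∃ (F : IntermediateField (ResidueField A) (ResidueField S))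
      (_ : FiniteDimensional (ResidueField A) F) (B : SHGalLib.FEL A S F), F ≤ kD ∧ x ∈ B.j.range ∧ y ∈ B.j.range := by
    rintro x y ⟨F, _, B, hF, hx⟩ ⟨F', _, B', hF', hy⟩
    obtain ⟨B''⟩ := nonempty_FEL' (A := A) (S := S) (F ⊔ F')
    exact ⟨F ⊔ F', inferInstance, B'', sup_le hF hF', FEL_range_mono le_sup_left B B'' hx,
      FEL_range_mono le_sup_right B' B'' hy⟩
  let H : Subalgebra A S :=
    { carrier := {x | P x}
      mul_mem' := fun {x y} hx hy => by
        obtain ⟨F, i, B, hF, hx', hy'⟩ := hdir hx hy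
        exact ⟨F, i, B, hF, mul_mem hx' hy'⟩
      add_mem' := fun {x y} hx hy => by
        obtain ⟨F, i, B, hF, hx', hy'⟩ := hdir hx hy
        exact ⟨F, i, B, hF, add_mem hx' hy'⟩
      algebraMap_mem' := hbot }
  have hHD : H ≤ D := fun x ⟨F, _, B, hF, hx⟩ =>
    range_le_of_residue D B (fun y hy => (hkD y).1 (hF hy)) hx
  have hBH : ∀ {F : IntermediateField (ResidueField A) (ResidueField S)} [FiniteDimensional (ResidueField A) F]
      (B : SHGalLib.FEL A S F), F ≤ kD → B.j.range ≤ H := fun {F} hF B h x hx => ⟨F, hF, B, h, hx⟩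
  refine ⟨H, hHD, ?_, fun F hF B h => hBH B fun y hy => (hkD y).2 (h y hy), fun x ⟨F, i, B, hF, hx⟩ =>
    ⟨F, i, B, fun y hy => (hkD y).1 (hF hy), hx⟩⟩
  obtain ⟨hHl, -, -, hAH⟩ := intermediate_data (A := A) H
  haveI := hHl
  haveI := hAH
  have hcov : ∀ x : H, HenselLib.EtCov (R := A) x := fun x => by
    obtain ⟨F, _, B, hF, b, hb⟩ := x.2
    exact ⟨B.B, inferInstance, inferInstance, inferInstance, B.j.codRestrict H fun c => hBH B hF ⟨c, rfl⟩,
      b, Subtype.ext hb⟩
  haveI : Module.Flat A H := by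
    refine Module.Flat.iff_forall_isTrivialRelation.2 fun {l f x} hfx => ?_
    classical
    have hex : ∀ t : Finset (Fin l), ∃ (F : IntermediateField (ResidueField A) (ResidueField S))
        (_ : FiniteDimensional (ResidueField A) F) (B : SHGalLib.FEL A S F), F ≤ kD ∧
          ∀ i ∈ t, (x i : S) ∈ B.j.range := fun t => by
      induction t using Finset.induction_on with
      | empty =>
        obtain ⟨B⟩ := nonempty_FEL' (A := A) (S := S) ⊥
        exact ⟨⊥, inferInstance, B, bot_le, by simp⟩
      | insert i t _ ih =>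
        obtain ⟨F, _, B, hF, hB⟩ := ih
        obtain ⟨F', _, B', hF', hx'⟩ := (x i).2
        obtain ⟨B''⟩ := nonempty_FEL' (A := A) (S := S) (F ⊔ F')
        refine ⟨F ⊔ F', inferInstance, B'', sup_le hF hF', fun j hj => ?_⟩
        rcases Finset.mem_insert.1 hj with rfl | hj
        · exact FEL_range_mono le_sup_right B' B'' hx'
        · exact FEL_range_mono le_sup_left B B'' (hB j hj)
    obtain ⟨F, _, B, hF, hB⟩ := hex Finset.univ
    choose v hv using fun i => hB i (Finset.mem_univ i)
    let ψ : B.B →ₐ[A] H := B.j.codRestrict H fun c => hBH B hF ⟨c, rfl⟩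
    haveI : Module.Flat A B.B := inferInstance
    obtain ⟨k, a, y, hy, ha⟩ := Module.Flat.isTrivialRelation_of_sum_smul_eq_zero (f := f) (x := v) (by
      refine B.inj ?_
      rw [map_sum, map_zero]
      have h := congrArg H.val hfx
      rw [map_sum, map_zero] at h
      refine Eq.trans (Finset.sum_congr rfl fun i _ => ?_) h
      rw [map_smul, map_smul]
      exact congrArg (f i • ·) (hv i))
    refine ⟨k, a, fun j => ψ (y j), fun i => Subtype.ext ?_, ha⟩
    change (x i : S) = H.val (∑ j, a i j • ψ (y j))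
    rw [show (x i : S) = B.j (v i) from (hv i).symm, hy i]
    simp only [map_sum, map_smul]
    rfl
  refine HenselLib.isNoetherianRing_of_etCov (R := A) (le_antisymm ?_ ?_) hcov
  · rw [Ideal.map_le_iff_le_comap]
    intro a ha
    exact fun hu => ha (isUnit_of_map_unit (algebraMap A H) a hu)
  · intro x hx
    obtain ⟨F, _, B, hF, b, hb⟩ := x.2
    haveI := B.loc
    let ψ : B.B →ₐ[A] H := B.j.codRestrict H fun c => hBH B hF ⟨c, rfl⟩
    haveI : IsLocalHom (algebraMap A B.B) := ⟨fun a ha => isUnit_of_map_unit (algebraMap A S) a (by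
      rw [← B.j.commutes]; exact ha.map B.j)⟩
    have hbm : b ∈ maximalIdeal B.B := fun hu => hx (by
      rw [show x = ψ b from Subtype.ext hb.symm]
      exact hu.map ψ)
    rw [← Algebra.FormallyUnramified.map_maximalIdeal (R := A) (S := B.B)] at hbm
    rw [show x = ψ b from Subtype.ext hb.symm]
    refine (?_ : Ideal.map ψ ((maximalIdeal A).map (algebraMap A B.B)) ≤ _) (Ideal.mem_map_of_mem ψ hbm)
    rw [Ideal.map_le_iff_le_comap, Ideal.map_le_iff_le_comap]
    intro a ha
    rw [Ideal.mem_comap, Ideal.mem_comap]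
    rw [ψ.commutes]
    exact Ideal.mem_map_of_mem _ ha

/-- The residue field of an essentially etale subalgebra is finitely generated. -/
theorem exists_fd_residues (E : Subalgebra A S) [IsLocalRing E] [IsLocalHom (algebraMap E S)]
    (hE : EGA4loc.IsEssentiallyEtale A E) : ∃ t : Finset (ResidueField S),
      (∀ y ∈ t, ∃ e ∈ E, residue S e = y) ∧
      ∀ e ∈ E, residue S e ∈ IntermediateField.adjoin (ResidueField A) (t : Set (ResidueField S)) := by
  classical
  haveI : IsLocalHom (algebraMap A E) := ⟨fun a ha => isUnit_of_map_unit (algebraMap A S) a (by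
    rw [IsScalarTower.algebraMap_apply A E S]; exact ha.map (algebraMap E S))⟩
  haveI := finite_quotient_maximal E hE
  obtain ⟨t, ht⟩ := Module.Finite.fg_top (R := A) (M := E ⧸ maximalIdeal E)
  let ρ : (E ⧸ maximalIdeal E) →+* ResidueField S := ResidueField.map (algebraMap E S)
  refine ⟨t.image ρ, fun y hy => ?_, fun e he => ?_⟩
  · obtain ⟨z, -, rfl⟩ := Finset.mem_image.1 hy
    obtain ⟨e, rfl⟩ := Ideal.Quotient.mk_surjective z
    exact ⟨e, e.2, rfl⟩
  · change ρ (Ideal.Quotient.mk (maximalIdeal E) (⟨e, he⟩ : E)) ∈ _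
    have h : Ideal.Quotient.mk (maximalIdeal E) (⟨e, he⟩ : E) ∈ Submodule.span A (t : Set (E ⧸ maximalIdeal E)) :=
      ht ▸ Submodule.mem_top
    generalize Ideal.Quotient.mk (maximalIdeal E) (⟨e, he⟩ : E) = y at h ⊢
    induction h using Submodule.span_induction with
    | mem y hy => exact IntermediateField.subset_adjoin _ _ (Finset.mem_image_of_mem ρ hy)
    | zero => rw [map_zero]; exact zero_mem _
    | add y y' _ _ hy hy' => rw [map_add]; exact add_mem hy hy'
    | smul a y _ hy =>
      rw [Algebra.smul_def, map_mul]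
      refine mul_mem ?_ hy
      exact IntermediateField.algebraMap_mem (IntermediateField.adjoin (ResidueField A) _) (residue A a)

omit [IsNoetherianRing A] in
/-- Lifts of composita are generated by the lifts of the factors. -/
theorem FEL_range_le_sup {F₁ F₂ : IntermediateField (ResidueField A) (ResidueField S)}
    [FiniteDimensional (ResidueField A) F₁] (B : SHGalLib.FEL A S (F₁ ⊔ F₂)) (B₁ : SHGalLib.FEL A S F₁)
    (B₂ : SHGalLib.FEL A S F₂) : B.j.range ≤ B₁.j.range ⊔ B₂.j.range := by
  haveI := B.loc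
  haveI : IsLocalHom (algebraMap A B.B) := ⟨fun a ha => isUnit_of_map_unit (algebraMap A S) a (by
    rw [← B.j.commutes]; exact ha.map B.j)⟩
  let R := B₁.j.range ⊔ B₂.j.range
  let R' : Subalgebra A B.B := R.comap B.j
  let Res : Subalgebra (ResidueField A) (ResidueField S) :=
    { R.toSubsemiring.map (residue S) with
      algebraMap_mem' := fun x => by
        obtain ⟨a, rfl⟩ := IsLocalRing.residue_surjective x
        exact ⟨algebraMap A S a, R.algebraMap_mem a, rfl⟩ }
  have hF : (F₁ ⊔ F₂).toSubalgebra ≤ Res := by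
    rw [IntermediateField.sup_toSubalgebra_of_isAlgebraic_left, sup_le_iff]
    constructor
    · intro y hy
      obtain ⟨b, hb⟩ := IsLocalRing.residue_surjective (B₁.res.symm ⟨y, hy⟩)
      refine ⟨B₁.j b, (le_sup_left : B₁.j.range ≤ R) ⟨b, rfl⟩, ?_⟩
      rw [← B₁.hres, hb, RingEquiv.apply_symm_apply]
    · intro y hy
      obtain ⟨b, hb⟩ := IsLocalRing.residue_surjective (B₂.res.symm ⟨y, hy⟩)
      refine ⟨B₂.j b, (le_sup_right : B₂.j.range ≤ R) ⟨b, rfl⟩, ?_⟩
      rw [← B₂.hres, hb, RingEquiv.apply_symm_apply]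
  have hRB : R ≤ B.j.range := sup_le (FEL_range_mono le_sup_left B₁ B) (FEL_range_mono le_sup_right B₂ B)
  have htop : (⊤ : Submodule A B.B) ≤ Subalgebra.toSubmodule R' := by
    refine Submodule.le_of_le_smul_of_le_jacobson_bot (Module.Finite.fg_top (R := A) (M := B.B))
      (IsLocalRing.maximalIdeal_le_jacobson ⊥) fun b _ => ?_
    rw [Ideal.smul_top_eq_map, Algebra.FormallyUnramified.map_maximalIdeal]
    obtain ⟨r, hr, hrb⟩ := hF (B.res (residue B.B b)).2
    obtain ⟨r', rfl⟩ := hRB hr
    refine Submodule.mem_sup.2 ⟨r', hr, b - r', ?_, by abel⟩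
    change b - r' ∈ maximalIdeal B.B
    rw [← residue_eq_zero_iff, map_sub, sub_eq_zero]
    refine B.res.injective (Subtype.ext ?_)
    rw [B.hres, B.hres]
    exact ((B.hres b).symm.trans hrb.symm)
  rintro _ ⟨b, rfl⟩
  exact htop (Submodule.mem_top : b ∈ ⊤)

/-- Covered composita are generated over the unramified part by the added lift. -/
theorem le_sup_of_cover (D H : Subalgebra A S)
    (hH : ∀ (F : IntermediateField (ResidueField A) (ResidueField S)) (_ : FiniteDimensional (ResidueField A) F)
      (B : SHGalLib.FEL A S F), (∀ y ∈ F, ∃ d ∈ D, residue S d = y) → B.j.range ≤ H)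
    {F₀ : IntermediateField (ResidueField A) (ResidueField S)} [FiniteDimensional (ResidueField A) F₀]
    (B₀ : SHGalLib.FEL A S F₀)
    (hcover : ∀ x ∈ D ⊔ B₀.j.range, ∃ E : Subalgebra A S, x ∈ E ∧ E ≤ D ⊔ B₀.j.range ∧
      ∃ _ : IsLocalRing E, IsLocalHom (algebraMap E S) ∧ EGA4loc.IsEssentiallyEtale A E) :
    D ⊔ B₀.j.range ≤ H ⊔ B₀.j.range := by
  classical
  intro x hx
  obtain ⟨E, hxE, hEX, hEl, hES, hE⟩ := hcover x hx
  haveI := hEl
  haveI := hES
  obtain ⟨kD, hkD⟩ := exists_resField (A := A) D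
  have hres : ∀ y ∈ D ⊔ B₀.j.range, residue S y ∈ kD ⊔ F₀ := fun y hy => by
    have h : D ⊔ B₀.j.range ≤ ((kD ⊔ F₀).toSubalgebra.restrictScalars A).comap
        (IsScalarTower.toAlgHom A S (ResidueField S)) := by
      refine sup_le (fun d hd => ?_) ?_
      · exact (le_sup_left : kD ≤ kD ⊔ F₀) ((hkD _).2 ⟨d, hd, rfl⟩)
      · rintro _ ⟨b, rfl⟩
        refine (le_sup_right : F₀ ≤ kD ⊔ F₀) ?_
        change residue S (B₀.j b) ∈ F₀
        rw [← B₀.hres]
        exact (B₀.res _).2
    exact h hy
  obtain ⟨t, htE, hEt⟩ := exists_fd_residues E hE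
  have hk1 : ∀ t' : Finset (ResidueField S), (∀ y ∈ t', y ∈ kD ⊔ F₀) →
      ∃ (k₁ : IntermediateField (ResidueField A) (ResidueField S)), FiniteDimensional (ResidueField A) k₁ ∧
        k₁ ≤ kD ∧ ∀ y ∈ t', y ∈ k₁ ⊔ F₀ := fun t' ht' => by
    induction t' using Finset.induction_on with
    | empty => exact ⟨⊥, inferInstance, bot_le, by simp⟩
    | insert y t' _ ih =>
      obtain ⟨k₁, hfd, hk₁, hyt⟩ := ih fun z hz => ht' z (Finset.mem_insert_of_mem hz)
      have hy := ht' y (Finset.mem_insert_self y t')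
      have hgen : kD ⊔ F₀ = IntermediateField.adjoin (ResidueField A) ((kD : Set (ResidueField S)) ∪ F₀) := by
        rw [IntermediateField.adjoin_union, IntermediateField.adjoin_self, IntermediateField.adjoin_self]
      rw [hgen] at hy
      obtain ⟨T, hT, hyT⟩ := IntermediateField.exists_finset_of_mem_adjoin hy
      haveI : Algebra.IsSeparable (ResidueField A) (ResidueField S) :=
        (Hensel.IsStrictHenselization.isSepClosure (R := A) (S := S)).separable
      let k₂ := IntermediateField.adjoin (ResidueField A) ((T : Set (ResidueField S)) ∩ kD)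
      haveI : Finite ↥((T : Set (ResidueField S)) ∩ kD) := (T.finite_toSet.inter_of_left _).to_subtype
      haveI : FiniteDimensional (ResidueField A) k₂ :=
        IntermediateField.finiteDimensional_adjoin fun z _ => (Algebra.IsSeparable.isSeparable (ResidueField A) z).isIntegral
      haveI := hfd
      refine ⟨k₁ ⊔ k₂, inferInstance, sup_le hk₁ (IntermediateField.adjoin_le_iff.2 fun z hz => hz.2), fun z hz => ?_⟩
      rcases Finset.mem_insert.1 hz with rfl | hz
      · refine IntermediateField.adjoin_le_iff.2 (fun w hw => ?_) hyT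
        rcases hT hw with hw' | hw'
        · exact (le_sup_right.trans le_sup_left : k₂ ≤ k₁ ⊔ k₂ ⊔ F₀) (IntermediateField.subset_adjoin _ _ ⟨hw, hw'⟩)
        · exact (le_sup_right : F₀ ≤ k₁ ⊔ k₂ ⊔ F₀) hw'
      · exact sup_le_sup_right le_sup_left F₀ (hyt z hz)
  obtain ⟨k₁, hfd, hk₁, ht₁⟩ := hk1 t fun y hy => by
    obtain ⟨e, he, rfl⟩ := htE y hy
    exact hres e (hEX he)
  haveI := hfd
  obtain ⟨B₁⟩ := nonempty_FEL' (A := A) (S := S) k₁
  obtain ⟨B⟩ := nonempty_FEL' (A := A) (S := S) (k₁ ⊔ F₀)
  haveI : HenselianLocalRing S := Hensel.IsStrictHenselization.henselian A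
  haveI := B.henselian
  haveI := B.loc
  have h1 : E ≤ B.j.range := le_range_of_residue (A := A) B.j E hE fun e => by
    have he := (IntermediateField.adjoin_le_iff.2 fun y hy => ht₁ y hy) (hEt e e.2)
    obtain ⟨z, hz⟩ := IsLocalRing.residue_surjective (B.res.symm ⟨_, he⟩)
    refine ⟨z, ?_⟩
    rw [← B.hres, hz, RingEquiv.apply_symm_apply]
  refine ((h1.trans (FEL_range_le_sup B B₁ B₀)).trans (sup_le_sup_right ?_ _)) hxE
  exact hH k₁ hfd B₁ fun y hy => (hkD y).1 (hk₁ hy)

/-- An intermediate algebra inside such a compositum is Noetherian. -/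
theorem isNoetherianRing_of_le_sup (D H : Subalgebra A S) (hHD : H ≤ D) [IsNoetherianRing H]
    (M : Subalgebra A S) [Module.Finite A M] (hle : D ≤ H ⊔ M) : IsNoetherianRing D := by
  letI : Algebra H D := (Subalgebra.inclusion hHD).toRingHom.toAlgebra
  let f : H ⊗[A] M →ₐ[H] S := Algebra.TensorProduct.lift (Algebra.ofId H S) M.val fun _ _ => Commute.all _ _
  have hr : (H ⊔ M : Subalgebra A S) ≤ f.range.restrictScalars A := by
    refine sup_le (fun h hh => ?_) (fun m hm => ?_)
    · refine ⟨(⟨h, hh⟩ : H) ⊗ₜ (1 : M), ?_⟩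
      simp [f]
    · refine ⟨(1 : H) ⊗ₜ (⟨m, hm⟩ : M), ?_⟩
      simp [f]
  haveI : Module.Finite H (H ⊗[A] M) := Module.Finite.base_change A H M
  haveI : IsNoetherian H f.range := by
    haveI : Module.Finite H f.range := Module.Finite.of_surjective f.rangeRestrict.toLinearMap f.rangeRestrict_surjective
    infer_instance
  let g : D →ₗ[H] f.range :=
    { toFun := fun d => ⟨d, hr (hle d.2)⟩
      map_add' := fun _ _ => rfl
      map_smul' := fun _ _ => rfl }
  haveI : IsNoetherian H D := isNoetherian_of_injective g fun d d' h => Subtype.ext (congrArg Subtype.val h :)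
  exact isNoetherianRing_iff.2 (isNoetherian_of_tower H inferInstance)

end SHSubLib
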