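import Groth.Agent.SHSubLib.HensBasic
import Mathlib

/-! Residue fields of normalizations of intermediate algebras. -/

set_option autoImplicit false
set_option synthInstance.maxHeartbeats 400000
set_option maxHeartbeats 800000

universe u

open IsLocalRing TensorProduct

namespace SHSubLib

section fields

/-- An extension which is separable over finitely generated integral data and has finite separable closure is finite. -/
theorem finiteDimensional_of_separable_adjoin {k l : Type u} [Field k] [Field l] [Algebra k l] (T : Set l)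
    [Finite T] (hT : ∀ x ∈ T, IsIntegral k x) (hsep : ∀ x : l, IsSeparable (IntermediateField.adjoin k T) x)
    [FiniteDimensional k (separableClosure k l)] : FiniteDimensional k l := by
  let L1 := IntermediateField.adjoin k T
  haveI : FiniteDimensional k L1 := IntermediateField.finiteDimensional_adjoin hT
  haveI : Algebra.IsAlgebraic k L1 := inferInstance
  haveI : Algebra.IsSeparable L1 l := ⟨hsep⟩
  haveI : Algebra.IsAlgebraic k l := Algebra.IsAlgebraic.trans k L1 l
  let L2 := separableClosure k l ⊔ L1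
  haveI : FiniteDimensional k L2 := inferInstance
  letI : Algebra (separableClosure k l) L2 :=
    (IntermediateField.inclusion (le_sup_left : separableClosure k l ≤ L2)).toRingHom.toAlgebra
  haveI : IsScalarTower (separableClosure k l) L2 l := IsScalarTower.of_algebraMap_eq fun _ => rfl
  letI : Algebra L1 L2 := (IntermediateField.inclusion (le_sup_right : L1 ≤ L2)).toRingHom.toAlgebra
  haveI : IsScalarTower L1 L2 l := IsScalarTower.of_algebraMap_eq fun _ => rfl
  haveI : Algebra.IsSeparable L2 l := Algebra.isSeparable_tower_top_of_isSeparable L1 L2 l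
  haveI : IsPurelyInseparable L2 l := IsPurelyInseparable.tower_top (separableClosure k l) L2 l
  exact Module.Finite.of_surjective (IsScalarTower.toAlgHom k L2 l).toLinearMap
    (IsPurelyInseparable.surjective_algebraMap_of_isSeparable L2 l)

/-- The subfield generated by the image of a local ring whose maximal ideal dies is the image. -/
theorem mem_closure_range {R l : Type u} [CommRing R] [IsLocalRing R] [Field l] (f : R →+* l)
    (hf : ∀ r ∈ maximalIdeal R, f r = 0) (y : l) : y ∈ Subfield.closure (Set.range f) ↔ ∃ r, f r = y := by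
  refine ⟨fun hy => ?_, fun ⟨r, hr⟩ => Subfield.subset_closure ⟨r, hr⟩⟩
  let F : ResidueField R →+* l := Ideal.Quotient.lift (maximalIdeal R) f hf
  have hle : Subfield.closure (Set.range f) ≤ F.fieldRange := Subfield.closure_le.2 (by
    rintro _ ⟨r, rfl⟩
    exact RingHom.mem_fieldRange.2 ⟨residue R r, rfl⟩)
  obtain ⟨z, hz⟩ := RingHom.mem_fieldRange.1 (hle hy)
  obtain ⟨r, rfl⟩ := IsLocalRing.residue_surjective z
  exact ⟨r, hz⟩

/-- Roots of separable polynomials coming through a smaller field are separable. -/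
theorem isSeparable_of_comm {k kS L K : Type u} [Field k] [Field kS] [Algebra k kS] [Algebra.IsSeparable k kS]
    [Field L] [Field K] [Algebra L K] (ρ : k →+* L) (τ : kS →+* K)
    (h : ∀ a, algebraMap L K (ρ a) = τ (algebraMap k kS a)) (y : kS) : IsSeparable L (τ y) := by
  have hp : (minpoly k y).Separable := Algebra.IsSeparable.isSeparable k y
  refine Polynomial.Separable.of_dvd (hp.map (f := ρ)) (minpoly.dvd L (τ y) ?_)
  rw [Polynomial.aeval_def, Polynomial.eval₂_map,
    show (algebraMap L K).comp ρ = τ.comp (algebraMap k kS) from RingHom.ext h, ← Polynomial.hom_eval₂,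
    ← Polynomial.aeval_def, minpoly.aeval, map_zero]

/-- Idempotent lifts modulo finitely many maximal ideals. -/
theorem exists_crt {R : Type u} [CommRing R] {ι : Type u} [Finite ι] (I : ι → Ideal R)
    (hI : Pairwise fun i j => IsCoprime (I i) (I j)) (i : ι) :
    ∃ e : R, e - 1 ∈ I i ∧ ∀ j, j ≠ i → e ∈ I j := by
  classical
  haveI := Fintype.ofFinite ι
  obtain ⟨y, hy⟩ := Ideal.quotientInfToPiQuotient_surj hI (fun j => if j = i then 1 else 0)
  obtain ⟨e, rfl⟩ := Ideal.Quotient.mk_surjective y
  have h : ∀ j, Ideal.Quotient.mk (I j) e = if j = i then 1 else 0 := fun j => congrFun hy j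
  refine ⟨e, Ideal.Quotient.eq.1 ((h i).trans (by rw [if_pos rfl, map_one])), fun j hj => ?_⟩
  exact Ideal.Quotient.eq_zero_iff_mem.1 ((h j).trans (if_neg hj))

theorem exists_field_quot {A T : Type u} [CommRing A] [CommRing T] [Algebra A T] (P : Ideal T) [P.IsMaximal] :
    ∃ (K : Type u) (_ : Field K) (_ : Algebra A K) (π : T →ₐ[A] K), Function.Surjective π ∧
      ∀ x, π x = 0 ↔ x ∈ P :=
  ⟨T ⧸ P, Ideal.Quotient.field P, inferInstance, Ideal.Quotient.mkₐ A P, Ideal.Quotient.mk_surjective,
    fun _ => Ideal.Quotient.eq_zero_iff_mem⟩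

end fields

variable {A S : Type u} [CommRing A] [HenselianLocalRing A] [IsReduced A] [IsNoetherianRing A] [CommRing S]
  [IsLocalRing S] [Algebra A S] [IsLocalHom (algebraMap A S)] [Hensel.IsStrictHenselization A S]
variable {D : Subalgebra A S} [IsLocalRing D] [IsLocalHom (algebraMap D S)]
variable {A' D' : Subalgebra A (FractionRing S)}
  (hA' : ∀ x : (FractionRing S), x ∈ A' ↔ (IsIntegral A x ∧
      ∃ a ∈ nonZeroDivisors A, ∃ b : A, algebraMap A (FractionRing S) a * x = algebraMap A (FractionRing S) b))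
  (hD' : ∀ x : (FractionRing S), x ∈ D' ↔ (IsIntegral D x ∧
      ∃ a ∈ nonZeroDivisors A, ∃ d ∈ D, algebraMap A (FractionRing S) a * x = algebraMap S (FractionRing S) d))
  (hle : A' ≤ D') (ι : D →ₐ[A] D') (hι : ∀ d : D, (ι d : (FractionRing S)) = algebraMap S (FractionRing S) d)
  (G : D' →ₐ[A] A' ⊗[A] S) (hG : ∀ x, muS A' (G x) = (x : FractionRing S))

include hA' hD' hle hι hG in
/-- Residue fields of the normalization are separable over the image of the normalization of the base. -/
theorem exists_separable_over (hN : CAlg.IsNagata A) (N : Ideal D') [N.IsMaximal] {l : Type u} [Field l] (q : D' →+* l)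
    (hq : Function.Surjective q) (hker : RingHom.ker q = N) (k₀ : Subfield l)
    (hk₀ : ∀ y, y ∈ k₀ ↔ ∃ d, q (ι d) = y) :
    ∃ T : Set l, T.Finite ∧ (∀ y ∈ T, IsIntegral k₀ y ∧ ∃ a : A', q (Subalgebra.inclusion hle a) = y) ∧
      ∀ y : l, IsSeparable (IntermediateField.adjoin k₀ T) y := by
  classical
  haveI := finite_normA A' hA' hN
  obtain ⟨P, hP, hPN⟩ := exists_maximal_overH hA' G hG N
  haveI := hP
  obtain ⟨K, _, _, π, -, hπ⟩ := exists_field_quot (A := A) (T := A' ⊗[A] S) P
  let σ : l →+* K := RingHom.liftOfSurjective q hq ⟨π.toRingHom.comp (G : D' →+* A' ⊗[A] S),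
    fun x hx => (hπ _).2 (by
      rw [hker, ← hPN] at hx
      exact hx)⟩
  have hσ : ∀ x, σ (q x) = π (G x) := fun x => RingHom.liftOfRightInverse_comp_apply _ _ _ _ x
  obtain ⟨t, ht⟩ := Module.Finite.fg_top (R := A) (M := A')
  let T : Set l := (fun a : A' => q (Subalgebra.inclusion hle a)) '' (t : Set A')
  haveI : Finite T := (t.finite_toSet.image _).to_subtype
  have hkA : ∀ a : A, q (algebraMap A D' a) ∈ k₀ := fun a => (hk₀ _).2 ⟨algebraMap A D a, by rw [AlgHom.commutes]⟩
  let L1 := IntermediateField.adjoin k₀ T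
  have hAT : ∀ a' : A', q (Subalgebra.inclusion hle a') ∈ L1 := fun a' => by
    have h : a' ∈ Submodule.span A (t : Set A') := ht ▸ Submodule.mem_top
    induction h using Submodule.span_induction with
    | mem y hy => exact IntermediateField.subset_adjoin _ _ ⟨y, hy, rfl⟩
    | zero => rw [map_zero, map_zero]; exact zero_mem _
    | add y y' _ _ hy hy' => rw [map_add, map_add]; exact add_mem hy hy'
    | smul a y _ hy =>
      rw [map_smul, Algebra.smul_def, map_mul]
      exact mul_mem (L1.algebraMap_mem ⟨_, hkA a⟩) hy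
  have hT : ∀ x ∈ T, IsIntegral k₀ x := by
    rintro _ ⟨a', -, rfl⟩
    haveI := isIntegral_normA A' hA'
    obtain ⟨p, hp, hpa⟩ := ((Algebra.IsIntegral.isIntegral (R := A) a').map (Subalgebra.inclusion hle))
    refine ⟨p.map ((q.comp (algebraMap A D')).codRestrict k₀ hkA), hp.map _, ?_⟩
    rw [Polynomial.eval₂_map]
    have h := congrArg q hpa
    rw [map_zero, Polynomial.hom_eval₂] at h
    exact h
  have hN' := comap_iota_maximal hD' ι hι N
  obtain ⟨h1, h2, -⟩ := maximal_data A' hA' P
  haveI hAD : IsLocalHom (algebraMap A D) := ⟨fun a ha => isUnit_of_map_unit (algebraMap A S) a (by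
    rw [IsScalarTower.algebraMap_apply A D S]; exact ha.map (algebraMap D S))⟩
  have hmA : ∀ a ∈ maximalIdeal A, q (algebraMap A D' a) = 0 := fun a ha => by
    rw [← ι.commutes, ← RingHom.mem_ker, hker]
    have h : algebraMap A D a ∈ maximalIdeal D := fun hu => ha (isUnit_of_map_unit (algebraMap A D) a hu)
    rw [← hN'] at h
    exact h
  let ρ : ResidueField A →+* L1 := Ideal.Quotient.lift (maximalIdeal A)
    ((q.comp (algebraMap A D')).codRestrict L1 fun a => L1.algebraMap_mem ⟨_, hkA a⟩)
    fun a ha => Subtype.ext (hmA a ha)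
  let τ : ResidueField S →+* K := Ideal.Quotient.lift (maximalIdeal S)
    (π.comp (Algebra.TensorProduct.includeRight : S →ₐ[A] A' ⊗[A] S)).toRingHom
    fun s hs => (hπ _).2 (h1 hs)
  letI : Algebra L1 K := (σ.comp (algebraMap L1 l)).toAlgebra
  have hρτ : ∀ a, algebraMap L1 K (ρ a) = τ (algebraMap (ResidueField A) (ResidueField S) a) := fun a => by
    obtain ⟨a, rfl⟩ := IsLocalRing.residue_surjective a
    change σ (q (algebraMap A D' a)) = π
      ((Algebra.TensorProduct.includeRight : S →ₐ[A] A' ⊗[A] S) (algebraMap A S a))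
    rw [hσ, G.commutes, π.commutes, AlgHom.commutes, π.commutes]
  haveI : Algebra.IsSeparable (ResidueField A) (ResidueField S) :=
    (Hensel.IsStrictHenselization.isSepClosure (R := A) (S := S)).separable
  have hall : ∀ z, π z ∈ separableClosure L1 K := fun z => by
    induction z using TensorProduct.induction_on with
    | zero => rw [map_zero]; exact zero_mem _
    | add z z' hz hz' => rw [map_add]; exact add_mem hz hz'
    | tmul a s =>
      rw [show a ⊗ₜ[A] s = (a ⊗ₜ[A] (1 : S)) * ((1 : A') ⊗ₜ[A] s) by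
        rw [Algebra.TensorProduct.tmul_mul_tmul, mul_one, one_mul], map_mul]
      refine mul_mem ?_ (mem_separableClosure_iff.2 (isSeparable_of_comm ρ τ hρτ (residue S s)))
      rw [← G_inclusion A' hA' hle G hG a, ← hσ]
      exact IntermediateField.algebraMap_mem (separableClosure L1 K) ⟨_, hAT a⟩
  let σ' : l →ₐ[L1] K := { σ with commutes' := fun _ => rfl }
  have hsep : ∀ x : l, IsSeparable L1 x := fun x => by
    obtain ⟨x, rfl⟩ := hq x
    have h := mem_separableClosure_iff.1 (hall (G x))
    rw [← hσ, show σ (q x) = σ' (q x) from rfl] at h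
    unfold IsSeparable at h ⊢
    rwa [minpoly.algHom_eq σ' σ'.injective] at h
  exact ⟨T, t.finite_toSet.image _, fun y hy => ⟨hT y hy, by obtain ⟨a', -, rfl⟩ := hy; exact ⟨a', rfl⟩⟩, hsep⟩

include hA' hD' hle hι hG in
/-- Residue fields with finite separable closure are finitely spanned. -/
theorem residue_spanned (hN : CAlg.IsNagata A) (N : Ideal D') [N.IsMaximal] {l : Type u} [Field l] (q : D' →+* l)
    (hq : Function.Surjective q) (hker : RingHom.ker q = N) (k₀ : Subfield l)
    (hk₀ : ∀ y, y ∈ k₀ ↔ ∃ d, q (ι d) = y) [FiniteDimensional k₀ (separableClosure k₀ l)] :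
    ∃ v : Finset D', ∀ x : D', ∃ c : D' → D, x - ∑ y ∈ v, ι (c y) * y ∈ N := by
  classical
  obtain ⟨T, hTf, hT', hsep⟩ := exists_separable_over hA' hD' hle ι hι G hG hN N q hq hker k₀ hk₀
  haveI : Finite T := hTf.to_subtype
  have hT : ∀ x ∈ T, IsIntegral k₀ x := fun x hx => (hT' x hx).1
  haveI := finiteDimensional_of_separable_adjoin T hT hsep
  obtain ⟨w, hw⟩ := Module.Finite.fg_top (R := k₀) (M := l)
  have hq2 := hq
  choose g hg using hq2
  refine ⟨w.image g, fun x => ?_⟩
  obtain ⟨c, hc⟩ := Submodule.mem_span_finset'.1 (hw ▸ Submodule.mem_top : q x ∈ Submodule.span k₀ (w : Set l))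
  choose cd hcd using fun y : w => (hk₀ _).1 (c y).2
  refine ⟨fun y => if h : q y ∈ w then cd ⟨q y, h⟩ else 0, ?_⟩
  rw [← hker, RingHom.mem_ker, map_sub, sub_eq_zero, map_sum, Finset.sum_image (fun a _ b _ h => by
    rw [← hg a, ← hg b, h]), ← hc, ← Finset.sum_coe_sort w]
  refine Finset.sum_congr rfl fun y _ => ?_
  have hy : q (g y) ∈ w := by rw [hg]; exact y.2
  rw [map_mul, hg, Subfield.smul_def, smul_eq_mul]
  simp only [dif_pos hy]
  rw [show (⟨q (g y), hy⟩ : w) = y from Subtype.ext (hg y), hcd y]

end SHSubLib
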