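import Groth.Agent.SHSubLib.HensCover
import Groth.Agent.SHSubLib.HensNoeth
import Groth.Agent.SHSubLib.HensResidue
import Mathlib

/-! Noetherian intermediate algebras of a strict henselization are those with small residual extensions. -/

set_option autoImplicit false
set_option synthInstance.maxHeartbeats 400000
set_option maxHeartbeats 1600000

universe u

open IsLocalRing TensorProduct

namespace SHSubLib

variable {A S : Type u} [CommRing A] [HenselianLocalRing A] [IsReduced A] [IsNoetherianRing A] [CommRing S]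
  [IsLocalRing S] [Algebra A S] [IsLocalHom (algebraMap A S)] [Hensel.IsStrictHenselization A S]
variable {D : Subalgebra A S} [IsLocalRing D] [IsLocalHom (algebraMap D S)]
variable {A' D' : Subalgebra A (FractionRing S)}
  (hA' : ∀ x : (FractionRing S), x ∈ A' ↔ (IsIntegral A x ∧
      ∃ a ∈ nonZeroDivisors A, ∃ b : A, algebraMap A (FractionRing S) a * x = algebraMap A (FractionRing S) b))
  (hD' : ∀ x : (FractionRing S), x ∈ D' ↔ (IsIntegral D x ∧
      ∃ a ∈ nonZeroDivisors A, ∃ d ∈ D, algebraMap A (FractionRing S) a * x = algebraMap S (FractionRing S) d))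
  (hle : A' ≤ D') (ι : D →ₐ[A] D') (hι : ∀ d : D, (ι d : (FractionRing S)) = algebraMap S (FractionRing S) d)
  (G : D' →ₐ[A] A' ⊗[A] S) (hG : ∀ x, muS A' (G x) = (x : FractionRing S))

include hA' hD' hι hG in
/-- Finitely spanned residue fields give a Noetherian algebra. -/
theorem isNoetherianRing_of_spanned (hN : CAlg.IsNagata A)
    (hspan : ∀ N : Ideal D', N.IsMaximal → ∃ v : Finset D', ∀ x : D', ∃ c : D' → D, x - ∑ y ∈ v, ι (c y) * y ∈ N) :
    IsNoetherianRing D := by
  classical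
  have hfin : {N : Ideal D' | N.IsMaximal}.Finite :=
    ((finite_maximal_tensorS hA' hN).image fun P => P.comap G).subset fun N hN' => by
      haveI : N.IsMaximal := hN'
      obtain ⟨P, hP, hPN⟩ := exists_maximal_overH hA' G hG N
      exact ⟨P, hP, hPN⟩
  haveI : Finite {N : Ideal D' // N.IsMaximal} := hfin.to_subtype
  haveI := Fintype.ofFinite {N : Ideal D' // N.IsMaximal}
  choose v hv using hspan
  have hcop : Pairwise fun i j : {N : Ideal D' // N.IsMaximal} => IsCoprime i.1 j.1 := fun i j hij =>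
    Ideal.isCoprime_iff_sup_eq.2 (Ideal.IsMaximal.coprime_of_ne i.2 j.2 fun h => hij (Subtype.ext h))
  choose e he1 he0 using exists_crt (fun i : {N : Ideal D' // N.IsMaximal} => i.1) hcop
  choose sf hsf using fun w : D' => exists_finset_tensor A' (G w)
  obtain ⟨F₀, hfd, -, B₀, hB₀⟩ := exists_FEL_ge (A := A)
    (Finset.univ.biUnion fun i : {N : Ideal D' // N.IsMaximal} => (v i.1 i.2).biUnion fun y => sf (e i * y))
  haveI := hfd
  let X := D ⊔ B₀.j.range
  let R : Subalgebra A (A' ⊗[A] S) := (Algebra.TensorProduct.map (AlgHom.id A A') X.val).range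
  have hRd : ∀ d : D, G (ι d) ∈ R := fun d => ⟨(1 : A') ⊗ₜ (⟨(d : S), (le_sup_left : D ≤ X) d.2⟩ : X), by
    rw [G_iota A' hA' ι hι G hG d]
    rfl⟩
  have hRw : ∀ (i : {N : Ideal D' // N.IsMaximal}), ∀ y ∈ v i.1 i.2, G (e i * y) ∈ R := fun i y hy =>
    hsf _ X fun x hx => (le_sup_right : B₀.j.range ≤ X)
      (hB₀ x (Finset.mem_biUnion.2 ⟨i, Finset.mem_univ i, Finset.mem_biUnion.2 ⟨y, hy, hx⟩⟩))
  have hcond : ∀ x : D', ∃ z : A' ⊗[A] X,
      G x - Algebra.TensorProduct.map (AlgHom.id A A') X.val z ∈ Ideal.jacobson (R := A' ⊗[A] S) ⊥ := fun x => by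
    choose c hc using fun i : {N : Ideal D' // N.IsMaximal} => hv i.1 i.2 x
    let x' := ∑ i, ∑ y ∈ v i.1 i.2, ι (c i y) * (e i * y)
    have hmem : G x' ∈ R := by
      rw [map_sum]
      refine sum_mem fun i _ => ?_
      rw [map_sum]
      refine sum_mem fun y hy => ?_
      rw [map_mul]
      exact mul_mem (hRd _) (hRw i y hy)
    obtain ⟨z, hz⟩ := hmem
    refine ⟨z, ?_⟩
    have hsub : ∀ N : Ideal D', N.IsMaximal → x - x' ∈ N := fun N hN' => by
      have h1 : x' - ∑ y ∈ v N hN', ι (c ⟨N, hN'⟩ y) * y ∈ N := by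
        rw [show x' = _ from (Finset.add_sum_erase _ _ (Finset.mem_univ (⟨N, hN'⟩ : {N : Ideal D' // N.IsMaximal}))).symm,
          add_sub_right_comm]
        refine add_mem ?_ (sum_mem fun j hj => sum_mem fun y _ => ?_)
        · rw [← Finset.sum_sub_distrib]
          refine sum_mem fun y _ => ?_
          rw [show ι (c ⟨N, hN'⟩ y) * (e ⟨N, hN'⟩ * y) - ι (c ⟨N, hN'⟩ y) * y =
            ι (c ⟨N, hN'⟩ y) * y * (e ⟨N, hN'⟩ - 1) by ring]
          exact N.mul_mem_left _ (he1 ⟨N, hN'⟩)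
        · exact N.mul_mem_left _ (N.mul_mem_right _ (he0 j ⟨N, hN'⟩ (Finset.ne_of_mem_erase hj).symm))
      have h2 : (x - ∑ y ∈ v N hN', ι (c ⟨N, hN'⟩ y) * y) - (x' - ∑ y ∈ v N hN', ι (c ⟨N, hN'⟩ y) * y) ∈ N :=
        sub_mem (hc ⟨N, hN'⟩) h1
      rwa [sub_sub_sub_cancel_right] at h2
    refine Ideal.mem_sInf.2 fun {P} hP => ?_
    haveI := hP.2
    have h := hsub _ (isMaximal_comap_G A' hA' G P)
    rw [Ideal.mem_comap, map_sub, ← hz] at h
    exact h
  obtain ⟨H, hHD, hH, hprop, -⟩ := exists_unramified (A := A) D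
  haveI := hH
  obtain ⟨-, -, hBf⟩ := essEt_range (A := A) B₀
  haveI := hBf
  refine isNoetherianRing_of_le_sup D H hHD B₀.j.range (le_sup_left.trans
    (le_sup_of_cover D H hprop B₀ fun x hx => ?_))
  obtain ⟨E, hsE, hEX, hEl, hES, hE⟩ := exists_cover_extend hA' hD' ι hι G hG hN B₀ X rfl hcond {x} (by simpa using hx)
  exact ⟨E, hsE (by simp), hEX, hEl, hES, hE⟩

omit [IsReduced A] in
/-- A Noetherian intermediate algebra is covered after adjoining a finite etale lift. -/
theorem exists_lift_of_isNoetherianRing [IsNoetherianRing D] :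
    ∃ (F₀ : IntermediateField (ResidueField A) (ResidueField S)) (_ : FiniteDimensional (ResidueField A) F₀)
      (B₀ : SHGalLib.FEL A S F₀), ∀ s : Finset S, (s : Set S) ⊆ (D ⊔ B₀.j.range : Subalgebra A S) →
        ∃ E : Subalgebra A S, (s : Set S) ⊆ E ∧ E ≤ D ⊔ B₀.j.range ∧ ∃ _ : IsLocalRing E,
          IsLocalHom (algebraMap E S) ∧ EGA4loc.IsEssentiallyEtale A E := by
  classical
  obtain ⟨g, hg⟩ := IsNoetherian.noetherian (maximalIdeal D)
  obtain ⟨F₀, hfd, -, B₀, hB₀⟩ := exists_FEL_ge (A := A) (g.image fun x : D => (x : S))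
  haveI := hfd
  refine ⟨F₀, hfd, B₀, ?_⟩
  obtain ⟨H, hHD, -, hprop, hmemH⟩ := exists_unramified (A := A) D
  obtain ⟨kD, hkD⟩ := exists_resField (A := A) D
  let X := D ⊔ B₀.j.range
  let Y := H ⊔ B₀.j.range
  have hYX : Y ≤ X := sup_le_sup_right hHD _
  have hgS : ∀ x : D, x ∈ g → (x : S) ∈ (maximalIdeal A).map (algebraMap A S) := fun x hx => by
    rw [Groth.Agent.S0538.result A S]
    have h : x ∈ maximalIdeal D := hg.le (Ideal.subset_span hx)
    exact fun hu => h (isUnit_of_map_unit (algebraMap D S) x hu)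
  have happD : ∀ (n : ℕ), ∀ d ∈ D, ∃ y ∈ Y, d - y ∈ (maximalIdeal A ^ n).map (algebraMap A S) := by
    intro n
    induction n with
    | zero => exact fun d _ => ⟨0, zero_mem _, by rw [pow_zero, Ideal.one_eq_top, Ideal.map_top]; exact trivial⟩
    | succ n ih =>
      intro d hd
      let F := IntermediateField.adjoin (ResidueField A) {residue S d}
      haveI : Algebra.IsSeparable (ResidueField A) (ResidueField S) :=
        (Hensel.IsStrictHenselization.isSepClosure (R := A) (S := S)).separable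
      haveI : FiniteDimensional (ResidueField A) F :=
        IntermediateField.adjoin.finiteDimensional (Algebra.IsSeparable.isSeparable (ResidueField A) (residue S d)).isIntegral
      obtain ⟨B⟩ := nonempty_FEL' (A := A) (S := S) F
      have hFD : F ≤ kD := IntermediateField.adjoin_le_iff.2 (Set.singleton_subset_iff.2 ((hkD _).2 ⟨d, hd, rfl⟩))
      obtain ⟨b, hb⟩ := IsLocalRing.residue_surjective
        (B.res.symm ⟨residue S d, IntermediateField.mem_adjoin_simple_self _ _⟩)
      have hh : B.j b ∈ H := hprop F inferInstance B (fun y hy => (hkD y).1 (hFD hy)) ⟨b, rfl⟩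
      have hres : residue S (B.j b) = residue S d := by
        rw [← B.hres, hb, RingEquiv.apply_symm_apply]
      have hdm : (⟨d, hd⟩ - ⟨B.j b, hHD hh⟩ : D) ∈ maximalIdeal D := fun hu => by
        have h := hu.map (algebraMap D S)
        exact (IsLocalRing.residue_ne_zero_iff_isUnit _).2 h (by
          change residue S (d - B.j b) = 0
          rw [map_sub, hres, sub_self])
      rw [← hg] at hdm
      obtain ⟨c, hc⟩ := Submodule.mem_span_finset'.1 hdm
      choose y hy hcy using fun i : g => ih (c i : S) (c i).2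
      refine ⟨B.j b + ∑ i : g, y i * ((i : D) : S), add_mem ((le_sup_left : H ≤ Y) hh) (sum_mem fun i _ =>
        mul_mem (hy i) ((le_sup_right : B₀.j.range ≤ Y) (hB₀ _ (Finset.mem_image_of_mem _ i.2)))), ?_⟩
      have h := congrArg D.val hc
      rw [map_sum, map_sub] at h
      rw [sub_add_eq_sub_sub, show d - B.j b = ∑ i : g, D.val (c i • (i : D)) from h.symm, ← Finset.sum_sub_distrib]
      refine sum_mem fun i _ => ?_
      change (c i : S) * ((i : D) : S) - _ ∈ _
      rw [← sub_mul, pow_succ, Ideal.map_mul]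
      exact Ideal.mul_mem_mul (hcy i) (hgS _ i.2)
  have happX : ∀ (n : ℕ), ∀ x ∈ X, ∃ y ∈ Y, x - y ∈ (maximalIdeal A ^ n).map (algebraMap A S) := fun n x hx => by
    let qn := Ideal.Quotient.mkₐ A ((maximalIdeal A ^ n).map (algebraMap A S))
    have h : X ≤ (Y.map qn).comap qn := by
      refine sup_le (fun d hd => ?_) fun b hb => ⟨b, (le_sup_right : B₀.j.range ≤ Y) hb, rfl⟩
      obtain ⟨y, hy, hdy⟩ := happD n d hd
      exact ⟨y, hy, (Ideal.Quotient.eq.2 hdy).symm⟩
    obtain ⟨y, hy, hxy⟩ := h hx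
    exact ⟨y, hy, Ideal.Quotient.eq.1 hxy.symm⟩
  let P : S → Prop := fun x => ∃ (F : IntermediateField (ResidueField A) (ResidueField S))
    (_ : FiniteDimensional (ResidueField A) F) (B : SHGalLib.FEL A S (F ⊔ F₀)),
      (∀ y ∈ F, ∃ d ∈ D, residue S d = y) ∧ x ∈ B.j.range
  have hBY : ∀ (F : IntermediateField (ResidueField A) (ResidueField S)) [FiniteDimensional (ResidueField A) F]
      (B : SHGalLib.FEL A S (F ⊔ F₀)), (∀ y ∈ F, ∃ d ∈ D, residue S d = y) → B.j.range ≤ Y := fun F _ B h => by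
    obtain ⟨B₁⟩ := nonempty_FEL' (A := A) (S := S) F
    exact (FEL_range_le_sup B B₁ B₀).trans (sup_le_sup_right (hprop F inferInstance B₁ h) _)
  have hbase : ∀ x ∈ B₀.j.range, P x := fun x hx => by
    obtain ⟨B⟩ := nonempty_FEL' (A := A) (S := S) (⊥ ⊔ F₀)
    exact ⟨⊥, inferInstance, B, fun y hy => (hkD y).1 ((bot_le : ⊥ ≤ kD) hy), FEL_range_mono le_sup_right B₀ B hx⟩
  have hdir : ∀ {x y}, P x → P y → ∃ (F : IntermediateField (ResidueField A) (ResidueField S))
      (_ : FiniteDimensional (ResidueField A) F) (B : SHGalLib.FEL A S (F ⊔ F₀)),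
        (∀ y ∈ F, ∃ d ∈ D, residue S d = y) ∧ x ∈ B.j.range ∧ y ∈ B.j.range := by
    rintro x y ⟨F, _, B, hF, hx⟩ ⟨F', _, B', hF', hy⟩
    obtain ⟨B''⟩ := nonempty_FEL' (A := A) (S := S) ((F ⊔ F') ⊔ F₀)
    exact ⟨F ⊔ F', inferInstance, B'', fun z hz => (hkD z).1 ((sup_le (fun w hw => (hkD w).2 (hF w hw))
      (fun w hw => (hkD w).2 (hF' w hw)) : F ⊔ F' ≤ kD) hz),
      FEL_range_mono (sup_le_sup_right le_sup_left _) B B'' hx,
      FEL_range_mono (sup_le_sup_right le_sup_right _) B' B'' hy⟩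
  let Z : Subalgebra A S :=
    { carrier := {x | P x}
      mul_mem' := fun {x y} hx hy => by
        obtain ⟨F, i, B, hF, hx', hy'⟩ := hdir hx hy
        exact ⟨F, i, B, hF, mul_mem hx' hy'⟩
      add_mem' := fun {x y} hx hy => by
        obtain ⟨F, i, B, hF, hx', hy'⟩ := hdir hx hy
        exact ⟨F, i, B, hF, add_mem hx' hy'⟩
      algebraMap_mem' := fun a => hbase _ (B₀.j.range.algebraMap_mem a) }
  have hYZ : Y ≤ Z := by
    refine sup_le (fun x hx => ?_) hbase
    obtain ⟨F, _, B, hF, hxB⟩ := hmemH x hx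
    obtain ⟨B'⟩ := nonempty_FEL' (A := A) (S := S) (F ⊔ F₀)
    exact ⟨F, inferInstance, B', hF, FEL_range_mono le_sup_left B B' hxB⟩
  have hD : ∀ x : Y, (x : S) ∈ maximalIdeal S → ∀ n : ℕ, ∃ y ∈ (maximalIdeal A).map (algebraMap A Y),
      (x : S) - ((y : Y) : S) ∈ (maximalIdeal A ^ n).map (algebraMap A S) := fun x hx n => by
    obtain ⟨F, _, B, hF, b, hb⟩ := hYZ x.2
    haveI := B.loc
    haveI : IsLocalHom (algebraMap A B.B) := ⟨fun a ha => isUnit_of_map_unit (algebraMap A S) a (by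
      rw [← B.j.commutes]; exact ha.map B.j)⟩
    let ψ : B.B →ₐ[A] Y := B.j.codRestrict Y fun c => hBY F B hF ⟨c, rfl⟩
    refine ⟨x, ?_, by rw [sub_self]; exact zero_mem _⟩
    have hbm : b ∈ maximalIdeal B.B := fun hu => hx (by rw [← hb]; exact hu.map B.j)
    rw [← Algebra.FormallyUnramified.map_maximalIdeal (R := A) (S := B.B)] at hbm
    rw [show x = ψ b from Subtype.ext hb.symm]
    refine (?_ : Ideal.map ψ ((maximalIdeal A).map (algebraMap A B.B)) ≤ _) (Ideal.mem_map_of_mem ψ hbm)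
    rw [Ideal.map_le_iff_le_comap, Ideal.map_le_iff_le_comap]
    intro a ha
    rw [Ideal.mem_comap, Ideal.mem_comap, ψ.commutes]
    exact Ideal.mem_map_of_mem _ ha
  obtain ⟨hXl, hXh, hXS, hAX⟩ := intermediate_data (A := A) X
  haveI := hXl
  haveI := hXh
  haveI := hAX
  haveI : IsLocalHom (X.val : X →+* S) := hXS
  intro s hs
  obtain ⟨E, hsE, hEX, hEl, hEh, hE⟩ := exists_cover Y X.val (fun x hx => ⟨⟨x, hYX hx⟩, rfl⟩)
    (fun z n => happX n z z.2) hD s fun x hx => ⟨⟨x, hs hx⟩, rfl⟩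
  exact ⟨E, hsE, fun x hx => by obtain ⟨y, rfl⟩ := hEX hx; exact y.2, hEl, hEh, hE⟩

include hA' hD' hι hG in
/-- Residue fields of the normalization of a Noetherian intermediate algebra are finite. -/
theorem finiteDimensional_of_isNoetherianRing [IsNoetherianRing D] (hN : CAlg.IsNagata A) (N : Ideal D')
    [N.IsMaximal] {l : Type u} [Field l] (q : D' →+* l) (hq : Function.Surjective q) (hker : RingHom.ker q = N)
    (k₀ : Subfield l) (hk₀ : ∀ y, y ∈ k₀ ↔ ∃ d, q (ι d) = y) : FiniteDimensional k₀ l := by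
  classical
  have hmin : (minimalPrimes A).Finite := minimalPrimes.finite_of_isNoetherianRing A
  haveI := finite_normA A' hA' hN
  obtain ⟨F₀, hfd, B₀, hcover⟩ := exists_lift_of_isNoetherianRing (A := A) (D := D)
  haveI := hfd
  obtain ⟨-, -, hBf⟩ := essEt_range (A := A) B₀
  haveI := hBf
  obtain ⟨P, hP, hPN⟩ := exists_maximal_overH hA' G hG N
  haveI := hP
  obtain ⟨K, _, _, π, -, hπ⟩ := exists_field_quot (A := A) (T := A' ⊗[A] S) P
  let σ : l →+* K := RingHom.liftOfSurjective q hq ⟨π.toRingHom.comp (G : D' →+* A' ⊗[A] S),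
    fun x hx => (hπ _).2 (by
      rw [hker, ← hPN] at hx
      exact hx)⟩
  have hσ : ∀ x, σ (q x) = π (G x) := fun x => RingHom.liftOfRightInverse_comp_apply _ _ _ _ x
  letI : Algebra k₀ K := (σ.comp (algebraMap k₀ l)).toAlgebra
  let m := π.comp (Algebra.TensorProduct.map (AlgHom.id A A') B₀.j.range.val)
  obtain ⟨t, ht⟩ := Module.Finite.fg_top (R := A) (M := A' ⊗[A] B₀.j.range)
  let V : Submodule k₀ K := Submodule.span k₀ (m '' (t : Set (A' ⊗[A] B₀.j.range)))
  haveI : FiniteDimensional k₀ V := FiniteDimensional.span_of_finite k₀ (t.finite_toSet.image m)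
  have hD0 : ∀ d : D, ∃ r : k₀, algebraMap k₀ K r = π ((1 : A') ⊗ₜ (d : S)) := fun d => by
    refine ⟨⟨q (ι d), (hk₀ _).2 ⟨d, rfl⟩⟩, ?_⟩
    change σ (q (ι d)) = _
    rw [hσ, G_iota A' hA' ι hι G hG d]
  have hV : ∀ w, m w ∈ V := fun w => by
    have h : w ∈ Submodule.span A (t : Set (A' ⊗[A] B₀.j.range)) := ht ▸ Submodule.mem_top
    induction h using Submodule.span_induction with
    | mem y hy => exact Submodule.subset_span ⟨y, hy, rfl⟩
    | zero => rw [map_zero]; exact zero_mem _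
    | add y y' _ _ hy hy' => rw [map_add]; exact add_mem hy hy'
    | smul a y _ hy =>
      obtain ⟨r, hr⟩ := hD0 (algebraMap A D a)
      have ha : algebraMap A K a = algebraMap k₀ K r := by
        rw [hr, ← (π.comp (Algebra.TensorProduct.includeRight : S →ₐ[A] A' ⊗[A] S)).commutes a]
        rfl
      rw [map_smul, Algebra.smul_def, ha, ← Algebra.smul_def]
      exact V.smul_mem r hy
  let f : D ⊗[A] B₀.j.range →ₐ[A] S := Algebra.TensorProduct.productMap D.val B₀.j.range.val
  have hDV : ∀ (a : A') (x : S), x ∈ f.range → π (a ⊗ₜ x) ∈ V := by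
    rintro a _ ⟨w, rfl⟩
    induction w using TensorProduct.induction_on with
    | zero => simp
    | add w w' hw hw' =>
      change π (a ⊗ₜ f (w + w')) ∈ V
      rw [map_add, TensorProduct.tmul_add, map_add]
      exact add_mem hw hw'
    | tmul d b =>
      change π (a ⊗ₜ f (d ⊗ₜ b)) ∈ V
      rw [Algebra.TensorProduct.productMap_apply_tmul,
        show a ⊗ₜ[A] (D.val d * B₀.j.range.val b) = ((1 : A') ⊗ₜ[A] (d : S)) * (a ⊗ₜ[A] (b : S)) by
          rw [Algebra.TensorProduct.tmul_mul_tmul, one_mul]; rfl, map_mul]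
      obtain ⟨r, hr⟩ := hD0 d
      rw [← hr, ← Algebra.smul_def]
      exact V.smul_mem r (hV (a ⊗ₜ b))
  have hXf : D ⊔ B₀.j.range ≤ f.range := by
    refine sup_le (fun d hd => ⟨(⟨d, hd⟩ : D) ⊗ₜ 1, ?_⟩) fun b hb => ⟨(1 : D) ⊗ₜ ⟨b, hb⟩, ?_⟩
    · simp [f]
    · simp [f]
  have hall : ∀ x, σ (q x) ∈ V := fun x => by
    obtain ⟨s, hsD, hs⟩ := exists_finset_range A' hA' hD' hmin x
    obtain ⟨E, hsE, hEX, hEl, -, hE⟩ := hcover s fun y hy => (le_sup_left : D ≤ D ⊔ B₀.j.range) (hsD hy)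
    haveI := hEl
    obtain ⟨w, hw⟩ := hs E hE hsE
    rw [hσ, show G x = Algebra.TensorProduct.map (AlgHom.id A A') E.val w from
      muS_injective A' hA' (by rw [hG, muS_map]; exact hw.symm)]
    clear hw
    induction w using TensorProduct.induction_on with
    | zero => rw [map_zero, map_zero]; exact zero_mem _
    | add w w' hw hw' => rw [map_add, map_add]; exact add_mem hw hw'
    | tmul a e =>
      rw [Algebra.TensorProduct.map_tmul]
      exact hDV a e (hXf (hEX e.2))
  let σ' : l →ₗ[k₀] K :=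
    { toFun := σ
      map_add' := map_add σ
      map_smul' := fun r y => by rw [Algebra.smul_def, map_mul, RingHom.id_apply, Algebra.smul_def]; rfl }
  exact Module.Finite.of_injective (σ'.codRestrict V fun y => by obtain ⟨x, rfl⟩ := hq y; exact hall x)
    fun y y' h => σ.injective (congrArg Subtype.val h)

end SHSubLib
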