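import Groth.Agent.SHSubLib.Bounds
import Mathlib

/-! Approximation of elements of the maximal ideal of an intermediate algebra. -/

set_option autoImplicit false
set_option maxHeartbeats 1600000
set_option synthInstance.maxHeartbeats 400000

universe u

open IsLocalRing TensorProduct

namespace SHSubLib

theorem exists_sum_of_mem_span {B M ι : Type*} [CommRing B] [AddCommGroup M] [Module B M] [DecidableEq ι] {v : ι → M}
    {x : M} (hx : x ∈ Submodule.span B (Set.range v)) :
    ∃ (F : Finset ι) (α : ι → B), (∀ i ∉ F, α i = 0) ∧ ∑ i ∈ F, α i • v i = x := by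
  obtain ⟨c, hc⟩ := Finsupp.mem_span_range_iff_exists_finsupp.1 hx
  exact ⟨c.support, c, fun i hi => Finsupp.notMem_support_iff.1 hi, hc⟩

/-- Elements of the maximal ideal lie in the ideal of the base modulo high powers, upstairs. -/
theorem exists_sub_mem_of_residue {A B U R D : Type u} [CommRing A] [IsLocalRing A] [IsNoetherianRing A]
    [CommRing B] [Algebra A B] [Module.Finite A B]
    [CommRing U] [IsLocalRing U] [Algebra A U] [Module.Flat A U]
    [CommRing D] [IsLocalRing D] [Algebra A D] [IsLocalHom (algebraMap A D)] [IsLocalHom (algebraMap A U)]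
    [CommRing R] [Algebra A R]
    (hBinj : Function.Injective (algebraMap A B))
    (hmU : (maximalIdeal A).map (algebraMap A U) = maximalIdeal U)
    (inc : B →ₐ[A] R) (ι : D →ₐ[A] R) (j : D →ₐ[A] U) (hj : IsLocalHom (j : D →+* U))
    (g : R →ₐ[A] B ⊗[A] U) (hgB : ∀ b, g (inc b) = b ⊗ₜ 1) (hgD : ∀ d, g (ι d) = (1 : B) ⊗ₜ j d)
    (hJR : Ideal.jacobson (⊥ : Ideal R) ≤ (Ideal.jacobson (⊥ : Ideal B)).map inc)
    (hιmax : ∀ d ∈ maximalIdeal D, ι d ∈ Ideal.jacobson (⊥ : Ideal R))
    (hsurj : Function.Surjective ((Ideal.Quotient.mkₐ A (Ideal.jacobson (⊥ : Ideal R))).comp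
      (Algebra.TensorProduct.productMap inc ι)))
    (x : D) (hx : j x ∈ maximalIdeal U) (n : ℕ) :
    ∃ y ∈ (maximalIdeal A).map (algebraMap A D), j x - j y ∈ (maximalIdeal A ^ n).map (algebraMap A U) := by
  classical
  set J := Ideal.jacobson (⊥ : Ideal B) with hJdef
  have hmB : (maximalIdeal A).map (algebraMap A B) ≤ J :=
    Ideal.map_le_iff_le_comap.2 fun a ha => Ideal.mem_sInf.2 fun {M} hM => by
      haveI := hM.2
      have h : M.comap (algebraMap A B) = maximalIdeal A :=
        IsLocalRing.eq_maximalIdeal (by exact Ideal.isMaximal_comap_of_isIntegral_of_isMaximal (R := A) (S := B) M)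
      rw [← h] at ha
      exact ha
  letI : Algebra B R := inc.toRingHom.toAlgebra
  haveI : IsScalarTower A B R := IsScalarTower.of_algebraMap_eq fun a => (inc.commutes a).symm
  haveI := hj
  let fk : ResidueField D →ₗ[ResidueField A] ResidueField U :=
    { toFun := ResidueField.map (j : D →+* U)
      map_add' := map_add _
      map_smul' := fun c x => by
        obtain ⟨a, rfl⟩ := IsLocalRing.residue_surjective c
        simp only [Algebra.smul_def, RingHom.id_apply, map_mul]
        congr 1
        change residue U (j (algebraMap A D a)) = residue U (algebraMap A U a)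
        rw [AlgHom.commutes] }
  have hfk : Function.Injective fk := (ResidueField.map (j : D →+* U)).injective
  let bD := Module.Basis.ofVectorSpace (ResidueField A) (ResidueField D)
  obtain ⟨W, hW⟩ := Submodule.exists_isCompl (LinearMap.range fk)
  let bE := ((bD.map (LinearEquiv.ofInjective fk hfk)).prod (Module.Basis.ofVectorSpace (ResidueField A) W)).map
    (Submodule.prodEquivOfIsCompl _ _ hW)
  have hbE : ∀ i, bE (Sum.inl i) = fk (bD i) := fun i => by
    simp [bE, Module.Basis.prod_apply, Submodule.coe_prodEquivOfIsCompl']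
  choose b hb using fun i => IsLocalRing.residue_surjective (bD i)
  choose e' he' using fun l => IsLocalRing.residue_surjective (bE (Sum.inr l))
  let e : _ → U := Sum.elim (fun i => j (b i)) e'
  have he : ∀ l, residue U (e l) = bE l := by
    rintro (i | l)
    · rw [hbE, ← hb i]; rfl
    · exact he' l
  let k2 : ResidueField A →ₐ[A] B ⧸ J :=
    Ideal.Quotient.liftₐ (maximalIdeal A) ((Ideal.Quotient.mkₐ A J).comp (Algebra.ofId A B)) fun a ha =>
      Ideal.Quotient.eq_zero_iff_mem.2 (hmB (Ideal.mem_map_of_mem _ ha))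
  let φ : _ → B ⊗[A] U →ₗ[B] B ⧸ J := fun l =>
    (k2.toLinearMap ∘ₗ (bE.coord l).restrictScalars A ∘ₗ
      (IsScalarTower.toAlgHom A U (ResidueField U)).toLinearMap).liftBaseChange B
  have hφ : ∀ i l, φ l ((1 : B) ⊗ₜ e i) = if i = l then 1 else 0 := fun i l => by
    simp only [φ, LinearMap.liftBaseChange_tmul, one_smul, LinearMap.comp_apply,
      LinearMap.restrictScalars_apply, AlgHom.toLinearMap_apply]
    rw [show (IsScalarTower.toAlgHom A U (ResidueField U)) (e i) = bE i from he i, Module.Basis.coord_apply,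
      Module.Basis.repr_self, Finsupp.single_apply]
    split_ifs <;> simp
  let V : Submodule B R := Submodule.span B (Set.range fun i => ι (b i))
  have hmem : ∀ x : R, x ∈ Ideal.jacobson (⊥ : Ideal R) → x ∈ J • (⊤ : Submodule B R) := fun x hx => by
    rw [Ideal.smul_top_eq_map]
    exact hJR hx
  have hV : V ⊔ J • ⊤ = ⊤ := by
    refine eq_top_iff.2 fun x _ => ?_
    obtain ⟨z, hz⟩ := hsurj (Ideal.Quotient.mk _ x)
    have hr : x - Algebra.TensorProduct.productMap inc ι z ∈ Ideal.jacobson (⊥ : Ideal R) :=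
      Ideal.Quotient.eq.1 hz.symm
    rw [← sub_add_cancel x (Algebra.TensorProduct.productMap inc ι z)]
    refine add_mem (Submodule.mem_sup_right (hmem _ hr)) ?_
    clear hr hz
    induction z using TensorProduct.induction_on with
    | zero => rw [map_zero]; exact zero_mem _
    | add z z' hz hz' => rw [map_add]; exact add_mem hz hz'
    | tmul c d =>
      rw [Algebra.TensorProduct.productMap_apply_tmul]
      change c • ι d ∈ _
      refine Submodule.smul_mem _ c ?_
      have hres : residue D d ∈ Submodule.span (ResidueField A) (Set.range bD) := by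
        rw [bD.span_eq]; exact Submodule.mem_top
      obtain ⟨F, r, -, hr⟩ := exists_sum_of_mem_span hres
      choose a ha using fun i => IsLocalRing.residue_surjective (r i)
      have hd : d - ∑ i ∈ F, a i • b i ∈ maximalIdeal D := by
        rw [← IsLocalRing.residue_eq_zero_iff, map_sub, sub_eq_zero, ← hr, map_sum]
        refine Finset.sum_congr rfl fun i _ => ?_
        rw [← ha, ← hb, Algebra.smul_def, Algebra.smul_def, map_mul]
        rfl
      rw [← sub_add_cancel (ι d) (ι (∑ i ∈ F, a i • b i)), ← map_sub]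
      refine add_mem (Submodule.mem_sup_right (hmem _ (hιmax _ hd))) (Submodule.mem_sup_left ?_)
      rw [map_sum]
      refine sum_mem fun i _ => ?_
      rw [map_smul, ← algebraMap_smul B (a i) (ι (b i))]
      exact Submodule.smul_mem _ _ (Submodule.subset_span ⟨i, rfl⟩)
  have hU : Submodule.span A (Set.range e) ⊔ maximalIdeal A • ⊤ = ⊤ := by
    refine eq_top_iff.2 fun u _ => ?_
    have hres : residue U u ∈ Submodule.span (ResidueField A) (Set.range bE) := by
      rw [bE.span_eq]; exact Submodule.mem_top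
    obtain ⟨F, r, -, hr⟩ := exists_sum_of_mem_span hres
    choose a ha using fun i => IsLocalRing.residue_surjective (r i)
    have hu : u - ∑ l ∈ F, a l • e l ∈ maximalIdeal U := by
      rw [← IsLocalRing.residue_eq_zero_iff, map_sub, sub_eq_zero, ← hr, map_sum]
      refine Finset.sum_congr rfl fun l _ => ?_
      rw [← ha, ← he, Algebra.smul_def, Algebra.smul_def, map_mul]
      rfl
    rw [← sub_add_cancel u (∑ l ∈ F, a l • e l)]
    refine add_mem (Submodule.mem_sup_right ?_)
      (Submodule.mem_sup_left (sum_mem fun l _ => Submodule.smul_mem _ _ (Submodule.subset_span ⟨l, rfl⟩)))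
    rw [Ideal.smul_top_eq_map, hmU]
    exact hu
  obtain ⟨c, hc⟩ := exists_comap_pow_le (R := A) (M := B) (N := A) (Algebra.linearMap A B) hBinj (maximalIdeal A)
  obtain ⟨t, ht⟩ := exists_jacobson_pow_le A (B := B)
  set s := t * (n + c) + n + 1 with hs
  have hxV : ι x ∈ V ⊔ J ^ s • (⊤ : Submodule B R) := by rw [sup_pow_smul_eq_top hV]; exact Submodule.mem_top
  obtain ⟨v, hv, ρ, hρ, hvρ⟩ := Submodule.mem_sup.1 hxV
  obtain ⟨F₁, α, hα0, hα⟩ := exists_sum_of_mem_span hv
  have hxU : j x ∈ Submodule.span A (Set.range e) ⊔ maximalIdeal A ^ s • (⊤ : Submodule A U) := by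
    rw [sup_pow_smul_eq_top hU]; exact Submodule.mem_top
  obtain ⟨w, hw, η, hη, hwη⟩ := Submodule.mem_sup.1 hxU
  obtain ⟨F₂, a, ha0, ha⟩ := exists_sum_of_mem_span hw
  have hgsmul : ∀ (q : B) (x : R), g (q • x) = q • g x := fun q x => by
    rw [Algebra.smul_def, Algebra.smul_def, map_mul]
    congr 1
    exact hgB q
  have hgρ : g ρ ∈ J ^ s • (⊤ : Submodule B (B ⊗[A] U)) := by
    refine Submodule.smul_induction_on hρ (fun q hq x _ => ?_) fun x y hx hy => ?_
    · rw [hgsmul]; exact Submodule.smul_mem_smul hq Submodule.mem_top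
    · rw [map_add]; exact add_mem hx hy
  have hη' : (1 : B) ⊗ₜ[A] η ∈ J ^ s • (⊤ : Submodule B (B ⊗[A] U)) := by
    refine Submodule.smul_induction_on hη (fun q hq x _ => ?_) fun x y hx hy => ?_
    · rw [TensorProduct.tmul_smul, ← algebraMap_smul B q]
      refine Submodule.smul_mem_smul ?_ Submodule.mem_top
      have h := Ideal.mem_map_of_mem (algebraMap A B) hq
      rw [Ideal.map_pow] at h
      exact Ideal.pow_right_mono hmB s h
    · rw [TensorProduct.tmul_add]; exact add_mem hx hy
  let F := F₁.disjSum ∅ ∪ F₂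
  let β : F → B := fun l => Sum.elim α (fun _ => (0 : B)) l.1 - algebraMap A B (a l.1)
  have hβ : ∑ l : F, β l • ((1 : B) ⊗ₜ[A] e l.1) ∈ J ^ s • (⊤ : Submodule B (B ⊗[A] U)) := by
    have h1 : g v = ∑ l ∈ F, (Sum.elim α (fun _ => (0 : B)) l) • ((1 : B) ⊗ₜ[A] e l) := by
      rw [← hα, map_sum, ← Finset.sum_subset (s₁ := F₁.disjSum ∅) (s₂ := F) Finset.subset_union_left]
      · rw [Finset.sum_disjSum]
        simp only [Sum.elim_inl, Finset.sum_empty, add_zero, hgsmul, hgD]
        rfl
      · rintro (i | l) _ hl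
        · rw [Sum.elim_inl, hα0 i (fun hi => hl (Finset.inl_mem_disjSum.2 hi)), zero_smul]
        · rw [Sum.elim_inr, zero_smul]
    have h2 : (1 : B) ⊗ₜ[A] w = ∑ l ∈ F, algebraMap A B (a l) • ((1 : B) ⊗ₜ[A] e l) := by
      rw [← ha, TensorProduct.tmul_sum, ← Finset.sum_subset (s₁ := F₂) (s₂ := F) Finset.subset_union_right]
      · simp only [TensorProduct.tmul_smul, algebraMap_smul]
      · intro l _ hl
        rw [ha0 l hl, map_zero, zero_smul]
    have h3 : ∑ l : F, β l • ((1 : B) ⊗ₜ[A] e l.1) = (1 : B) ⊗ₜ[A] η - g ρ := by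
      rw [Finset.sum_coe_sort F (fun l => (Sum.elim α (fun _ => (0 : B)) l - algebraMap A B (a l)) •
        ((1 : B) ⊗ₜ[A] e l))]
      simp only [sub_smul]
      rw [Finset.sum_sub_distrib, ← h1, ← h2, show v = ι x - ρ from eq_sub_of_add_eq hvρ,
        show w = j x - η from eq_sub_of_add_eq hwη, map_sub, hgD, TensorProduct.tmul_sub]
      abel
    rw [h3]
    exact sub_mem hη' hgρ
  have hcoef : ∀ l : F, β l ∈ J ^ s := coeff_mem_of_flat J (J ^ s) le_rfl (fun l : F => (1 : B) ⊗ₜ[A] e l.1)
    (fun l => φ l.1) (fun i l => by rw [hφ]; exact if_congr Subtype.coe_inj rfl rfl) β hβ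
  have hcA : ∀ l, a (Sum.inr l) ∈ maximalIdeal A ^ n := fun l => by
    by_cases hl : Sum.inr l ∈ F
    · have h := hcoef ⟨_, hl⟩
      simp only [β, Sum.elim_inr, zero_sub, neg_mem_iff] at h
      have h4 : algebraMap A B (a (Sum.inr l)) ∈ maximalIdeal A ^ (n + c) • (⊤ : Submodule A B) := by
        rw [Ideal.smul_top_eq_map, Submodule.restrictScalars_mem, Ideal.map_pow]
        refine Ideal.pow_right_mono ht (n + c) ?_
        rw [← pow_mul]
        exact Ideal.pow_le_pow_right (by omega) h
      have h6 : a (Sum.inr l) ∈ maximalIdeal A ^ n • (⊤ : Submodule A A) := hc n (Submodule.mem_comap.2 h4)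
      rwa [Ideal.smul_eq_mul, Ideal.mul_top] at h6
    · rw [ha0 _ fun h => hl (Finset.mem_union_right _ h)]
      exact Ideal.zero_mem _
  have ham : ∀ l, a l ∈ maximalIdeal A := by
    have hη0 : residue U η = 0 := by
      rw [IsLocalRing.residue_eq_zero_iff, ← hmU]
      have h := Ideal.smul_top_eq_map (R := A) (S := U) (maximalIdeal A ^ s) ▸ hη
      exact Ideal.map_mono (Ideal.pow_le_self (by omega)) h
    have h0 : residue U (j x) = 0 := (IsLocalRing.residue_eq_zero_iff _).2 hx
    have hsum : ∑ l ∈ F₂, residue A (a l) • bE l = 0 := by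
      have h1 : residue U w = 0 := by
        rw [eq_sub_of_add_eq hwη, map_sub, h0, hη0, sub_zero]
      rw [← h1, ← ha, map_sum]
      refine Finset.sum_congr rfl fun l _ => ?_
      rw [← he, Algebra.smul_def, Algebra.smul_def, map_mul]
      rfl
    intro l
    by_cases hl : l ∈ F₂
    · exact (IsLocalRing.residue_eq_zero_iff _).1 (linearIndependent_iff'.1 bE.linearIndependent _ _ hsum l hl)
    · rw [ha0 l hl]; exact Ideal.zero_mem _
  refine ⟨∑ i ∈ F₂.toLeft, a (Sum.inl i) • b i, Ideal.sum_mem _ fun i _ => ?_, ?_⟩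
  · rw [Algebra.smul_def]
    exact Ideal.mul_mem_right _ _ (Ideal.mem_map_of_mem _ (ham _))
  have h7 : j x - j (∑ i ∈ F₂.toLeft, a (Sum.inl i) • b i) = η + ∑ l ∈ F₂.toRight, a (Sum.inr l) • e (Sum.inr l) := by
    have h8 : w = ∑ i ∈ F₂.toLeft, a (Sum.inl i) • e (Sum.inl i) + ∑ l ∈ F₂.toRight, a (Sum.inr l) • e (Sum.inr l) := by
      rw [← ha, ← Finset.sum_disjSum F₂.toLeft F₂.toRight (fun l => a l • e l), Finset.toLeft_disjSum_toRight]
    rw [← hwη, h8, map_sum]
    simp only [map_smul, e, Sum.elim_inl, Sum.elim_inr]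
    abel
  rw [h7]
  refine Ideal.add_mem _ ?_ (Ideal.sum_mem _ fun l _ => ?_)
  · have h := Ideal.smul_top_eq_map (R := A) (S := U) (maximalIdeal A ^ s) ▸ hη
    exact Ideal.map_mono (Ideal.pow_le_pow_right (by omega)) h
  · rw [Algebra.smul_def]
    exact Ideal.mul_mem_right _ _ (Ideal.mem_map_of_mem _ (hcA l))

end SHSubLib
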