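import Groth.Agent.SHSubLib.HensBasic
import Groth.Agent.SHSubLib.Approx
import Mathlib

/-! Adjoining a finite etale algebra to an intermediate algebra with finite residual growth. -/

set_option autoImplicit false
set_option synthInstance.maxHeartbeats 400000
set_option maxHeartbeats 1600000

universe u

open IsLocalRing TensorProduct
open scoped nonZeroDivisors

namespace SHSubLib

variable {A S : Type u} [CommRing A] [IsLocalRing A] [IsReduced A] [IsNoetherianRing A] [CommRing S] [IsLocalRing S]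
  [Algebra A S] [IsLocalHom (algebraMap A S)] [Hensel.IsStrictHenselization A S]

/-- Non-zero-divisors of an intermediate algebra divide non-zero-divisors of the base. -/
theorem exists_mul_mem_base (D : Subalgebra A S) (d : D) (hd : d ∈ D⁰) :
    ∃ d' : D, ∃ a ∈ A⁰, d * d' = algebraMap A D a := by
  have hmin : (minimalPrimes A).Finite := minimalPrimes.finite_of_isNoetherianRing A
  obtain ⟨E, hsE, hEl, -, hE, -⟩ := exists_essEt_ge A S {(d : S)}
  haveI := hEl
  have hdE : (d : S) ∈ E := hsE (by simp)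
  obtain ⟨d', hd', a, ha, hda⟩ := exists_mul_eq_algebraMap hmin hE (D.comap E.val) (d := ⟨_, hdE⟩) d.2
    (fun y hy hmul => by
      have h3 : d * ⟨(y : S), hy⟩ = 0 := Subtype.ext ((congrArg Subtype.val hmul :))
      exact Subtype.ext (congrArg Subtype.val ((mem_nonZeroDivisors_iff.1 hd).1 _ h3) :))
  exact ⟨⟨(d' : S), hd'⟩, a, ha, Subtype.ext ((congrArg Subtype.val hda :))⟩

/-- Normalizations inside the fractions of the strict henselization, compared with integral closures. -/
theorem exists_normalizations (D : Subalgebra A S) [IsLocalRing D] [IsLocalHom (algebraMap D S)] :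
    ∃ (A' D' : Subalgebra A (FractionRing S)),
      (∀ x : (FractionRing S), x ∈ A' ↔ (IsIntegral A x ∧
        ∃ a ∈ A⁰, ∃ b : A, algebraMap A (FractionRing S) a * x = algebraMap A (FractionRing S) b)) ∧
      (∀ x : (FractionRing S), x ∈ D' ↔ (IsIntegral D x ∧
        ∃ a ∈ A⁰, ∃ d ∈ D, algebraMap A (FractionRing S) a * x = algebraMap S (FractionRing S) d)) ∧
      ∃ (_ : A' ≤ D') (ι : D →ₐ[A] D'), (∀ d : D, (ι d : (FractionRing S)) = algebraMap S (FractionRing S) d) ∧
        ∃ e : integralClosure D (FractionRing D) ≃+* D', ∀ d, e (algebraMap D _ d) = ι d := by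
  let K := FractionRing S
  obtain ⟨L, hL, -, -, -⟩ := exists_fracD D
  let LA : Subalgebra A K :=
    { carrier := {x | ∃ a ∈ A⁰, ∃ b : A, algebraMap A K a * x = algebraMap A K b}
      mul_mem' := by
        rintro x y ⟨a, ha, d, hx⟩ ⟨b, hb, e, hy⟩
        exact ⟨a * b, A⁰.mul_mem ha hb, d * e, by rw [map_mul, map_mul, ← hx, ← hy]; ring⟩
      add_mem' := by
        rintro x y ⟨a, ha, d, hx⟩ ⟨b, hb, e, hy⟩
        exact ⟨a * b, A⁰.mul_mem ha hb, b * d + a * e, by rw [map_mul, map_add, map_mul, map_mul, ← hx, ← hy]; ring⟩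
      algebraMap_mem' := fun c => ⟨1, A⁰.one_mem, c, by rw [map_one, one_mul]⟩ }
  let A' : Subalgebra A K := integralClosure A K ⊓ LA
  let D' : Subalgebra A K := (integralClosure D K).restrictScalars A ⊓ L
  have hA' : ∀ x : K, x ∈ A' ↔ (IsIntegral A x ∧
      ∃ a ∈ A⁰, ∃ b : A, algebraMap A K a * x = algebraMap A K b) := fun x => Iff.rfl
  have hD' : ∀ x : K, x ∈ D' ↔ (IsIntegral D x ∧
      ∃ a ∈ A⁰, ∃ d ∈ D, algebraMap A K a * x = algebraMap S K d) := fun x =>
    ⟨fun h => ⟨h.1, (hL x).1 h.2⟩, fun h => ⟨h.1, (hL x).2 h.2⟩⟩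
  have hle : A' ≤ D' := fun x hx => by
    obtain ⟨hint, a, ha, b, hab⟩ := (hA' x).1 hx
    exact (hD' x).2 ⟨hint.tower_top, a, ha, algebraMap A S b, D.algebraMap_mem b,
      by rw [hab, ← IsScalarTower.algebraMap_apply]⟩
  have hmemι : ∀ d : D, algebraMap S K d ∈ D' := fun d => (hD' _).2
    ⟨isIntegral_algebraMap (R := D) (x := d), 1, A⁰.one_mem, d, d.2, by rw [map_one, one_mul]⟩
  let ι : D →ₐ[A] D' := ((IsScalarTower.toAlgHom A S K).comp D.val).codRestrict D' hmemι
  have hunit : ∀ d : D⁰, IsUnit (algebraMap D K d) := fun d => by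
    obtain ⟨d', a, ha, hda⟩ := exists_mul_mem_base D d d.2
    refine isUnit_of_mul_isUnit_left (y := algebraMap D K d') ?_
    rw [← map_mul, hda, ← IsScalarTower.algebraMap_apply]
    exact isUnit_algebraMap_frac ha
  let ψ₀ : FractionRing D →ₐ[D] K := IsLocalization.liftAlgHom (M := D⁰) (f := Algebra.ofId D K) hunit
  have hinjD : Function.Injective (algebraMap D K) := fun x y h =>
    Subtype.ext (IsFractionRing.injective S K h)
  have hψinj : Function.Injective ψ₀ := by
    refine (injective_iff_map_eq_zero _).2 fun z hz => ?_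
    obtain ⟨x, t, rfl⟩ := IsLocalization.exists_mk'_eq D⁰ z
    have h : algebraMap D K x = 0 := by
      have h1 := congrArg ψ₀ (IsLocalization.mk'_spec (FractionRing D) x t)
      rw [map_mul, hz, zero_mul, AlgHom.commutes] at h1
      exact h1.symm
    rw [(injective_iff_map_eq_zero _).1 hinjD x h, IsLocalization.mk'_zero]
  have hmem : ∀ y : integralClosure D (FractionRing D), ψ₀ y ∈ D' := fun y => by
    refine (hD' _).2 ⟨(y.2 : IsIntegral D (y : FractionRing D)).map ψ₀, ?_⟩
    obtain ⟨x, t, hxt⟩ := IsLocalization.exists_mk'_eq D⁰ (y : FractionRing D)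
    obtain ⟨t', a, ha, hta⟩ := exists_mul_mem_base D t t.2
    refine ⟨a, ha, ((x * t' : D) : S), (x * t').2, ?_⟩
    have h : algebraMap D (FractionRing D) ((t : D) * t') * y = algebraMap D (FractionRing D) (x * t') := by
      rw [map_mul, map_mul, ← hxt, mul_comm (algebraMap D (FractionRing D) (t : D)), mul_assoc,
        IsLocalization.mk'_spec', mul_comm]
    have h2 := congrArg ψ₀ h
    rw [map_mul, AlgHom.commutes, AlgHom.commutes, hta, ← IsScalarTower.algebraMap_apply] at h2
    exact h2
  let f : integralClosure D (FractionRing D) →+* D' :=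
    ((ψ₀.toRingHom).comp (integralClosure D (FractionRing D)).val.toRingHom).codRestrict D'.toSubsemiring hmem
  have hf : Function.Bijective f := by
    refine ⟨fun x y h => Subtype.ext (hψinj (congrArg Subtype.val h)), fun x => ?_⟩
    obtain ⟨hint, a, ha, d, hd, hxd⟩ := (hD' _).1 x.2
    have haD : algebraMap A D a ∈ D⁰ := by
      rw [mem_nonZeroDivisors_iff_right]
      intro z hz
      refine hinjD ?_
      have h := congrArg (algebraMap D K) hz
      rw [map_mul, map_zero, ← IsScalarTower.algebraMap_apply] at h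
      rw [map_zero]
      exact (isUnit_algebraMap_frac (S := S) ha).mul_left_eq_zero.1 h
    let y : FractionRing D := IsLocalization.mk' _ (⟨d, hd⟩ : D) (⟨_, haD⟩ : D⁰)
    have hy : ψ₀ y = x := by
      have h1 := congrArg ψ₀ (IsLocalization.mk'_spec (FractionRing D) (⟨d, hd⟩ : D) (⟨_, haD⟩ : D⁰))
      rw [map_mul, AlgHom.commutes, AlgHom.commutes, ← IsScalarTower.algebraMap_apply] at h1
      refine (isUnit_algebraMap_frac (S := S) ha).mul_left_cancel ?_
      rw [mul_comm]
      exact h1.trans hxd.symm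
    exact ⟨⟨y, (isIntegral_algHom_iff ψ₀ hψinj).1 (by rw [hy]; exact hint)⟩, Subtype.ext hy⟩
  exact ⟨A', D', hA', hD', hle, ι, fun d => rfl, RingEquiv.ofBijective f hf,
    fun d => Subtype.ext (ψ₀.commutes d)⟩

variable {D : Subalgebra A S} [IsLocalRing D] [IsLocalHom (algebraMap D S)]
variable {A' D' : Subalgebra A (FractionRing S)}
  (hA' : ∀ x : (FractionRing S), x ∈ A' ↔ (IsIntegral A x ∧
      ∃ a ∈ nonZeroDivisors A, ∃ b : A, algebraMap A (FractionRing S) a * x = algebraMap A (FractionRing S) b))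
  (hD' : ∀ x : (FractionRing S), x ∈ D' ↔ (IsIntegral D x ∧
      ∃ a ∈ nonZeroDivisors A, ∃ d ∈ D, algebraMap A (FractionRing S) a * x = algebraMap S (FractionRing S) d))
  (hle : A' ≤ D') (ι : D →ₐ[A] D') (hι : ∀ d : D, (ι d : (FractionRing S)) = algebraMap S (FractionRing S) d)
  (G : D' →ₐ[A] A' ⊗[A] S) (hG : ∀ x, muS A' (G x) = (x : FractionRing S))

include hD' hι in
/-- Adjoining a finite etale algebra to the normalization gives the whole normalization. -/
theorem le_range_mu (E : Subalgebra A S) [IsLocalRing E] (hE : EGA4loc.IsEssentiallyEtale A E) [Algebra.Etale A E]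
    (X : Subalgebra A S) (hX : X = D ⊔ E) (X' : Subalgebra A (FractionRing S))
    (hX' : ∀ x : (FractionRing S), x ∈ X' ↔ (IsIntegral X x ∧
      ∃ a ∈ nonZeroDivisors A, ∃ d ∈ X, algebraMap A (FractionRing S) a * x = algebraMap S (FractionRing S) d)) :
    X' ≤ (mu D' E).range := by
  haveI := isReduced_frac (A := A) (S := S)
  obtain ⟨L, hL, hLred, hLart, hreg⟩ := exists_fracD D
  haveI := hLred
  haveI := hLart
  have hleL : D' ≤ L := fun x hx => (hL x).2 ((hD' x).1 hx).2
  letI : Algebra D D' := ι.toRingHom.toAlgebra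
  haveI : IsScalarTower D D' (FractionRing S) := IsScalarTower.of_algebraMap_eq fun d => (hι d).symm
  haveI := isIntegral_iota hD' ι hι
  have hnormal : EGA4.IsNormalRing D' := by
    refine isNormalRing_of_intClosed (Subalgebra.inclusion hleL).toRingHom (Subalgebra.inclusion_injective hleL)
      fun z hz => ?_
    have hz' : IsIntegral D' (z : FractionRing S) := by
      obtain ⟨p, hp, hpz⟩ := hz
      refine ⟨p, hp, ?_⟩
      have h := congrArg L.val.toRingHom hpz
      rw [Polynomial.hom_eval₂, map_zero] at h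
      exact h
    exact ⟨⟨z, (hD' _).2 ⟨isIntegral_trans _ hz', (hL _).1 z.2⟩⟩, Subtype.ext rfl⟩
  let R := (mu D' E).range
  have hD'R : D' ≤ R := fun x hx => ⟨(⟨x, hx⟩ : D') ⊗ₜ (1 : E), by
    change mu D' E ((⟨x, hx⟩ : D') ⊗ₜ (1 : E)) = x
    rw [mu_tmul, OneMemClass.coe_one, map_one, mul_one]⟩
  letI : Algebra D' R := (Subalgebra.inclusion hD'R).toRingHom.toAlgebra
  let π : D' ⊗[A] E →ₐ[D'] R :=
    { (mu D' E).rangeRestrict.toRingHom with
      commutes' := fun x => Subtype.ext (by
        change mu D' E (x ⊗ₜ (1 : E)) = (x : FractionRing S)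
        rw [mu_tmul, OneMemClass.coe_one, map_one, mul_one]) }
  have hπ : Function.Surjective π := (mu D' E).rangeRestrict_surjective
  haveI := EssEtFracLib.flat_of_essEt hE
  haveI := quasiFinite_tensor D' hE
  haveI : Module.Flat D' R := by
    refine flat_of_surjective_normal (E := R) (isNormalRing_tensor D' hE hnormal) π hπ fun Q hQ => ?_
    haveI := hQ.1.1
    obtain ⟨P, hP, -, hPQ⟩ := Ideal.exists_comap_eq_of_mem_minimalPrimes R.val.toRingHom (I := ⊥) Q (by
      rw [Ideal.comap_bot_of_injective _ (Subtype.val_injective : Function.Injective R.val.toRingHom)]; exact hQ)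
    haveI := hP
    let q0 := Q.comap (algebraMap D' R)
    have hq0 : ∀ x : D', x ∈ q0 ↔ (x : FractionRing S) ∈ P := fun x => by
      change algebraMap D' R x ∈ Q ↔ _
      rw [← hPQ]
      rfl
    refine ⟨⟨Ideal.IsPrime.comap _, bot_le⟩, fun q hq hle' x hx => ?_⟩
    haveI := hq.1
    obtain ⟨z', hz'L, hzx⟩ := hreg _ (hleL x.2)
    obtain ⟨a, ha, d, hd, hzd⟩ := (hL _).1 hz'L
    have haP : algebraMap A D' a ∉ q0 := fun h =>
      hP.ne_top (P.eq_top_of_isUnit_mem ((hq0 _).1 h) (isUnit_algebraMap_frac (S := S) ha))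
    have hprod : x * (x * ι ⟨d, hd⟩ - algebraMap A D' a) = 0 := by
      apply Subtype.ext
      change (x : FractionRing S) * ((x : FractionRing S) * (ι ⟨d, hd⟩ : FractionRing S) -
        algebraMap A (FractionRing S) a) = 0
      rw [hι, ← hzd]
      linear_combination algebraMap A (FractionRing S) a * hzx
    rcases hq.1.mem_or_mem (hprod ▸ q.zero_mem) with h | h
    · exact h
    · refine absurd ?_ haP
      have h1 : x * ι ⟨d, hd⟩ - algebraMap A D' a ∈ q0 := hle' h
      simpa using q0.sub_mem (q0.mul_mem_right (ι ⟨d, hd⟩) hx) h1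
  have hRn : EGA4.IsNormalRing R :=
    isNormalRing_of_surjective_flat (T := D' ⊗[A] E) (E := R) (isNormalRing_tensor D' hE hnormal) π hπ
  have hXR : X ≤ R.comap (IsScalarTower.toAlgHom A S (FractionRing S)) := by
    rw [hX, sup_le_iff]
    refine ⟨fun d hd => ?_, fun e he => ⟨(1 : D') ⊗ₜ (⟨e, he⟩ : E), ?_⟩⟩
    · change algebraMap S (FractionRing S) d ∈ R
      rw [← hι ⟨d, hd⟩]
      exact hD'R (ι ⟨d, hd⟩).2
    · change mu D' E ((1 : D') ⊗ₜ (⟨e, he⟩ : E)) = _
      rw [mu_tmul, OneMemClass.coe_one, one_mul]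
      rfl
  intro x hx
  obtain ⟨⟨p, hp, hpx⟩, a, ha, d, hd, hxd⟩ := (hX' x).1 hx
  have hint : R.val.toRingHom.IsIntegralElem x := by
    let g : X →+* R := ((algebraMap S (FractionRing S)).comp X.val.toRingHom).codRestrict R.toSubsemiring
      fun y => hXR y.2
    refine ⟨p.map g, hp.map g, ?_⟩
    rw [Polynomial.eval₂_map]
    exact hpx
  have haR : algebraMap A R a ∈ R⁰ := by
    rw [mem_nonZeroDivisors_iff_right]
    intro z hz
    have h := congrArg Subtype.val hz
    change (z : FractionRing S) * algebraMap A (FractionRing S) a = 0 at h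
    exact Subtype.ext ((isUnit_algebraMap_frac (S := S) ha).mul_left_eq_zero.1 h)
  obtain ⟨y, hy⟩ := exists_eq_of_isIntegralElem hRn R.val.toRingHom Subtype.val_injective hint haR
    (r := ⟨_, hXR hd⟩) (isUnit_algebraMap_frac (S := S) ha) hxd
  exact hy ▸ y.2

end SHSubLib
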