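import Groth.Agent.SHSubLib.HensEtale
import Groth.Agent.QfHensFiniteLib.Basic
import Mathlib

/-! Splitting of the residual separable closure and extended minimal primes. -/

set_option autoImplicit false
set_option synthInstance.maxHeartbeats 400000
set_option maxHeartbeats 1600000

universe u

open IsLocalRing TensorProduct

namespace SHSubLib

section general

/-- All embeddings land in a given subfield exactly when there are as many homomorphisms into it as the degree. -/
theorem natCard_eq_iff {k L kS K' : Type u} [Field k] [Field L] [Field kS] [Field K'] [Algebra k L] [Algebra k kS]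
    [Algebra k K'] [FiniteDimensional k L] [Algebra.IsSeparable k L] [IsSepClosed kS] (τ : K' →ₐ[k] kS) :
    Nat.card (L →ₐ[k] K') = Module.finrank k L ↔ ∀ φ : L →ₐ[k] kS, ∀ y, φ y ∈ τ.range := by
  have hcard : Nat.card (L →ₐ[k] kS) = Module.finrank k L := AlgHom.natCard_of_splits k L kS fun x =>
    IsSepClosed.splits_of_separable _ (Polynomial.Separable.map (f := algebraMap k kS) (Algebra.IsSeparable.isSeparable k x))
  rw [← hcard]
  let c : (L →ₐ[k] K') → (L →ₐ[k] kS) := fun f => τ.comp f
  have hc : Function.Injective c := fun f g h => AlgHom.ext fun y => τ.injective (DFunLike.congr_fun h y :)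
  constructor
  · intro h φ y
    haveI : Finite (L →ₐ[k] K') := Finite.of_injective c hc
    obtain ⟨f, rfl⟩ := ((Nat.bijective_iff_injective_and_card c).2 ⟨hc, h⟩).2 φ
    exact ⟨f y, rfl⟩
  · intro h
    refine Nat.card_congr (Equiv.ofBijective c ⟨hc, fun φ => ?_⟩)
    let e := AlgEquiv.ofInjective τ τ.injective
    refine ⟨e.symm.toAlgHom.comp (φ.codRestrict τ.range (h φ)), AlgHom.ext fun y => ?_⟩
    exact congrArg Subtype.val (e.apply_symm_apply ⟨φ y, h φ y⟩)

/-- Essentially etale local algebras over henselian local rings are finite etale. -/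
theorem finite_etale_of_essEt {A E : Type u} [CommRing A] [HenselianLocalRing A] [IsNoetherianRing A] [CommRing E]
    [IsLocalRing E] [Algebra A E] [IsLocalHom (algebraMap A E)] (hE : EGA4loc.IsEssentiallyEtale A E) :
    Module.Finite A E ∧ Algebra.Etale A E := by
  obtain ⟨C, _, _, q, _, hC, hq, ⟨ε⟩⟩ := hE
  haveI := hC
  haveI : Algebra.QuasiFiniteAt A q := inferInstance
  haveI := QfHensFiniteLib.finite_atPrime (A := A) q hq
  haveI : Algebra.FormallyEtale C (Localization.AtPrime q) := Algebra.FormallyEtale.of_isLocalization q.primeCompl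
  haveI : Algebra.FormallyEtale A (Localization.AtPrime q) := Algebra.FormallyEtale.comp A C (Localization.AtPrime q)
  haveI : Algebra.FinitePresentation A (Localization.AtPrime q) :=
    Algebra.FinitePresentation.of_finiteType.1 inferInstance
  haveI : Algebra.Etale A (Localization.AtPrime q) := {}
  exact ⟨Module.Finite.equiv ε.symm.toLinearEquiv, Algebra.Etale.of_equiv ε.symm⟩

end general

variable {A S : Type u} [CommRing A] [HenselianLocalRing A] [IsReduced A] [IsNoetherianRing A] [CommRing S]
  [IsLocalRing S] [Algebra A S] [IsLocalHom (algebraMap A S)] [Hensel.IsStrictHenselization A S]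
variable {D : Subalgebra A S} [IsLocalRing D] [IsLocalHom (algebraMap D S)]
variable {A' D' : Subalgebra A (FractionRing S)}
  (hA' : ∀ x : (FractionRing S), x ∈ A' ↔ (IsIntegral A x ∧
      ∃ a ∈ nonZeroDivisors A, ∃ b : A, algebraMap A (FractionRing S) a * x = algebraMap A (FractionRing S) b))
  (hD' : ∀ x : (FractionRing S), x ∈ D' ↔ (IsIntegral D x ∧
      ∃ a ∈ nonZeroDivisors A, ∃ d ∈ D, algebraMap A (FractionRing S) a * x = algebraMap S (FractionRing S) d))
  (hle : A' ≤ D') (ι : D →ₐ[A] D') (hι : ∀ d : D, (ι d : (FractionRing S)) = algebraMap S (FractionRing S) d)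
  (G : D' →ₐ[A] A' ⊗[A] S) (hG : ∀ x, muS A' (G x) = (x : FractionRing S))
  {k' : Type u} [Field k'] [Algebra (ResidueField A) k'] (f₀ : A' →+* k') (hf₀ : Function.Surjective f₀)
  (hf₀A : ∀ a : A, f₀ (algebraMap A A' a) = algebraMap (ResidueField A) k' (residue A a))

include hA' hD' hle hι hG hf₀ hf₀A in
/-- With extended minimal primes every embedding of the separable residual closure lands in the residue field. -/
theorem embeds_of_extended [Module.Finite A D] [Algebra.Etale A D]
    (hext : ∀ Q ∈ minimalPrimes S, Q = Ideal.map (algebraMap D S) (Q.comap (algebraMap D S)))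
    [Algebra.IsAlgebraic (ResidueField A) k']
    (φ : separableClosure (ResidueField A) k' →ₐ[ResidueField A] ResidueField S)
    (y : separableClosure (ResidueField A) k') : ∃ d ∈ D, residue S d = φ y := by
  classical
  let Ω := AlgebraicClosure (ResidueField S)
  let φΩ : separableClosure (ResidueField A) k' →ₐ[ResidueField A] Ω :=
    (IsScalarTower.toAlgHom (ResidueField A) (ResidueField S) Ω).comp φ
  letI : Algebra (separableClosure (ResidueField A) k') Ω := φΩ.toRingHom.toAlgebra
  haveI : Algebra.IsAlgebraic (separableClosure (ResidueField A) k') k' :=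
    Algebra.IsAlgebraic.tower_top (K := ResidueField A) _
  let Φ : k' →ₐ[separableClosure (ResidueField A) k'] Ω := IsAlgClosed.lift
  have hΦ : ∀ z : separableClosure (ResidueField A) k', Φ (z : k') = φΩ z := fun z => Φ.commutes z
  have hΦk : ∀ c, Φ (algebraMap (ResidueField A) k' c) = algebraMap (ResidueField A) Ω c := fun c => by
    rw [show algebraMap (ResidueField A) k' c =
      ((algebraMap (ResidueField A) (separableClosure (ResidueField A) k') c : separableClosure (ResidueField A) k') : k')
      from rfl, hΦ, AlgHom.commutes]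
  have hkΩ : ∀ a : A, algebraMap A Ω a = algebraMap (ResidueField A) Ω (residue A a) := fun a => by
    rw [IsScalarTower.algebraMap_apply A (ResidueField S) Ω, IsScalarTower.algebraMap_apply (ResidueField A) (ResidueField S) Ω]
    rfl
  let θ₁ : A' →ₐ[A] Ω :=
    { (Φ : k' →+* Ω).comp f₀ with
      commutes' := fun a => by
        change Φ (f₀ (algebraMap A A' a)) = _
        rw [hf₀A, hΦk, hkΩ] }
  let θ₂ : S →ₐ[A] Ω := IsScalarTower.toAlgHom A S Ω
  let θ := Algebra.TensorProduct.productMap θ₁ θ₂
  haveI := isIntegral_normA A' hA'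
  haveI := isIntegral_residue (A := A) (S := S)
  haveI : (RingHom.ker θ).IsPrime := RingHom.ker_isPrime θ
  have hθS : ∀ s : S, θ ((1 : A') ⊗ₜ[A] s) = algebraMap (ResidueField S) Ω (residue S s) := fun s => by
    rw [Algebra.TensorProduct.productMap_apply_tmul, map_one, one_mul]
    exact IsScalarTower.algebraMap_apply S (ResidueField S) Ω s
  have hmax : (RingHom.ker θ).IsMaximal :=
    (isMaximal_tensor (A := A) (T := A') (U := S) (maximalIdeal S) G (RingHom.ker θ) (fun t ht => by
      change θ ((1 : A') ⊗ₜ[A] t) = 0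
      rw [hθS, (residue_eq_zero_iff t).2 ht, map_zero]) (fun a ha => by
      change θ (algebraMap A (A' ⊗[A] S) a) = 0
      rw [θ.commutes, hkΩ, (residue_eq_zero_iff a).2 ha, map_zero])).1
  haveI := hmax
  haveI := isMaximal_comap_G A' hA' G (RingHom.ker θ)
  obtain ⟨l, _, _, π, hπs, hπ⟩ := exists_field_quot (A := A) (T := D') ((RingHom.ker θ).comap G)
  let f := (π : D' →+* l)
  have hker : RingHom.ker f = (RingHom.ker θ).comap G := Ideal.ext hπ
  have hD0 : ∀ d ∈ maximalIdeal D, (f.comp (ι : D →+* D')) d = 0 := fun d hd => by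
    rw [← comap_iota_maximal hD' ι hι ((RingHom.ker θ).comap G)] at hd
    exact (hπ _).2 hd
  let k₀ := Subfield.closure (Set.range (f.comp (ι : D →+* D')))
  have hk₀ : ∀ z, z ∈ k₀ ↔ ∃ d, f (ι d) = z := mem_closure_range _ hD0
  let σ : l →+* Ω := RingHom.liftOfSurjective f hπs ⟨θ.toRingHom.comp (G : D' →+* A' ⊗[A] S),
    fun x hx => by rw [hker] at hx; exact hx⟩
  have hσ : ∀ x, σ (f x) = θ (G x) := fun x => RingHom.liftOfRightInverse_comp_apply _ _ _ _ x
  obtain ⟨a, ha⟩ := hf₀ (y : k')
  let ρ : ResidueField A →+* k₀ := Ideal.Quotient.lift (maximalIdeal A)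
    ((f.comp (algebraMap A D')).codRestrict k₀ fun a => (hk₀ _).2 ⟨algebraMap A D a, by rw [AlgHom.commutes]; rfl⟩)
    fun a ha => Subtype.ext (σ.injective (by
      change σ (f (algebraMap A D' a)) = σ 0
      rw [hσ, G.commutes, θ.commutes, hkΩ, (residue_eq_zero_iff a).2 ha, map_zero, map_zero]))
  have hσy : σ (f (Subalgebra.inclusion hle a)) = φΩ y := by
    rw [hσ, G_inclusion A' hA' hle G hG, Algebra.TensorProduct.productMap_apply_tmul, map_one, mul_one]
    change Φ (f₀ a) = _
    rw [ha, hΦ]
  have hsep : IsSeparable k₀ (f (Subalgebra.inclusion hle a)) := by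
    have hy : (minpoly (ResidueField A) y).Separable := Algebra.IsSeparable.isSeparable (ResidueField A) y
    refine Polynomial.Separable.of_dvd (hy.map (f := ρ)) (minpoly.dvd _ _ (σ.injective ?_))
    rw [map_zero, Polynomial.aeval_def, Polynomial.eval₂_map, Polynomial.hom_eval₂, hσy]
    have hρ : σ.comp ((algebraMap k₀ l).comp ρ) = algebraMap (ResidueField A) Ω := RingHom.ext fun c => by
      obtain ⟨c, rfl⟩ := IsLocalRing.residue_surjective c
      change σ (f (algebraMap A D' c)) = _
      rw [hσ, G.commutes, θ.commutes, hkΩ]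
    rw [hρ, ← Polynomial.aeval_def, Polynomial.aeval_algHom_apply, minpoly.aeval, map_zero]
  have hmem := mem_of_isSeparable hA' hD' hle ι hι G hG hext ((RingHom.ker θ).comap G) f hπs hker k₀ hk₀ _ hsep
  obtain ⟨d, hd⟩ := (hk₀ _).1 hmem
  refine ⟨d, d.2, (algebraMap (ResidueField S) Ω).injective ?_⟩
  rw [← hθS]
  have h2 : θ (G (ι d)) = φΩ y := by rw [← hσ, hd, hσy]
  rw [G_iota A' hA' ι hι G hG d] at h2
  exact h2

include hA' hD' hle hι hG hf₀ hf₀A in
/-- If every embedding of the separable residual closure lands in the residue field, residues are purely inseparable. -/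
theorem pure_of_embeds [Module.Finite A D] [Algebra.Etale A D] [Algebra.IsAlgebraic (ResidueField A) k'] [IsLocalRing A']
    (q : ℕ) [ExpChar (ResidueField A) q]
    (hemb : ∀ φ : separableClosure (ResidueField A) k' →ₐ[ResidueField A] ResidueField S, ∀ y, ∃ d ∈ D, residue S d = φ y)
    (N : Ideal D') (hN : N.IsMaximal) (x : D') : ∃ n : ℕ, ∃ d : D, x ^ q ^ n - ι d ∈ N := by
  classical
  haveI := hN
  obtain ⟨P, hP, hPN⟩ := exists_maximal_overH hA' G hG N
  haveI := hP
  obtain ⟨K, _, _, π, -, hπ⟩ := exists_field_quot (A := A) (T := A' ⊗[A] S) P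
  obtain ⟨h1, h2, h3⟩ := maximal_data A' hA' P
  let τ : ResidueField S →+* K := Ideal.Quotient.lift (maximalIdeal S)
    (π.comp (Algebra.TensorProduct.includeRight : S →ₐ[A] A' ⊗[A] S)).toRingHom fun s hs => (hπ _).2 (h1 hs)
  have hker₀ : RingHom.ker f₀ = maximalIdeal A' :=
    IsLocalRing.eq_maximalIdeal (RingHom.ker_isMaximal_of_surjective f₀ hf₀)
  have hkill : RingHom.ker f₀ ≤ RingHom.ker ((π.comp
      (Algebra.TensorProduct.includeLeft : A' →ₐ[A] A' ⊗[A] S)).toRingHom) := fun a ha => by
    rw [hker₀, ← IsLocalRing.jacobson_eq_maximalIdeal (⊥ : Ideal A') bot_ne_top] at ha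
    exact (hπ _).2 (h3 ha)
  let ψ : k' →+* K := RingHom.liftOfSurjective f₀ hf₀ ⟨_, hkill⟩
  have hψ : ∀ a, ψ (f₀ a) = π (a ⊗ₜ[A] (1 : S)) := fun a => RingHom.liftOfRightInverse_comp_apply _ _ _ _ a
  letI : Algebra (ResidueField A) K := (ψ.comp (algebraMap (ResidueField A) k')).toAlgebra
  have hkK : ∀ c, algebraMap (ResidueField A) K c = τ (algebraMap (ResidueField A) (ResidueField S) c) := fun c => by
    obtain ⟨c, rfl⟩ := IsLocalRing.residue_surjective c
    change ψ (algebraMap (ResidueField A) k' (residue A c)) = π ((1 : A') ⊗ₜ[A] (algebraMap A S c))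
    rw [← hf₀A, hψ, Algebra.algebraMap_eq_smul_one, Algebra.algebraMap_eq_smul_one, TensorProduct.smul_tmul]
  let L := separableClosure (ResidueField A) k'
  let ψL : L →ₐ[ResidueField A] K := { ψ.comp (algebraMap L k') with commutes' := fun c => rfl }
  haveI : IsSepClosure (ResidueField A) (ResidueField S) := Hensel.IsStrictHenselization.isSepClosure
  haveI : IsSepClosed (ResidueField S) := IsSepClosure.sep_closed (ResidueField A)
  let τ' : ResidueField S →ₐ[ResidueField A] K := { τ with commutes' := fun c => (hkK c).symm }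
  have hrange : ∀ y, ψL y ∈ τ'.range := fun y => mem_range_of_isSeparable τ (fun c => ⟨_, (hkK c).symm⟩) (by
    have hy := Algebra.IsSeparable.isSeparable (ResidueField A) y
    unfold IsSeparable at hy ⊢
    rwa [minpoly.algHom_eq ψL ψL.injective])
  let e := AlgEquiv.ofInjective τ' τ'.injective
  let φ : L →ₐ[ResidueField A] ResidueField S := e.symm.toAlgHom.comp (ψL.codRestrict τ'.range hrange)
  have hφ : ∀ y, τ (φ y) = ψL y := fun y => congrArg Subtype.val (e.apply_symm_apply ⟨ψL y, hrange y⟩)
  haveI : ExpChar L q := expChar_of_injective_ringHom (algebraMap (ResidueField A) L).injective q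
  haveI : IsPurelyInseparable L k' := separableClosure.isPurelyInseparable (ResidueField A) k'
  haveI : ExpChar K q := expChar_of_injective_ringHom (algebraMap (ResidueField A) K).injective q
  let ρ : D →+* K := (π.comp ((Algebra.TensorProduct.includeRight : S →ₐ[A] A' ⊗[A] S).comp D.val)).toRingHom
  have key : ∀ z : A' ⊗[A] D, ∃ n : ℕ, ∃ d : D,
      π (Algebra.TensorProduct.map (AlgHom.id A A') D.val z) ^ q ^ n = ρ d := fun z => by
    induction z using TensorProduct.induction_on with
    | zero => exact ⟨0, 0, by simp⟩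
    | add z z' hz hz' =>
      obtain ⟨n, d, h⟩ := hz
      obtain ⟨m, d', h'⟩ := hz'
      exact ⟨n + m, d ^ q ^ m + d' ^ q ^ n, by rw [map_add, map_add]; exact exists_pow_add q ρ h h'⟩
    | tmul a d =>
      obtain ⟨n, y, hy⟩ := (isPurelyInseparable_iff_pow_mem L q).1 inferInstance (f₀ a)
      obtain ⟨d₁, hd₁, hres⟩ := hemb φ y
      refine ⟨n, ⟨d₁, hd₁⟩ * d ^ q ^ n, ?_⟩
      have ha : π (a ⊗ₜ[A] (1 : S)) ^ q ^ n = ρ ⟨d₁, hd₁⟩ := by
        rw [← hψ, ← map_pow, ← hy]
        change ψL y = τ (residue S d₁)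
        rw [hres, hφ]
      rw [Algebra.TensorProduct.map_tmul, AlgHom.id_apply,
        show a ⊗ₜ[A] (D.val d) = (a ⊗ₜ[A] (1 : S)) * ((1 : A') ⊗ₜ[A] (d : S)) by
          rw [Algebra.TensorProduct.tmul_mul_tmul, mul_one, one_mul]; rfl, map_mul, mul_pow, ha, map_mul, map_pow]
      rfl
  obtain ⟨w, hw⟩ := G_mem_range hA' hD' hle ι hι G hG x
  obtain ⟨n, d, hd⟩ := key w
  refine ⟨n, d, ?_⟩
  rw [← hPN, Ideal.mem_comap, ← hπ, map_sub, map_pow, G_iota A' hA' ι hι G hG d, map_sub, map_pow, sub_eq_zero, ← hw]
  exact hd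

include hA' in
/-- The normalization of the base inside the strict henselization is the integral closure. -/
theorem exists_normA_equiv :
    ∃ g : integralClosure A (FractionRing A) →ₐ[A] A', Function.Bijective g := by
  have hu : ∀ s : nonZeroDivisors A, IsUnit (algebraMap A (FractionRing S) s) := fun s => isUnit_algebraMap_frac s.2
  let ψ : FractionRing A →ₐ[A] FractionRing S :=
    IsLocalization.liftAlgHom (M := nonZeroDivisors A) (f := Algebra.ofId A (FractionRing S)) hu
  have hψ : Function.Injective ψ := by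
    refine (injective_iff_map_eq_zero _).2 fun z hz => ?_
    obtain ⟨b, a, rfl⟩ := IsLocalization.exists_mk'_eq (nonZeroDivisors A) z
    have hb : algebraMap A (FractionRing S) b = 0 := by
      rw [← AlgHom.commutes ψ, ← IsLocalization.mk'_spec (FractionRing A) b a, map_mul, hz, zero_mul]
    haveI : Module.FaithfullyFlat A S := Groth.Agent.S0539.result A S
    rw [IsScalarTower.algebraMap_apply A S (FractionRing S)] at hb
    have hb0 : b = 0 := FaithfulSMul.algebraMap_injective A S
      ((IsFractionRing.injective S (FractionRing S) (hb.trans (map_zero _).symm)).trans (map_zero _).symm)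
    rw [hb0, IsLocalization.mk'_zero]
  let g : integralClosure A (FractionRing A) →ₐ[A] A' := (ψ.comp (integralClosure A (FractionRing A)).val).codRestrict A'
    fun y => (hA' _).2 ⟨(y.2 : IsIntegral A y.1).map ψ, by
      obtain ⟨b, a, hab⟩ := IsLocalization.exists_mk'_eq (nonZeroDivisors A) (y : FractionRing A)
      refine ⟨a, a.2, b, ?_⟩
      change algebraMap A _ (a : A) * ψ y.1 = _
      rw [← AlgHom.commutes ψ (a : A), ← map_mul, ← hab, mul_comm, IsLocalization.mk'_spec, AlgHom.commutes]⟩
  refine ⟨g, fun x y h => Subtype.ext (hψ (congrArg Subtype.val h)), fun x => ?_⟩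
  obtain ⟨hx, a, ha, b, hab⟩ := (hA' _).1 x.2
  have hy : ψ (IsLocalization.mk' (FractionRing A) b ⟨a, ha⟩) = (x : FractionRing S) := by
    apply (isUnit_algebraMap_frac (S := S) ha).mul_left_cancel
    rw [hab, ← AlgHom.commutes ψ a, ← map_mul, mul_comm, IsLocalization.mk'_spec, AlgHom.commutes]
  exact ⟨⟨_, (isIntegral_algHom_iff ψ hψ).1 (hy.symm ▸ hx)⟩, Subtype.ext hy⟩

end SHSubLib
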