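import Groth.Agent.SHSubLib.Bounds
import Mathlib

/-! Descent of unramifiedness from the residue rings of a normalization. -/

set_option autoImplicit false
set_option maxHeartbeats 1600000
set_option synthInstance.maxHeartbeats 400000

universe u

open IsLocalRing TensorProduct

namespace SHSubLib

variable {A B U R D : Type u} [CommRing A] [IsLocalRing A] [CommRing B] [Algebra A B] [Module.Finite A B]
  [CommRing U] [IsLocalRing U] [Algebra A U] [Module.Flat A U]
  [CommRing D] [IsLocalRing D] [Algebra A D] [CommRing R] [Algebra A R]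

omit [Module.Finite A B] [IsLocalRing D] [Algebra A D] [Module.Flat A U] [IsLocalRing U] [IsLocalRing A] in
/-- The Jacobson radical descends along a faithfully flat map matching maximal ideals. -/
theorem jacobson_eq_map (inc : B →ₐ[A] R) (g : R →ₐ[A] B ⊗[A] U) (hgB : ∀ b, g (inc b) = b ⊗ₜ 1)
    (hff : letI := g.toRingHom.toAlgebra; Module.FaithfullyFlat R (B ⊗[A] U))
    (hMN : ∀ M : Ideal (B ⊗[A] U), M.IsMaximal → (M.comap g).IsMaximal)
    (hNM : ∀ N : Ideal R, N.IsMaximal → ∃ M : Ideal (B ⊗[A] U), M.IsMaximal ∧ M.comap g = N)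
    (hjac : Ideal.jacobson (R := B ⊗[A] U) ⊥ =
      Ideal.map (S := B ⊗[A] U) (Algebra.TensorProduct.includeLeft : B →ₐ[A] B ⊗[A] U)
        (Ideal.jacobson (⊥ : Ideal B))) :
    Ideal.jacobson (⊥ : Ideal R) = (Ideal.jacobson (⊥ : Ideal B)).map inc := by
  have h1 : Ideal.map g ((Ideal.jacobson (⊥ : Ideal B)).map inc) = Ideal.jacobson (R := B ⊗[A] U) ⊥ := by
    rw [hjac]
    refine le_antisymm (Ideal.map_le_iff_le_comap.2 (Ideal.map_le_iff_le_comap.2 fun b hb => ?_))
      (Ideal.map_le_iff_le_comap.2 fun b hb => ?_)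
    · rw [Ideal.mem_comap, Ideal.mem_comap, hgB]
      exact Ideal.mem_map_of_mem _ hb
    · rw [Ideal.mem_comap, Algebra.TensorProduct.includeLeft_apply, ← hgB]
      exact Ideal.mem_map_of_mem _ (Ideal.mem_map_of_mem _ hb)
  refine le_antisymm (fun x hx => ?_) (Ideal.map_le_iff_le_comap.2 fun b hb => Ideal.mem_sInf.2 fun {N} hN => ?_)
  · have h2 : g x ∈ Ideal.jacobson (R := B ⊗[A] U) ⊥ :=
      Ideal.mem_sInf.2 fun {M} hM => Ideal.mem_sInf.1 hx ⟨bot_le, hMN M hM.2⟩
    rw [← h1] at h2
    letI := g.toRingHom.toAlgebra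
    haveI := hff
    rw [← Ideal.comap_map_eq_self_of_faithfullyFlat (B := B ⊗[A] U) ((Ideal.jacobson (⊥ : Ideal B)).map inc)]
    exact h2
  · obtain ⟨M, hM, hMN'⟩ := hNM N hN.2
    rw [← hMN']
    change g (inc b) ∈ M
    rw [hgB]
    have h3 : b ⊗ₜ[A] (1 : U) ∈ Ideal.jacobson (R := B ⊗[A] U) ⊥ := by
      rw [hjac]; exact Ideal.mem_map_of_mem _ hb
    exact Ideal.mem_sInf.1 h3 ⟨bot_le, hM⟩

/-- A residue criterion forcing the maximal ideal of the base to generate the maximal ideal. -/
theorem map_maximalIdeal_of_residue [IsNoetherianRing A] [IsNoetherianRing D] [IsLocalHom (algebraMap A D)]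
    [IsLocalHom (algebraMap A U)] [Module.Finite A (ResidueField U)]
    (hmU : (maximalIdeal A).map (algebraMap A U) = maximalIdeal U)
    (inc : B →ₐ[A] R) (ι : D →ₐ[A] R) (j : D →ₐ[A] U) (hj : IsLocalHom (j : D →+* U))
    (hιinj : Function.Injective ι) (hιfin : letI := ι.toRingHom.toAlgebra; Module.Finite D R)
    (g : R →ₐ[A] B ⊗[A] U) (hgB : ∀ b, g (inc b) = b ⊗ₜ 1) (hgD : ∀ d, g (ι d) = (1 : B) ⊗ₜ j d)
    (hff : letI := g.toRingHom.toAlgebra; Module.FaithfullyFlat R (B ⊗[A] U))
    (hMN : ∀ M : Ideal (B ⊗[A] U), M.IsMaximal → (M.comap g).IsMaximal)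
    (hNM : ∀ N : Ideal R, N.IsMaximal → ∃ M : Ideal (B ⊗[A] U), M.IsMaximal ∧ M.comap g = N)
    (hjac : Ideal.jacobson (R := B ⊗[A] U) ⊥ =
      Ideal.map (S := B ⊗[A] U) (Algebra.TensorProduct.includeLeft : B →ₐ[A] B ⊗[A] U)
        (Ideal.jacobson (⊥ : Ideal B)))
    (hιmax : ∀ d ∈ maximalIdeal D, ι d ∈ Ideal.jacobson (⊥ : Ideal R))
    (hsurj : Function.Surjective ((Ideal.Quotient.mkₐ A (Ideal.jacobson (⊥ : Ideal R))).comp
      (Algebra.TensorProduct.productMap inc ι))) :
    (maximalIdeal A).map (algebraMap A D) = maximalIdeal D := by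
  classical
  set J := Ideal.jacobson (⊥ : Ideal B) with hJdef
  have hJR : Ideal.jacobson (⊥ : Ideal R) = J.map inc := jacobson_eq_map inc g hgB hff hMN hNM hjac
  have hmB : (maximalIdeal A).map (algebraMap A B) ≤ J :=
    Ideal.map_le_iff_le_comap.2 fun a ha => Ideal.mem_sInf.2 fun {M} hM => by
      haveI := hM.2
      have h : M.comap (algebraMap A B) = maximalIdeal A :=
        IsLocalRing.eq_maximalIdeal (by exact Ideal.isMaximal_comap_of_isIntegral_of_isMaximal (R := A) (S := B) M)
      rw [← h] at ha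
      exact ha
  letI : Algebra B R := inc.toRingHom.toAlgebra
  haveI : IsScalarTower A B R := IsScalarTower.of_algebraMap_eq fun a => (inc.commutes a).symm
  letI : Algebra D R := ι.toRingHom.toAlgebra
  haveI : IsScalarTower A D R := IsScalarTower.of_algebraMap_eq fun a => (ι.commutes a).symm
  haveI : Module.Finite D R := hιfin
  haveI := hj
  -- residue fields
  haveI : Module.Finite (ResidueField A) (ResidueField U) :=
    Module.Finite.of_restrictScalars_finite A (ResidueField A) (ResidueField U)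
  let fk : ResidueField D →ₗ[ResidueField A] ResidueField U :=
    { toFun := ResidueField.map (j : D →+* U)
      map_add' := map_add _
      map_smul' := fun c x => by
        obtain ⟨a, rfl⟩ := IsLocalRing.residue_surjective c
        simp only [Algebra.smul_def, RingHom.id_apply, map_mul]
        congr 1
        change residue U (j (algebraMap A D a)) = residue U (algebraMap A U a)
        rw [AlgHom.commutes] }
  have hfk : Function.Injective fk := (ResidueField.map (j : D →+* U)).injective
  haveI : Module.Finite (ResidueField A) (ResidueField D) := Module.Finite.of_injective fk hfk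
  let bD := Module.finBasis (ResidueField A) (ResidueField D)
  obtain ⟨W, hW⟩ := Submodule.exists_isCompl (LinearMap.range fk)
  let bE := ((bD.map (LinearEquiv.ofInjective fk hfk)).prod (Module.finBasis (ResidueField A) W)).map
    (Submodule.prodEquivOfIsCompl _ _ hW)
  have hbE : ∀ i, bE (Sum.inl i) = fk (bD i) := fun i => by
    simp [bE, Module.Basis.prod_apply, Submodule.coe_prodEquivOfIsCompl']
  choose b hb using fun i => IsLocalRing.residue_surjective (bD i)
  choose e' he' using fun l => IsLocalRing.residue_surjective (bE (Sum.inr l))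
  let e : _ → U := Sum.elim (fun i => j (b i)) e'
  have he : ∀ l, residue U (e l) = bE l := by
    rintro (i | l)
    · rw [hbE, ← hb i]; rfl
    · exact he' l
  -- functionals
  let k2 : ResidueField A →ₐ[A] B ⧸ J :=
    Ideal.Quotient.liftₐ (maximalIdeal A) ((Ideal.Quotient.mkₐ A J).comp (Algebra.ofId A B)) fun a ha =>
      Ideal.Quotient.eq_zero_iff_mem.2 (hmB (Ideal.mem_map_of_mem _ ha))
  let φ : _ → B ⊗[A] U →ₗ[B] B ⧸ J := fun l =>
    (k2.toLinearMap ∘ₗ (bE.coord l).restrictScalars A ∘ₗ
      (IsScalarTower.toAlgHom A U (ResidueField U)).toLinearMap).liftBaseChange B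
  have hφ : ∀ i l, φ l ((1 : B) ⊗ₜ e i) = if i = l then 1 else 0 := fun i l => by
    simp only [φ, LinearMap.liftBaseChange_tmul, one_smul, LinearMap.comp_apply,
      LinearMap.restrictScalars_apply, AlgHom.toLinearMap_apply]
    rw [show (IsScalarTower.toAlgHom A U (ResidueField U)) (e i) = bE i from he i, Module.Basis.coord_apply,
      Module.Basis.repr_self, Finsupp.single_apply]
    split_ifs <;> simp
  -- spanning
  let V : Submodule B R := Submodule.span B (Set.range fun i => ι (b i))
  have hmem : ∀ x : R, x ∈ Ideal.jacobson (⊥ : Ideal R) → x ∈ J • (⊤ : Submodule B R) := fun x hx => by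
    rw [Ideal.smul_top_eq_map]
    rw [hJR] at hx
    exact hx
  have hV : V ⊔ J • ⊤ = ⊤ := by
    refine eq_top_iff.2 fun x _ => ?_
    obtain ⟨z, hz⟩ := hsurj (Ideal.Quotient.mk _ x)
    have hr : x - Algebra.TensorProduct.productMap inc ι z ∈ Ideal.jacobson (⊥ : Ideal R) :=
      Ideal.Quotient.eq.1 hz.symm
    rw [← sub_add_cancel x (Algebra.TensorProduct.productMap inc ι z)]
    refine add_mem (Submodule.mem_sup_right (hmem _ hr)) ?_
    clear hr hz
    induction z using TensorProduct.induction_on with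
    | zero => rw [map_zero]; exact zero_mem _
    | add z z' hz hz' => rw [map_add]; exact add_mem hz hz'
    | tmul c d =>
      rw [Algebra.TensorProduct.productMap_apply_tmul]
      change c • ι d ∈ _
      refine Submodule.smul_mem _ c ?_
      choose a ha using fun i => IsLocalRing.residue_surjective (bD.repr (residue D d) i)
      have hd : d - ∑ i, a i • b i ∈ maximalIdeal D := by
        rw [← IsLocalRing.residue_eq_zero_iff, map_sub, sub_eq_zero]
        conv_lhs => rw [← bD.sum_repr (residue D d)]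
        rw [map_sum]
        refine Finset.sum_congr rfl fun i _ => ?_
        rw [← ha, ← hb, Algebra.smul_def, Algebra.smul_def, map_mul]
        rfl
      rw [← sub_add_cancel (ι d) (ι (∑ i, a i • b i)), ← map_sub]
      refine add_mem (Submodule.mem_sup_right (hmem _ (hιmax _ hd))) (Submodule.mem_sup_left ?_)
      rw [map_sum]
      refine sum_mem fun i _ => ?_
      rw [map_smul, ← algebraMap_smul B (a i) (ι (b i))]
      exact Submodule.smul_mem _ _ (Submodule.subset_span ⟨i, rfl⟩)
  have hU : Submodule.span A (Set.range e) ⊔ maximalIdeal A • ⊤ = ⊤ := by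
    refine eq_top_iff.2 fun u _ => ?_
    choose a ha using fun l => IsLocalRing.residue_surjective (bE.repr (residue U u) l)
    have hu : u - ∑ l, a l • e l ∈ maximalIdeal U := by
      rw [← IsLocalRing.residue_eq_zero_iff, map_sub, sub_eq_zero]
      conv_lhs => rw [← bE.sum_repr (residue U u)]
      rw [map_sum]
      refine Finset.sum_congr rfl fun l _ => ?_
      rw [← ha, ← he, Algebra.smul_def, Algebra.smul_def, map_mul]
      rfl
    rw [← sub_add_cancel u (∑ l, a l • e l)]
    refine add_mem (Submodule.mem_sup_right ?_)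
      (Submodule.mem_sup_left (sum_mem fun l _ => Submodule.smul_mem _ _ (Submodule.subset_span ⟨l, rfl⟩)))
    rw [Ideal.smul_top_eq_map, hmU]
    exact hu
  -- conclusion
  refine le_antisymm (Ideal.map_le_iff_le_comap.2 fun a ha => ?_) fun δ hδ => ?_
  · exact fun hu => ha (isUnit_of_map_unit (algebraMap A D) a hu)
  suffices h : ∀ n : ℕ, ∃ y ∈ (maximalIdeal A).map (algebraMap A D), δ - y ∈ maximalIdeal D ^ n by
    have h0 : Ideal.Quotient.mk ((maximalIdeal A).map (algebraMap A D)) δ ∈
        (⊥ : Submodule D (D ⧸ (maximalIdeal A).map (algebraMap A D))) := by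
      rw [← Ideal.iInf_pow_smul_eq_bot_of_isLocalRing (maximalIdeal D) (maximalIdeal.isMaximal D).ne_top,
        Submodule.mem_iInf]
      intro n
      obtain ⟨y, hy, hyn⟩ := h n
      have h1 : Ideal.Quotient.mk ((maximalIdeal A).map (algebraMap A D)) δ = (δ - y) • 1 := by
        rw [Algebra.smul_def, mul_one, Ideal.Quotient.algebraMap_eq, map_sub, Ideal.Quotient.eq_zero_iff_mem.2 hy,
          sub_zero]
      rw [h1]
      exact Submodule.smul_mem_smul hyn Submodule.mem_top
    exact Ideal.Quotient.eq_zero_iff_mem.1 ((Submodule.mem_bot D).1 h0)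
  intro n
  obtain ⟨c, hc⟩ := exists_comap_pow_le (R := D) (M := R) (N := D) (Algebra.linearMap D R) hιinj (maximalIdeal D)
  obtain ⟨t, ht⟩ := exists_jacobson_pow_le D (B := R)
  set s := t * (n + c) + 1 with hs
  have hxV : ι δ ∈ V ⊔ J ^ s • (⊤ : Submodule B R) := by rw [sup_pow_smul_eq_top hV]; exact Submodule.mem_top
  obtain ⟨v, hv, ρ, hρ, hvρ⟩ := Submodule.mem_sup.1 hxV
  obtain ⟨α, hα⟩ := (Submodule.mem_span_range_iff_exists_fun B).1 hv
  have hxU : j δ ∈ Submodule.span A (Set.range e) ⊔ maximalIdeal A ^ s • (⊤ : Submodule A U) := by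
    rw [sup_pow_smul_eq_top hU]; exact Submodule.mem_top
  obtain ⟨w, hw, η, hη, hwη⟩ := Submodule.mem_sup.1 hxU
  obtain ⟨a, ha⟩ := (Submodule.mem_span_range_iff_exists_fun A).1 hw
  have hgsmul : ∀ (q : B) (x : R), g (q • x) = q • g x := fun q x => by
    rw [Algebra.smul_def, Algebra.smul_def, map_mul]
    congr 1
    exact hgB q
  have hgρ : g ρ ∈ J ^ s • (⊤ : Submodule B (B ⊗[A] U)) := by
    refine Submodule.smul_induction_on hρ (fun q hq x _ => ?_) fun x y hx hy => ?_
    · rw [hgsmul]; exact Submodule.smul_mem_smul hq Submodule.mem_top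
    · rw [map_add]; exact add_mem hx hy
  have hη' : (1 : B) ⊗ₜ[A] η ∈ J ^ s • (⊤ : Submodule B (B ⊗[A] U)) := by
    refine Submodule.smul_induction_on hη (fun q hq x _ => ?_) fun x y hx hy => ?_
    · rw [TensorProduct.tmul_smul, ← algebraMap_smul B q]
      refine Submodule.smul_mem_smul ?_ Submodule.mem_top
      have h := Ideal.mem_map_of_mem (algebraMap A B) hq
      rw [Ideal.map_pow] at h
      exact Ideal.pow_right_mono hmB s h
    · rw [TensorProduct.tmul_add]; exact add_mem hx hy
  let β : _ → B := fun l => Sum.elim α (fun _ => (0 : B)) l - algebraMap A B (a l)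
  have hβ : ∑ l, β l • ((1 : B) ⊗ₜ[A] e l) ∈ J ^ s • (⊤ : Submodule B (B ⊗[A] U)) := by
    have h1 : g v = ∑ l, (Sum.elim α (fun _ => (0 : B)) l) • ((1 : B) ⊗ₜ[A] e l) := by
      rw [← hα, map_sum, Fintype.sum_sum_type]
      simp only [Sum.elim_inl, Sum.elim_inr, zero_smul, Finset.sum_const_zero, add_zero, hgsmul, hgD]
      rfl
    have h2 : (1 : B) ⊗ₜ[A] w = ∑ l, algebraMap A B (a l) • ((1 : B) ⊗ₜ[A] e l) := by
      rw [← ha, TensorProduct.tmul_sum]
      simp only [TensorProduct.tmul_smul, algebraMap_smul]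
    have h3 : ∑ l, β l • ((1 : B) ⊗ₜ[A] e l) = (1 : B) ⊗ₜ[A] η - g ρ := by
      simp only [β, sub_smul]
      rw [Finset.sum_sub_distrib, ← h1, ← h2, show v = ι δ - ρ from eq_sub_of_add_eq hvρ,
        show w = j δ - η from eq_sub_of_add_eq hwη, map_sub, hgD, TensorProduct.tmul_sub]
      abel
    rw [h3]
    exact sub_mem hη' hgρ
  have hcoef : ∀ l, β l ∈ J ^ s := coeff_mem_of_flat J (J ^ s) le_rfl (fun l => (1 : B) ⊗ₜ[A] e l) φ hφ β hβ
  have ham : ∀ l, a l ∈ maximalIdeal A := by
    have hη0 : residue U η = 0 := by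
      rw [IsLocalRing.residue_eq_zero_iff, ← hmU]
      have h := Ideal.smul_top_eq_map (R := A) (S := U) (maximalIdeal A ^ s) ▸ hη
      exact Ideal.map_mono (Ideal.pow_le_self (by omega)) h
    have h0 : residue U (j δ) = 0 := (IsLocalRing.residue_eq_zero_iff _).2 fun hu => hδ (hj.map_nonunit δ hu)
    have hsum : ∑ l, residue A (a l) • bE l = 0 := by
      have h1 : residue U w = 0 := by
        rw [eq_sub_of_add_eq hwη, map_sub, h0, hη0, sub_zero]
      rw [← h1, ← ha, map_sum]
      refine Finset.sum_congr rfl fun l _ => ?_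
      rw [← he, Algebra.smul_def, Algebra.smul_def, map_mul]
      rfl
    intro l
    exact (IsLocalRing.residue_eq_zero_iff _).1 (Fintype.linearIndependent_iff.1 bE.linearIndependent _ hsum l)
  refine ⟨∑ i, a (Sum.inl i) • b i, Ideal.sum_mem _ fun i _ => ?_, ?_⟩
  · rw [Algebra.smul_def]
    exact Ideal.mul_mem_right _ _ (Ideal.mem_map_of_mem _ (ham _))
  have hkey : ι (δ - ∑ i, a (Sum.inl i) • b i) ∈ J ^ s • (⊤ : Submodule B R) := by
    rw [map_sub, map_sum, ← hvρ, ← hα, add_sub_right_comm, ← Finset.sum_sub_distrib]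
    refine add_mem (sum_mem fun i _ => ?_) hρ
    rw [map_smul, ← algebraMap_smul B (a (Sum.inl i)) (ι (b i)), ← sub_smul]
    exact Submodule.smul_mem_smul (hcoef (Sum.inl i)) Submodule.mem_top
  suffices h5 : ι (δ - ∑ i, a (Sum.inl i) • b i) ∈ maximalIdeal D ^ (n + c) • (⊤ : Submodule D R) by
    have h6 : δ - ∑ i, a (Sum.inl i) • b i ∈ maximalIdeal D ^ n • (⊤ : Submodule D D) :=
      hc n (Submodule.mem_comap.2 h5)
    rwa [Ideal.smul_eq_mul, Ideal.mul_top] at h6
  rw [Ideal.smul_top_eq_map] at hkey ⊢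
  change _ ∈ Ideal.map (algebraMap D R) _
  rw [Ideal.map_pow]
  refine Ideal.pow_right_mono ht (n + c) ?_
  rw [← pow_mul, hJR]
  have h := Ideal.pow_le_pow_right (I := J.map inc) (show t * (n + c) ≤ s by omega)
  refine h ?_
  rw [← Ideal.map_pow]
  exact hkey

end SHSubLib
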