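import Groth.Agent.SHSubLib.InfNorm
import Groth.Agent.S0507
import Groth.Agent.S0508
import Groth.Agent.S0509
import Mathlib

/-! The residue conditions for intermediate algebras with ind-essentially etale henselization. -/

set_option autoImplicit false
set_option synthInstance.maxHeartbeats 400000
set_option maxHeartbeats 1600000

universe u

open IsLocalRing TensorProduct
open scoped nonZeroDivisors

namespace SHSubLib

/-- Elements are recovered in a base change from their fractions. -/
theorem eq_tmul_one_of_smul {D R C : Type u} [CommRing D] [CommRing R] [CommRing C] [Algebra D R] [Algebra D C]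
    [Module.Flat D C] (a d : D) (hreg : Function.Injective fun r : R => a • r) (x : R)
    (hx : a • x = algebraMap D R d) (w : R ⊗[D] C) (hw : a • w = (1 : R) ⊗ₜ algebraMap D C d) :
    w = x ⊗ₜ 1 := by
  have hinj : Function.Injective fun w : R ⊗[D] C => a • w := by
    have h := Module.Flat.rTensor_preserves_injective_linearMap (M := C) (LinearMap.lsmul D R a) hreg
    intro u v huv
    refine h ?_
    have key : ∀ z : R ⊗[D] C, LinearMap.rTensor C (LinearMap.lsmul D R a) z = a • z := fun z => by
      induction z using TensorProduct.induction_on with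
      | zero => simp
      | tmul r c => rw [LinearMap.rTensor_tmul, LinearMap.lsmul_apply, TensorProduct.smul_tmul']
      | add z z' hz hz' => rw [map_add, hz, hz', smul_add]
    rw [key, key]
    exact huv
  refine hinj ?_
  change a • w = a • (x ⊗ₜ (1 : C))
  rw [hw, TensorProduct.smul_tmul', hx, Algebra.algebraMap_eq_smul_one, Algebra.algebraMap_eq_smul_one,
    TensorProduct.smul_tmul]

variable {A S : Type u} [CommRing A] [IsLocalRing A] [IsReduced A] [CommRing S] [IsLocalRing S]
  [Algebra A S] [IsLocalHom (algebraMap A S)] [Hensel.IsStrictHenselization A S]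
variable {D : Subalgebra A S} [IsLocalRing D] [IsLocalHom (algebraMap D S)]
variable {A' D' : Subalgebra A (FractionRing S)}
  (hA' : ∀ x : (FractionRing S), x ∈ A' ↔ (IsIntegral A x ∧
      ∃ a ∈ nonZeroDivisors A, ∃ b : A, algebraMap A (FractionRing S) a * x = algebraMap A (FractionRing S) b))
  (hD' : ∀ x : (FractionRing S), x ∈ D' ↔ (IsIntegral D x ∧
      ∃ a ∈ nonZeroDivisors A, ∃ d ∈ D, algebraMap A (FractionRing S) a * x = algebraMap S (FractionRing S) d))
  (hle : A' ≤ D') (ι : D →ₐ[A] D') (hι : ∀ d : D, (ι d : (FractionRing S)) = algebraMap S (FractionRing S) d)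

/-- The pure algebra of the residue conditions. -/
theorem conditions_of_hom {A B D R k : Type u} [CommRing A] [IsLocalRing A] [CommRing B] [Algebra A B]
    [Module.Finite A B] [CommRing D] [IsLocalRing D] [Algebra A D] [CommRing R] [Algebra A R] [Field k] [Algebra A k]
    [IsLocalHom (algebraMap A k)] (res : D →ₐ[A] k) (hres : Function.Surjective res)
    (inc : B →ₐ[A] R) (ι : D →ₐ[A] R) (χ : R →ₐ[A] k ⊗[A] B) (hχB : ∀ b, χ (inc b) = (1 : k) ⊗ₜ b)
    (hχD : ∀ d, χ (ι d) = res d ⊗ₜ (1 : B))
    (hker : ∀ x, χ x = 0 → x ∈ Ideal.jacobson (⊥ : Ideal R))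
    (hkD : RingHom.ker res = maximalIdeal D)
    (hjac : ∀ y : k ⊗[A] B, (∀ P : Ideal (k ⊗[A] B), P.IsMaximal → y ∈ P) →
      y ∈ (Ideal.jacobson (⊥ : Ideal B)).map (Algebra.TensorProduct.includeRight : B →ₐ[A] k ⊗[A] B)) :
    {N : Ideal R | N.IsMaximal}.Finite ∧
      Function.Surjective ((Ideal.Quotient.mkₐ A (Ideal.jacobson (⊥ : Ideal R))).comp
        (Algebra.TensorProduct.productMap inc ι)) ∧
      RingHom.ker ((Ideal.Quotient.mkₐ A (Ideal.jacobson (⊥ : Ideal R))).comp
        (Algebra.TensorProduct.productMap inc ι)) =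
        (Ideal.jacobson (⊥ : Ideal B)).map (Algebra.TensorProduct.includeLeft : B →ₐ[A] B ⊗[A] D) ⊔
          (maximalIdeal D).map (Algebra.TensorProduct.includeRight : D →ₐ[A] B ⊗[A] D) := by
  set φ := Algebra.TensorProduct.productMap inc ι
  set J := Ideal.jacobson (⊥ : Ideal B)
  let q : B ⊗[A] D →ₐ[A] k ⊗[A] B :=
    (Algebra.TensorProduct.comm A B k).toAlgHom.comp (Algebra.TensorProduct.map (AlgHom.id A B) res)
  have hqφ : ∀ z, χ (φ z) = q z := fun z => by
    induction z using TensorProduct.induction_on with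
    | zero => simp
    | add z z' hz hz' => rw [map_add, map_add, map_add, hz, hz']
    | tmul b d =>
      rw [Algebra.TensorProduct.productMap_apply_tmul, map_mul, hχB, hχD, Algebra.TensorProduct.tmul_mul_tmul,
        one_mul, mul_one]
      rfl
  have hqsurj : Function.Surjective q := by
    refine (Algebra.TensorProduct.comm A B k).surjective.comp ?_
    exact TensorProduct.map_surjective Function.surjective_id hres
  have hχs : Function.Surjective χ := fun y => by
    obtain ⟨z, rfl⟩ := hqsurj y
    exact ⟨φ z, hqφ z⟩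
  haveI : Module.Finite k (k ⊗[A] B) := Module.Finite.base_change A k B
  haveI : IsArtinianRing (k ⊗[A] B) := IsArtinianRing.of_finite k (k ⊗[A] B)
  haveI : Finite (MaximalSpectrum (k ⊗[A] B)) := inferInstance
  have hfinC : {P : Ideal (k ⊗[A] B) | P.IsMaximal}.Finite :=
    (Set.finite_range fun M : MaximalSpectrum (k ⊗[A] B) => M.asIdeal).subset fun P hP => ⟨⟨P, hP⟩, rfl⟩
  have hNker : ∀ N : Ideal R, N.IsMaximal → RingHom.ker χ ≤ N := fun N hN x hx =>
    Ideal.mem_sInf.1 (hker x hx) ⟨bot_le, hN⟩
  have hfin : {N : Ideal R | N.IsMaximal}.Finite := by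
    refine (hfinC.image fun P => P.comap χ).subset fun N hN => ⟨N.map χ, ?_, ?_⟩
    · haveI : N.IsMaximal := hN
      refine (Ideal.map_eq_top_or_isMaximal_of_surjective χ hχs ‹_›).resolve_left fun htop => hN.ne_top ?_
      have h := congrArg (Ideal.comap χ) htop
      rw [Ideal.comap_map_of_surjective χ hχs, Ideal.comap_top, sup_eq_left.2] at h
      · exact h
      · exact fun x hx => hNker N hN hx
    · change Ideal.comap χ (Ideal.map χ N) = N
      rw [Ideal.comap_map_of_surjective χ hχs, sup_eq_left]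
      exact fun x hx => hNker N hN hx
  have hrad : ∀ x, x ∈ Ideal.jacobson (⊥ : Ideal R) ↔ ∀ P : Ideal (k ⊗[A] B), P.IsMaximal → χ x ∈ P := by
    refine fun x => ⟨fun hx P hP => ?_, fun h => Ideal.mem_sInf.2 fun {N} hN => ?_⟩
    · haveI := hP
      have hm : (P.comap χ).IsMaximal := Ideal.comap_isMaximal_of_surjective χ hχs
      exact (Ideal.mem_sInf.1 hx ⟨bot_le, hm⟩ :)
    · haveI := hN.2
      have hc : Ideal.comap χ (Ideal.map χ N) = N := by
        rw [Ideal.comap_map_of_surjective χ hχs, sup_eq_left]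
        exact fun y hy => hNker N hN.2 hy
      rw [← hc]
      refine h _ ((Ideal.map_eq_top_or_isMaximal_of_surjective χ hχs ‹_›).resolve_left fun htop => hN.2.ne_top ?_)
      rw [← hc, htop, Ideal.comap_top]
  haveI : Algebra.IsIntegral A B := Algebra.IsIntegral.of_finite A B
  have hJmem : ∀ P : Ideal (k ⊗[A] B), P.IsMaximal →
      J.map (Algebra.TensorProduct.includeRight : B →ₐ[A] k ⊗[A] B) ≤ P := fun P hP => by
    rw [Ideal.map_le_iff_le_comap]
    haveI := hP
    haveI : (P.comap (Algebra.TensorProduct.includeRight : B →ₐ[A] k ⊗[A] B)).IsPrime := Ideal.IsPrime.comap _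
    haveI : (P.comap (Algebra.TensorProduct.includeRight : B →ₐ[A] k ⊗[A] B)).IsMaximal := by
      refine isMaximal_of_integral_quot (A := A) _ inferInstance fun a ha => ?_
      rw [Ideal.mem_comap, Ideal.mem_comap, AlgHom.commutes]
      have h0 : algebraMap A k a = 0 := by
        by_contra h
        exact ha (isUnit_of_map_unit (algebraMap A k) a (isUnit_iff_ne_zero.2 h))
      rw [Algebra.TensorProduct.algebraMap_apply, h0, TensorProduct.zero_tmul]
      exact P.zero_mem
    exact fun b hb => Ideal.mem_sInf.1 hb ⟨bot_le, ‹_›⟩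
  refine ⟨hfin, fun y => ?_, ?_⟩
  · obtain ⟨x, rfl⟩ := Ideal.Quotient.mk_surjective y
    obtain ⟨z, hz⟩ := hqsurj (χ x)
    refine ⟨z, Ideal.Quotient.eq.2 (hker _ ?_)⟩
    rw [map_sub, sub_eq_zero]
    exact (hqφ z).trans hz
  have h1 : RingHom.ker ((Ideal.Quotient.mkₐ A (Ideal.jacobson (⊥ : Ideal R))).comp φ) =
      Ideal.comap q (J.map (Algebra.TensorProduct.includeRight : B →ₐ[A] k ⊗[A] B)) := by
    ext z
    rw [RingHom.mem_ker, AlgHom.comp_apply, Ideal.Quotient.mkₐ_eq_mk, Ideal.Quotient.eq_zero_iff_mem, hrad,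
      Ideal.mem_comap]
    simp only [hqφ]
    exact ⟨fun h => hjac _ h, fun h P hP => hJmem P hP h⟩
  have h2 : J.map (Algebra.TensorProduct.includeRight : B →ₐ[A] k ⊗[A] B) =
      (J.map (Algebra.TensorProduct.includeLeft : B →ₐ[A] B ⊗[A] D)).map q := by
    rw [Ideal.map_mapₐ]
    congr 1
    refine AlgHom.ext fun b => ?_
    change (1 : k) ⊗ₜ[A] b = res 1 ⊗ₜ[A] b
    rw [map_one]
  rw [h1, h2, Ideal.comap_map_of_surjective q hqsurj]
  congr 1
  have h3 : RingHom.ker (Algebra.TensorProduct.map (S := A) (AlgHom.id A B) res) =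
      (maximalIdeal D).map (Algebra.TensorProduct.includeRight : D →ₐ[A] B ⊗[A] D) := by
    have h := Algebra.TensorProduct.lTensor_ker (R := A) (A := B) res hres
    rw [hkD] at h
    exact h
  rw [← h3]
  ext z
  rw [Ideal.mem_comap, Ideal.mem_bot, RingHom.mem_ker]
  exact (Algebra.TensorProduct.comm A B k).map_eq_zero_iff

include hA' hD' hι in
/-- An ind-essentially etale henselization forces the residue conditions. -/
theorem conditions_of_indEssEt (hN : CAlg.IsNagata A) {Dh : Type u} [CommRing Dh] [IsLocalRing Dh] [Algebra D Dh]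
    [IsLocalHom (algebraMap D Dh)] [Hensel.IsHenselization D Dh] [Algebra Dh S] [IsScalarTower D Dh S]
    [IsLocalHom (algebraMap Dh S)]
    (hinj : Function.Injective (algebraMap Dh S))
    (hdir : ∀ s : Finset S, (s : Set S) ⊆ Set.range (algebraMap Dh S) →
      ∃ E : Subalgebra A S, (s : Set S) ⊆ (E : Set S) ∧ (E : Set S) ⊆ Set.range (algebraMap Dh S) ∧
        ∃ _ : IsLocalRing E, EGA4loc.IsEssentiallyEtale A E) :
    {N : Ideal D' | N.IsMaximal}.Finite ∧
      Function.Surjective ((Ideal.Quotient.mkₐ A (Ideal.jacobson (⊥ : Ideal D'))).comp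
        (Algebra.TensorProduct.productMap (Subalgebra.inclusion hle) ι)) ∧
      RingHom.ker ((Ideal.Quotient.mkₐ A (Ideal.jacobson (⊥ : Ideal D'))).comp
        (Algebra.TensorProduct.productMap (Subalgebra.inclusion hle) ι)) =
        (Ideal.jacobson (⊥ : Ideal A')).map
            (Algebra.TensorProduct.includeLeft : A' →ₐ[A] A' ⊗[A] D) ⊔
          (maximalIdeal D).map
            (Algebra.TensorProduct.includeRight : D →ₐ[A] A' ⊗[A] D) := by
  classical
  haveI := hN.1
  have hmin : (minimalPrimes A).Finite := minimalPrimes.finite_of_isNoetherianRing A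
  haveI := finite_normA A' hA' hN
  letI : Algebra A Dh := ((algebraMap D Dh).comp (algebraMap A D)).toAlgebra
  haveI : IsScalarTower A D Dh := IsScalarTower.of_algebraMap_eq' rfl
  let θ : Dh →ₐ[A] S :=
    { algebraMap Dh S with
      commutes' := fun a => by
        change algebraMap Dh S (algebraMap D Dh (algebraMap A D a)) = _
        rw [← IsScalarTower.algebraMap_apply D Dh S, ← IsScalarTower.algebraMap_apply] }
  have hθD : ∀ d : D, θ (algebraMap D Dh d) = (d : S) := fun d => (IsScalarTower.algebraMap_apply D Dh S d).symm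
  let ε := AlgEquiv.ofInjective θ hinj
  let κ : A' ⊗[A] Dh →ₐ[A] FractionRing S :=
    (muS A').comp (Algebra.TensorProduct.map (AlgHom.id A A') θ)
  -- levels
  have hlevel : ∀ s : Finset S, (s : Set S) ⊆ θ.range → ∃ (E : Subalgebra A S) (_ : IsLocalRing E)
      (ψ : E →ₐ[A] Dh), (s : Set S) ⊆ E ∧ IsLocalHom (algebraMap E S) ∧ EGA4loc.IsEssentiallyEtale A E ∧
        ∀ e, θ (ψ e) = (e : S) := fun s hs => by
    obtain ⟨E, hsE, hEr, hEl, hE⟩ := hdir s hs
    haveI := hEl
    let ψ : E →ₐ[A] Dh := ε.symm.toAlgHom.comp (Subalgebra.inclusion (fun y hy => hEr hy : E ≤ θ.range))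
    have hloc : IsLocalHom (algebraMap E S) := by
      refine ((IsLocalRing.local_hom_TFAE (algebraMap E S)).out 2 0).1 ?_
      rw [← HenselBranchLib.map_maximal_of_essEt hE, Ideal.map_map, ← IsScalarTower.algebraMap_eq]
      exact Ideal.map_le_iff_le_comap.2 fun a ha => fun hu => ha (isUnit_of_map_unit (algebraMap A S) a hu)
    exact ⟨E, hEl, ψ, hsE, hloc, hE, fun e => congrArg Subtype.val (ε.apply_symm_apply _)⟩
  have hcov : ∀ z : A' ⊗[A] Dh, ∃ s : Finset S, (s : Set S) ⊆ θ.range ∧ ∀ (E : Subalgebra A S) (ψ : E →ₐ[A] Dh),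
      (∀ e, θ (ψ e) = (e : S)) → (s : Set S) ⊆ E →
      ∃ w, Algebra.TensorProduct.map (AlgHom.id A A') ψ w = z := by
    intro z
    induction z using TensorProduct.induction_on with
    | zero => exact ⟨∅, by simp, fun E ψ _ _ => ⟨0, map_zero _⟩⟩
    | tmul a t =>
      refine ⟨{θ t}, by simp, fun E ψ hψ hs => ⟨a ⊗ₜ ⟨θ t, hs (Finset.mem_singleton_self _)⟩, ?_⟩⟩
      rw [Algebra.TensorProduct.map_tmul, AlgHom.id_apply]
      congr 1
      exact hinj (hψ _)
    | add z z' hz hz' =>
      obtain ⟨s, hs, h⟩ := hz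
      obtain ⟨t, ht, h'⟩ := hz'
      refine ⟨s ∪ t, by rw [Finset.coe_union]; exact Set.union_subset hs ht, fun E ψ hψ hst => ?_⟩
      obtain ⟨w, hw⟩ := h E ψ hψ fun y hy => hst (Finset.mem_union_left _ hy)
      obtain ⟨w', hw'⟩ := h' E ψ hψ fun y hy => hst (Finset.mem_union_right _ hy)
      exact ⟨w + w', by rw [map_add, hw, hw']⟩
  have hκψ : ∀ (E : Subalgebra A S) (ψ : E →ₐ[A] Dh), (∀ e, θ (ψ e) = (e : S)) →
      ∀ w, κ (Algebra.TensorProduct.map (AlgHom.id A A') ψ w) = mu A' E w := fun E ψ hψ w => by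
    induction w using TensorProduct.induction_on with
    | zero => simp
    | add w w' hw hw' => rw [map_add, map_add, map_add, hw, hw']
    | tmul a e =>
      change (a : FractionRing S) * algebraMap S (FractionRing S) (θ (ψ e)) = _
      rw [hψ, mu_tmul]
  have hκinj : Function.Injective κ := by
    refine (injective_iff_map_eq_zero _).2 fun z hz => ?_
    obtain ⟨s, hs, h⟩ := hcov z
    obtain ⟨E, hEl, ψ, hsE, -, hE, hψ⟩ := hlevel s hs
    haveI := hEl
    haveI := EssEtFracLib.flat_of_essEt hE
    obtain ⟨w, rfl⟩ := h E ψ hψ hsE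
    rw [hκψ E ψ hψ] at hz
    rw [(injective_iff_map_eq_zero _).1 (mu_injective A' hA' E) w hz, map_zero]
  have hmem : ∀ x : D', (x : FractionRing S) ∈ κ.range := fun x => by
    obtain ⟨s, hsD, hs⟩ := exists_finset_range A' hA' hD' hmin x
    obtain ⟨E, hEl, ψ, hsE, -, hE, hψ⟩ := hlevel s fun y hy => ⟨_, hθD ⟨y, hsD hy⟩⟩
    haveI := hEl
    obtain ⟨w, hw⟩ := hs E hE hsE
    exact ⟨_, (hκψ E ψ hψ w).trans hw⟩
  let χ₀ : D' →ₐ[A] A' ⊗[A] Dh :=
    (AlgEquiv.ofInjective κ hκinj).symm.toAlgHom.comp (Subalgebra.inclusion (fun x hx => hmem ⟨x, hx⟩ : D' ≤ κ.range))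
  have hχ₀ : ∀ x, κ (χ₀ x) = (x : FractionRing S) := fun x =>
    congrArg Subtype.val ((AlgEquiv.ofInjective κ hκinj).apply_symm_apply _)
  have hχA : ∀ a : A', χ₀ (Subalgebra.inclusion hle a) = a ⊗ₜ 1 := fun a => hκinj (by
    rw [hχ₀]
    change (a : FractionRing S) = (a : FractionRing S) * algebraMap S (FractionRing S) (θ 1)
    rw [map_one, map_one, mul_one])
  have hχD : ∀ d : D, χ₀ (ι d) = (1 : A') ⊗ₜ algebraMap D Dh d := fun d => hκinj (by
    rw [hχ₀, hι]
    change _ = ((1 : A') : FractionRing S) * algebraMap S (FractionRing S) (θ (algebraMap D Dh d))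
    rw [hθD, OneMemClass.coe_one, one_mul])
  -- the residue field
  let ρ : ResidueField D ≃+* ResidueField Dh := RingEquiv.ofBijective _ (Groth.Agent.S0508.result D Dh)
  have hρ : ∀ d : D, ρ.symm (residue Dh (algebraMap D Dh d)) = residue D d := fun d => by
    rw [← ResidueField.map_residue (algebraMap D Dh) d]
    exact ρ.symm_apply_apply (residue D d)
  let g₀ : Dh →ₐ[A] ResidueField D :=
    { (ρ.symm : ResidueField Dh →+* ResidueField D).comp (residue Dh) with
      commutes' := fun a => hρ (algebraMap A D a) }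
  have hg₀ : Function.Surjective g₀ := fun y => by
    obtain ⟨d, rfl⟩ := IsLocalRing.residue_surjective y
    exact ⟨algebraMap D Dh d, hρ d⟩
  let π : A' ⊗[A] Dh →ₐ[A] ResidueField D ⊗[A] A' :=
    (Algebra.TensorProduct.comm A A' (ResidueField D)).toAlgHom.comp
      (Algebra.TensorProduct.map (AlgHom.id A A') g₀)
  let χ : D' →ₐ[A] ResidueField D ⊗[A] A' := π.comp χ₀
  let res : D →ₐ[A] ResidueField D := IsScalarTower.toAlgHom A D (ResidueField D)
  haveI : IsLocalHom (algebraMap A D) := ⟨fun a ha => isUnit_of_map_unit (algebraMap A S) a (by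
    rw [IsScalarTower.algebraMap_apply A D S]; exact ha.map (algebraMap D S))⟩
  haveI : IsLocalHom (algebraMap A (ResidueField D)) := ⟨fun a ha => isUnit_of_map_unit (algebraMap A D) a
    (isUnit_of_map_unit (residue D) _ (by rw [IsScalarTower.algebraMap_apply A D (ResidueField D)] at ha; exact ha))⟩
  refine conditions_of_hom (A := A) (B := A') (D := D) (R := D') (k := ResidueField D) res IsLocalRing.residue_surjective
    (Subalgebra.inclusion hle) ι χ (fun a => ?_) (fun d => ?_) (fun x hx => ?_) IsLocalRing.ker_residue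
    fun y hy => ?_
  · change π (χ₀ _) = _
    rw [hχA]
    change g₀ 1 ⊗ₜ[A] a = _
    rw [map_one]
  · change π (χ₀ _) = _
    rw [hχD]
    change g₀ (algebraMap D Dh d) ⊗ₜ[A] (1 : A') = _
    exact congrArg (· ⊗ₜ[A] (1 : A')) (hρ d)
  · -- the kernel lies in the radical
    letI : Algebra D D' := ι.toRingHom.toAlgebra
    haveI : IsScalarTower A D D' := IsScalarTower.of_algebraMap_eq fun a => (ι.commutes a).symm
    haveI : Module.Flat D Dh := (Groth.Agent.S0509.result D Dh).toFlat
    haveI : Module.FaithfullyFlat D Dh := Groth.Agent.S0509.result D Dh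
    let Ξ : A' ⊗[A] Dh →ₐ[A] D' ⊗[D] Dh := Algebra.TensorProduct.productMap
      (((Algebra.TensorProduct.includeLeft (R := D) (S := D) (A := D') (B := Dh)).restrictScalars A).comp
        (Subalgebra.inclusion hle))
      ((Algebra.TensorProduct.includeRight (R := D) (A := D') (B := Dh)).restrictScalars A)
    have hΞ : Ξ (χ₀ x) = x ⊗ₜ (1 : Dh) := by
      obtain ⟨-, a, ha, d, hd, hxd⟩ := (hD' _).1 x.2
      have hax : algebraMap A D a • x = algebraMap D D' ⟨d, hd⟩ := by
        rw [Algebra.smul_def, ← IsScalarTower.algebraMap_apply]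
        exact Subtype.ext (hxd.trans (hι ⟨d, hd⟩).symm)
      refine eq_tmul_one_of_smul (algebraMap A D a) ⟨d, hd⟩ (fun r r' h => Subtype.ext ?_) x hax _ ?_
      · have h' : algebraMap A D a • r = algebraMap A D a • r' := h
        rw [algebraMap_smul, algebraMap_smul] at h'
        have h'' := congrArg Subtype.val h'
        simp only [SetLike.val_smul, Algebra.smul_def] at h''
        exact (isUnit_algebraMap_frac (S := S) ha).mul_left_cancel h''
      · rw [algebraMap_smul, ← map_smul, ← map_smul,
          show a • x = ι ⟨d, hd⟩ from (algebraMap_smul D a x).symm.trans hax, hχD,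
          Algebra.TensorProduct.productMap_apply_tmul, map_one, one_mul]
        rfl
    have hπ : χ₀ x ∈ (maximalIdeal Dh).map (Algebra.TensorProduct.includeRight : Dh →ₐ[A] A' ⊗[A] Dh) := by
      have h := Algebra.TensorProduct.lTensor_ker (R := A) (A := A') g₀ hg₀
      have hk : RingHom.ker g₀ = maximalIdeal Dh := by
        ext t
        rw [RingHom.mem_ker]
        change ρ.symm (residue Dh t) = 0 ↔ _
        rw [EmbeddingLike.map_eq_zero_iff, residue_eq_zero_iff]
      rw [hk] at h
      rw [← h, RingHom.mem_ker]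
      exact (Algebra.TensorProduct.comm A A' (ResidueField D)).map_eq_zero_iff.1 hx
    have hx' : x ⊗ₜ[D] (1 : Dh) ∈ (maximalIdeal D).map (algebraMap D (D' ⊗[D] Dh)) := by
      rw [← hΞ]
      have h2 := Ideal.mem_map_of_mem Ξ hπ
      rw [Ideal.map_mapₐ, ← Groth.Agent.S0507.result D Dh] at h2
      refine (Ideal.map_le_iff_le_comap.2 (Ideal.map_le_iff_le_comap.2 fun d hd => ?_)) h2
      rw [Ideal.mem_comap, Ideal.mem_comap]
      change Ξ ((1 : A') ⊗ₜ[A] algebraMap D Dh d) ∈ _
      rw [Algebra.TensorProduct.productMap_apply_tmul, map_one, one_mul]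
      have h3 := Ideal.mem_map_of_mem (algebraMap D (D' ⊗[D] Dh)) hd
      rw [Algebra.TensorProduct.algebraMap_apply] at h3
      convert h3 using 1
      change (1 : D') ⊗ₜ[D] algebraMap D Dh d = algebraMap D D' d ⊗ₜ[D] (1 : Dh)
      rw [Algebra.algebraMap_eq_smul_one, Algebra.algebraMap_eq_smul_one, TensorProduct.smul_tmul]
    rw [IsScalarTower.algebraMap_eq D D' (D' ⊗[D] Dh), ← Ideal.map_map] at hx'
    have hxm : x ∈ (maximalIdeal D).map (algebraMap D D') := by
      rw [← Ideal.comap_map_eq_self_of_faithfullyFlat (B := D' ⊗[D] Dh) ((maximalIdeal D).map (algebraMap D D'))]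
      exact hx'
    refine (Ideal.map_le_iff_le_comap.2 fun d hd => ?_) hxm
    refine Ideal.mem_sInf.2 fun {N} hN' => ?_
    haveI := hN'.2
    rw [← comap_iota_maximal hD' ι hι N] at hd
    exact hd
  · -- the radical of the residue algebra
    obtain ⟨z, rfl⟩ : ∃ z, π z = y := by
      have hsurj : Function.Surjective π := by
        refine (Algebra.TensorProduct.comm A A' (ResidueField D)).surjective.comp ?_
        exact TensorProduct.map_surjective Function.surjective_id hg₀
      exact hsurj y
    obtain ⟨s, hs, h⟩ := hcov z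
    obtain ⟨E, hEl, ψ, hsE, hEh, hE, hψ⟩ := hlevel s hs
    haveI := hEl
    haveI := hEh
    obtain ⟨w, rfl⟩ := h E ψ hψ hsE
    haveI := isIntegral_normA A' hA'
    haveI : IsLocalHom (algebraMap A E) := ⟨fun a ha => isUnit_of_map_unit (algebraMap A S) a (by
      rw [IsScalarTower.algebraMap_apply A E S]; exact ha.map (algebraMap E S))⟩
    let i₀ : E →ₐ[A] ResidueField D := g₀.comp ψ
    have hi₀ : ∀ e ∈ maximalIdeal E, i₀ e = 0 := fun e he => by
      change ρ.symm (residue Dh (ψ e)) = 0
      rw [EmbeddingLike.map_eq_zero_iff, residue_eq_zero_iff]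
      exact fun hu => he (isUnit_of_map_unit (algebraMap E S) e (by
        change IsUnit (e : S)
        rw [← hψ e]; exact hu.map θ))
    let ī : ResidueField E →ₐ[A] ResidueField D := Ideal.Quotient.liftₐ (maximalIdeal E) i₀ hi₀
    let pE : A' ⊗[A] E →ₐ[A] A' ⊗[A] ResidueField E :=
      Algebra.TensorProduct.map (AlgHom.id A A') (Ideal.Quotient.mkₐ A (maximalIdeal E))
    have hpE : Function.Surjective pE :=
      TensorProduct.map_surjective Function.surjective_id (Ideal.Quotient.mkₐ_surjective A _)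
    have hcomp : ∀ w : A' ⊗[A] E, π (Algebra.TensorProduct.map (AlgHom.id A A') ψ w) =
        Algebra.TensorProduct.comm A A' (ResidueField D)
          (Algebra.TensorProduct.map (AlgHom.id A A') ī (pE w)) := fun w => by
      induction w using TensorProduct.induction_on with
      | zero => simp
      | add w w' hw hw' => rw [map_add, map_add, map_add, map_add, map_add, hw, hw']
      | tmul a e => rfl
    have hwj : w ∈ Ideal.jacobson (R := A' ⊗[A] E) ⊥ := Ideal.mem_sInf.2 fun {M} hM => by
      haveI := hM.2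
      obtain ⟨hME, -, -⟩ := maximal_tensor_data (A := A) (T := A') (U := E) M
      have hker : RingHom.ker pE ≤ M := by
        have hk := Algebra.TensorProduct.lTensor_ker (R := A) (A := A') (Ideal.Quotient.mkₐ A (maximalIdeal E))
          (Ideal.Quotient.mkₐ_surjective A _)
        rw [show RingHom.ker (Ideal.Quotient.mkₐ A (maximalIdeal E)) = maximalIdeal E from
          Ideal.Quotient.mkₐ_ker A _] at hk
        exact hk.le.trans (Ideal.map_le_iff_le_comap.2 hME)
      have hc : Ideal.comap pE (Ideal.map pE M) = M := by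
        rw [Ideal.comap_map_of_surjective pE hpE, sup_eq_left]
        exact hker
      haveI : (M.map pE).IsMaximal := (Ideal.map_eq_top_or_isMaximal_of_surjective pE hpE ‹_›).resolve_left
        fun htop => hM.2.ne_top (by rw [← hc, htop, Ideal.comap_top])
      obtain ⟨P, hP, hPM⟩ := exists_maximal_tensor_over (A := A) (T := A') (U := ResidueField E)
        (S := ResidueField D) ī (by
          letI := ī.toRingHom.toAlgebra
          infer_instance) (M.map pE)
      haveI := hP
      have h := hy (P.comap (Algebra.TensorProduct.comm A A' (ResidueField D)).symm.toAlgHom)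
        (Ideal.comap_isMaximal_of_surjective _ (Algebra.TensorProduct.comm A A' (ResidueField D)).symm.surjective)
      rw [hcomp, Ideal.mem_comap] at h
      rw [← hc, Ideal.mem_comap, ← hPM, Ideal.mem_comap]
      simpa using h
    rw [jacobson_tensor A' hA' hN E hE] at hwj
    have h := Ideal.mem_map_of_mem (π.comp (Algebra.TensorProduct.map (AlgHom.id A A') ψ)) hwj
    rw [Ideal.map_mapₐ] at h
    have heq : (π.comp (Algebra.TensorProduct.map (AlgHom.id A A') ψ)).comp
        (Algebra.TensorProduct.includeLeft : A' →ₐ[A] A' ⊗[A] E) =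
        (Algebra.TensorProduct.includeRight : A' →ₐ[A] ResidueField D ⊗[A] A') := AlgHom.ext fun a => by
      change g₀ (ψ 1) ⊗ₜ[A] a = (1 : ResidueField D) ⊗ₜ[A] a
      rw [map_one, map_one]
    rw [heq] at h
    exact h

end SHSubLib
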