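import Groth.Agent.SHSubLib.InfNorm
import Groth.Agent.SHSubLib.Descent
import Mathlib

/-! The Jacobson radical of the normalization of an intermediate algebra. -/

set_option autoImplicit false
set_option synthInstance.maxHeartbeats 400000
set_option maxHeartbeats 1600000

universe u

open IsLocalRing TensorProduct
open scoped nonZeroDivisors

namespace SHSubLib

variable {A S : Type u} [CommRing A] [IsLocalRing A] [IsReduced A] [CommRing S] [IsLocalRing S] [Algebra A S]
  [IsLocalHom (algebraMap A S)] [Hensel.IsStrictHenselization A S]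
variable {A' : Subalgebra A (FractionRing S)}
  (hA' : ∀ x : (FractionRing S), x ∈ A' ↔ (IsIntegral A x ∧
      ∃ a ∈ nonZeroDivisors A, ∃ b : A, algebraMap A (FractionRing S) a * x = algebraMap A (FractionRing S) b))

include hA' in
/-- An integrally closed subalgebra of the normalized tensor product has flat inclusion. -/
theorem flat_normal_incl (E : Subalgebra A S) [IsLocalRing E] (hE : EGA4loc.IsEssentiallyEtale A E)
    (R : Subalgebra A (FractionRing S)) (hA'R : A' ≤ R) (g : R →ₐ[A] A' ⊗[A] E)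
    (hg : ∀ x, mu A' E (g x) = (x : FractionRing S)) (hgA : ∀ a : A', g (Subalgebra.inclusion hA'R a) = a ⊗ₜ 1)
    (L : Subalgebra A (FractionRing S)) [IsReduced L] [IsArtinianRing L] (hRL : R ≤ L)
    (hcl : ∀ z ∈ L, IsIntegral R z → z ∈ R)
    (hden : ∀ z ∈ L, ∃ a ∈ A⁰, algebraMap A (FractionRing S) a * z ∈ R) :
    letI := g.toRingHom.toAlgebra
    Module.Flat R (A' ⊗[A] E) := by
  letI := g.toRingHom.toAlgebra
  haveI : IsScalarTower A R (A' ⊗[A] E) := IsScalarTower.of_algebraMap_eq fun a => (g.commutes a).symm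
  haveI := EssEtFracLib.flat_of_essEt hE
  have hnormal : EGA4.IsNormalRing R := by
    refine isNormalRing_of_intClosed (Subalgebra.inclusion hRL).toRingHom (Subalgebra.inclusion_injective hRL)
      fun z hz => ?_
    have hz' : IsIntegral R (z : FractionRing S) := by
      obtain ⟨p, hp, hpz⟩ := hz
      refine ⟨p, hp, ?_⟩
      have h := congrArg L.val.toRingHom hpz
      rw [Polynomial.hom_eval₂, map_zero] at h
      exact h
    exact ⟨⟨z, hcl z z.2 hz'⟩, Subtype.ext rfl⟩
  let π : R ⊗[A] E →ₐ[R] A' ⊗[A] E :=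
    Algebra.TensorProduct.lift (Algebra.ofId R (A' ⊗[A] E))
      (Algebra.TensorProduct.includeRight : E →ₐ[A] A' ⊗[A] E) fun _ _ => Commute.all _ _
  have hπ : Function.Surjective π := by
    intro z
    induction z using TensorProduct.induction_on with
    | zero => exact ⟨0, map_zero _⟩
    | tmul a e =>
      refine ⟨Subalgebra.inclusion hA'R a ⊗ₜ e, ?_⟩
      rw [Algebra.TensorProduct.lift_tmul]
      change g (Subalgebra.inclusion hA'R a) * ((1 : A') ⊗ₜ e) = a ⊗ₜ e
      rw [hgA, Algebra.TensorProduct.tmul_mul_tmul, mul_one, one_mul]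
    | add z z' hz hz' =>
      obtain ⟨y, rfl⟩ := hz
      obtain ⟨y', rfl⟩ := hz'
      exact ⟨y + y', map_add _ _ _⟩
  haveI := quasiFinite_tensor R hE
  refine flat_of_surjective_normal (E := A' ⊗[A] E) (isNormalRing_tensor R hE hnormal) π hπ fun Q hQ => ?_
  haveI := hQ.1.1
  have hμ : Function.Injective (mu A' E).toRingHom := mu_injective A' hA' E
  obtain ⟨P, hP, -, hPQ⟩ := Ideal.exists_comap_eq_of_mem_minimalPrimes (mu A' E).toRingHom (I := ⊥) Q (by
    rw [Ideal.comap_bot_of_injective _ hμ]; exact hQ)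
  haveI := hP
  let q0 := Q.comap (algebraMap R (A' ⊗[A] E))
  have hq0 : ∀ x : R, x ∈ q0 ↔ (x : FractionRing S) ∈ P := fun x => by
    change g x ∈ Q ↔ _
    rw [← hPQ]
    change mu A' E (g x) ∈ P ↔ _
    rw [hg]
  refine ⟨⟨Ideal.IsPrime.comap _, bot_le⟩, fun q hq hle' x hx => ?_⟩
  haveI := hq.1
  obtain ⟨z, hz⟩ := SemilocalEssLib.exists_regular (⟨x, hRL x.2⟩ : L)
  obtain ⟨a, ha, hza⟩ := hden z z.2
  have haP : algebraMap A R a ∉ q0 := fun h =>
    hP.ne_top (P.eq_top_of_isUnit_mem ((hq0 _).1 h) (isUnit_algebraMap_frac (S := S) ha))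
  have hz' : (x : FractionRing S) * (z : FractionRing S) * x = x := congrArg Subtype.val hz
  have hprod : x * (x * ⟨_, hza⟩ - algebraMap A R a) = 0 := by
    apply Subtype.ext
    change (x : FractionRing S) * ((x : FractionRing S) * (algebraMap A (FractionRing S) a * (z : FractionRing S)) -
      algebraMap A (FractionRing S) a) = 0
    linear_combination algebraMap A (FractionRing S) a * hz'
  rcases hq.1.mem_or_mem (hprod ▸ q.zero_mem) with h | h
  · exact h
  · refine absurd ?_ haP
    have h1 : x * ⟨_, hza⟩ - algebraMap A R a ∈ q0 := hle' h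
    simpa using q0.sub_mem (q0.mul_mem_right (⟨_, hza⟩ : R) hx) h1

omit [IsReduced A] [IsLocalRing A] [IsLocalHom (algebraMap A S)] [Hensel.IsStrictHenselization A S] in
/-- A meet of local subalgebras with local inclusions is local. -/
theorem isLocalRing_inf [IsLocalRing S] (D E : Subalgebra A S) [IsLocalRing D] [IsLocalRing E]
    [IsLocalHom (algebraMap D S)] [IsLocalHom (algebraMap E S)] :
    IsLocalRing (D ⊓ E : Subalgebra A S) := by
  refine IsLocalRing.of_nonunits_add fun {x y} hx hy hxy => ?_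
  have key : ∀ z : (D ⊓ E : Subalgebra A S), IsUnit (z : S) → IsUnit z := fun z hz => by
    obtain ⟨v, hv⟩ := (isUnit_of_map_unit (algebraMap D S) ⟨z, z.2.1⟩ hz).exists_right_inv
    obtain ⟨w, hw⟩ := (isUnit_of_map_unit (algebraMap E S) ⟨z, z.2.2⟩ hz).exists_right_inv
    have hv' : (z : S) * v = 1 := congrArg Subtype.val hv
    have hw' : (z : S) * w = 1 := congrArg Subtype.val hw
    have hvw : (w : S) = v := hz.mul_left_cancel (hw'.trans hv'.symm)
    exact IsUnit.of_mul_eq_one ⟨v, v.2, hvw ▸ w.2⟩ (Subtype.ext hv')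
  have h1 : ¬ IsUnit (x : S) := fun h => hx (key x h)
  have h2 : ¬ IsUnit (y : S) := fun h => hy (key y h)
  exact (IsLocalRing.nonunits_add h1 h2) (hxy.map (D ⊓ E).val)

variable {D : Subalgebra A S} [IsLocalRing D] [IsLocalHom (algebraMap D S)] {D' : Subalgebra A (FractionRing S)}
  (hD' : ∀ x : (FractionRing S), x ∈ D' ↔ (IsIntegral D x ∧
      ∃ a ∈ nonZeroDivisors A, ∃ d ∈ D, algebraMap A (FractionRing S) a * x = algebraMap S (FractionRing S) d))
  (hle : A' ≤ D') (ι : D →ₐ[A] D') (hι : ∀ d : D, (ι d : (FractionRing S)) = algebraMap S (FractionRing S) d)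

include hA' hD' hι in
/-- Under the residue conditions the radical of the normalization is generated by the radical of the base. -/
theorem jacobson_le_map (hN : CAlg.IsNagata A) (hfin : {N : Ideal D' | N.IsMaximal}.Finite)
    (hsurjφ : Function.Surjective ((Ideal.Quotient.mkₐ A (Ideal.jacobson (⊥ : Ideal D'))).comp
      (Algebra.TensorProduct.productMap (Subalgebra.inclusion hle) ι))) :
    Ideal.jacobson (⊥ : Ideal D') ≤ (Ideal.jacobson (⊥ : Ideal A')).map (Subalgebra.inclusion hle) := by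
  classical
  haveI := hN.1
  have hmin : (minimalPrimes A).Finite := minimalPrimes.finite_of_isNoetherianRing A
  obtain ⟨G, hG⟩ := exists_inclS A' hA' hD' hmin
  intro x₀ hx₀
  obtain ⟨s, -, hs⟩ := exists_finset_range A' hA' hD' hmin x₀
  obtain ⟨E, hsE, hEl, hEh, hE, hffS⟩ := exists_essEt_ge A S s
  haveI := hEl
  haveI := hEh
  haveI := EssEtFracLib.flat_of_essEt hE
  haveI hAE : IsLocalHom (algebraMap A E) := ⟨fun a ha => isUnit_of_map_unit (algebraMap A S) a (by
    rw [IsScalarTower.algebraMap_apply A E S]; exact ha.map (algebraMap E S))⟩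
  let R : Subalgebra A (FractionRing S) := D' ⊓ (mu A' E).range
  have hA'R : A' ≤ R := fun a ha => ⟨hle ha, (⟨a, ha⟩ : A') ⊗ₜ (1 : E), by
    change mu A' E ((⟨a, ha⟩ : A') ⊗ₜ (1 : E)) = a
    rw [mu_tmul, OneMemClass.coe_one, map_one, mul_one]⟩
  have hμ := mu_injective A' hA' E
  let g : R →ₐ[A] A' ⊗[A] E :=
    (AlgEquiv.ofInjective (mu A' E) hμ).symm.toAlgHom.comp (Subalgebra.inclusion inf_le_right)
  have hg : ∀ x, mu A' E (g x) = (x : FractionRing S) := fun x =>
    congrArg Subtype.val ((AlgEquiv.ofInjective (mu A' E) hμ).apply_symm_apply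
      (Subalgebra.inclusion (inf_le_right : R ≤ _) x))
  have hgA : ∀ a : A', g (Subalgebra.inclusion hA'R a) = a ⊗ₜ 1 := fun a => hμ (by
    rw [hg, mu_tmul, OneMemClass.coe_one, map_one, mul_one]; rfl)
  let incR : R →ₐ[A] D' := Subalgebra.inclusion inf_le_left
  let mapE : A' ⊗[A] E →ₐ[A] A' ⊗[A] S := Algebra.TensorProduct.map (AlgHom.id A A') E.val
  have hcomm : ∀ r : R, G (incR r) = mapE (g r) := fun r => muS_injective A' hA' (by
    rw [hG, muS_map, hg]; rfl)
  haveI := isIntegral_normA A' hA'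
  haveI := finite_quotient_maximal E hE
  have hMN : ∀ M : Ideal (A' ⊗[A] E), M.IsMaximal → (M.comap g).IsMaximal := fun M hM => by
    haveI := hM
    obtain ⟨h1, h2, -⟩ := maximal_tensor_data (A := A) (T := A') (U := E) M
    exact (isMaximal_tensor (A := A) (T := A') (U := E) (maximalIdeal E) g M h1 h2).2
  have hMS : ∀ M : Ideal (A' ⊗[A] E), M.IsMaximal →
      ∃ P : Ideal (A' ⊗[A] S), P.IsMaximal ∧ P.comap mapE = M := fun M hM => by
    haveI := hM
    exact exists_maximal_tensor_over (A := A) (T := A') (U := E) (S := S) E.val hffS M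
  -- units of the normalization which lie in the level are units there
  have hunit : ∀ r : R, (∀ N : Ideal D', N.IsMaximal → incR r ∉ N) → IsUnit r := fun r hr => by
    have hu : IsUnit (incR r) := by
      by_contra h
      obtain ⟨N, hN', hrN⟩ := exists_max_ideal_of_mem_nonunits h
      exact hr N hN' hrN
    have hu' : IsUnit (g r) := by
      by_contra h
      obtain ⟨M, hM, hrM⟩ := exists_max_ideal_of_mem_nonunits h
      obtain ⟨P, hP, hPM⟩ := hMS M hM
      haveI := hP
      have h' : G (incR r) ∈ P := by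
        rw [hcomm]
        rw [← hPM] at hrM
        exact hrM
      exact hr _ (isMaximal_comap_G A' hA' G P) h'
    obtain ⟨y, hy⟩ := hu.exists_right_inv
    obtain ⟨t, ht⟩ := hu'.exists_right_inv
    have h1 : (r : FractionRing S) * mu A' E t = 1 := by rw [← hg r, ← map_mul, ht, map_one]
    have h2 : (r : FractionRing S) * (y : FractionRing S) = 1 := congrArg Subtype.val hy
    have hty : mu A' E t = y := by
      calc mu A' E t = mu A' E t * ((r : FractionRing S) * y) := by rw [h2, mul_one]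
        _ = y * ((r : FractionRing S) * mu A' E t) := by ring
        _ = y := by rw [h1, mul_one]
    exact IsUnit.of_mul_eq_one ⟨(y : FractionRing S), y.2, ⟨t, hty⟩⟩ (Subtype.ext h2)
  have hmaxR : ∀ N : Ideal R, N.IsMaximal → ∃ N' : Ideal D', N'.IsMaximal ∧ N = N'.comap incR := fun N hN' => by
    have hsub : (N : Set R) ⊆ ⋃ N' ∈ (hfin.toFinset : Set (Ideal D')), (N'.comap incR : Set R) := by
      intro r hr
      by_contra h
      simp only [Set.mem_iUnion, not_exists] at h
      exact hN'.ne_top (N.eq_top_of_isUnit_mem hr (hunit r fun N' hN'' hrN =>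
        h N' (Finset.mem_coe.2 (hfin.mem_toFinset.2 hN'')) hrN))
    obtain ⟨N', hN'', hle''⟩ := (Ideal.subset_union_prime (R := R) (f := fun N : Ideal D' => N.comap incR) ⊥ ⊥
      (fun N hN _ _ => (hfin.mem_toFinset.1 hN).isPrime.comap _)).1 hsub
    exact ⟨N', hfin.mem_toFinset.1 hN'', hN'.eq_of_le
      (Ideal.comap_ne_top _ (hfin.mem_toFinset.1 hN'').ne_top) hle''⟩
  have hNM : ∀ N : Ideal R, N.IsMaximal → ∃ M : Ideal (A' ⊗[A] E), M.IsMaximal ∧ M.comap g = N := fun N hN' => by
    obtain ⟨N', hN'', rfl⟩ := hmaxR N hN'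
    haveI := hN''
    obtain ⟨P, hP, hPN⟩ := exists_maximal_overS A' hA' hD' hle ι hι G hG hsurjφ N'
    haveI := hP
    haveI : (P.comap mapE).IsPrime := Ideal.IsPrime.comap _
    obtain ⟨h1, h2, -⟩ := maximal_tensor_data (A := A) (T := A') (U := S) P
    have h2' : maximalIdeal A ≤ (P.comap mapE).comap (algebraMap A (A' ⊗[A] E)) := fun a ha => by
      rw [Ideal.mem_comap, Ideal.mem_comap, AlgHom.commutes]
      exact h2 ha
    have h1' : maximalIdeal E ≤
        (P.comap mapE).comap (Algebra.TensorProduct.includeRight : E →ₐ[A] A' ⊗[A] E) := fun e he => by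
      rw [Ideal.mem_comap, Ideal.mem_comap, Algebra.TensorProduct.includeRight_apply,
        Algebra.TensorProduct.map_tmul, map_one]
      exact h1 (fun hu => he (isUnit_of_map_unit (algebraMap E S) e hu))
    refine ⟨P.comap mapE,
      (isMaximal_tensor (A := A) (T := A') (U := E) (maximalIdeal E) g (P.comap mapE) h1' h2').1, ?_⟩
    ext r
    rw [Ideal.mem_comap, Ideal.mem_comap, ← hcomm, Ideal.mem_comap, ← hPN, Ideal.mem_comap]
  haveI := isLocalRing_inf D E
  obtain ⟨L, hL, hLred, hLart⟩ := exists_fracK hmin E hE (D ⊓ E) inf_le_right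
  haveI := hLred
  haveI := hLart
  have hRL : R ≤ L := fun z hz => by
    obtain ⟨-, a, ha, d, hd, hzd⟩ := (hD' z).1 hz.1
    obtain ⟨-, b, hb, e, he, hze⟩ := (mem_range_mu_iff A' hA' hmin E hE z).1 hz.2
    refine (hL z).2 ⟨a * b, A⁰.mul_mem ha hb, algebraMap A S b * d,
      ⟨D.mul_mem (D.algebraMap_mem b) hd, ?_⟩, ?_⟩
    · have h : algebraMap A S b * d = algebraMap A S a * e := by
        apply IsFractionRing.injective S (FractionRing S)
        rw [map_mul, map_mul, ← IsScalarTower.algebraMap_apply, ← IsScalarTower.algebraMap_apply, ← hzd, ← hze]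
        ring
      rw [h]
      exact E.mul_mem (E.algebraMap_mem a) he
    · rw [map_mul, map_mul, ← IsScalarTower.algebraMap_apply, ← hzd]
      ring
  have hRintD : ∀ z ∈ R, IsIntegral D z := fun z hz => ((hD' z).1 hz.1).1
  have hRintE : ∀ z ∈ R, IsIntegral E z := fun z hz => ((mem_range_mu_iff A' hA' hmin E hE z).1 hz.2).1
  have hcl : ∀ z ∈ L, IsIntegral R z → z ∈ R := fun z hz hint => by
    obtain ⟨a, ha, d, hd, hzd⟩ := (hL z).1 hz
    exact ⟨(hD' z).2 ⟨isIntegral_of_forall_isIntegral R hRintD hint, a, ha, d, hd.1, hzd⟩,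
      (mem_range_mu_iff A' hA' hmin E hE z).2
        ⟨isIntegral_of_forall_isIntegral R hRintE hint, a, ha, d, hd.2, hzd⟩⟩
  have hden : ∀ z ∈ L, ∃ a ∈ A⁰, algebraMap A (FractionRing S) a * z ∈ R := fun z hz => by
    obtain ⟨a, ha, d, hd, hzd⟩ := (hL z).1 hz
    refine ⟨a, ha, hzd ▸ ⟨?_, (1 : A') ⊗ₜ (⟨d, hd.2⟩ : E), ?_⟩⟩
    · rw [← hι ⟨d, hd.1⟩]; exact (ι ⟨d, hd.1⟩).2
    · change mu A' E ((1 : A') ⊗ₜ (⟨d, hd.2⟩ : E)) = _
      rw [mu_tmul, OneMemClass.coe_one, one_mul]
  have hflat := flat_normal_incl hA' E hE R hA'R g hg hgA L hRL hcl hden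
  have hff : letI := g.toRingHom.toAlgebra; Module.FaithfullyFlat R (A' ⊗[A] E) := by
    letI := g.toRingHom.toAlgebra
    haveI := hflat
    refine { submodule_ne_top := fun N hN' htop => ?_ }
    obtain ⟨M, hM, hMN'⟩ := hNM N hN'
    rw [Ideal.smul_top_eq_map, Submodule.restrictScalars_eq_top_iff] at htop
    refine hM.ne_top (top_le_iff.1 (htop ▸ ?_))
    rw [Ideal.map_le_iff_le_comap]
    exact hMN'.ge
  have hJ := jacobson_eq_map (A := A) (B := A') (U := E) (R := R) (Subalgebra.inclusion hA'R) g hgA hff hMN hNM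
    (jacobson_tensor A' hA' hN E hE)
  let r₀ : R := ⟨x₀, x₀.2, hs E hE hsE⟩
  have hr₀ : r₀ ∈ Ideal.jacobson (⊥ : Ideal R) := Ideal.mem_sInf.2 fun {N} hN' => by
    obtain ⟨N', hN'', rfl⟩ := hmaxR N hN'.2
    exact Ideal.mem_sInf.1 hx₀ ⟨bot_le, hN''⟩
  rw [hJ] at hr₀
  have h := Ideal.mem_map_of_mem incR hr₀
  rw [Ideal.map_mapₐ] at h
  exact h

end SHSubLib
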