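import Groth.Prelude.Def_EGA4b
import Mathlib

/-! Coefficient comparison in flat modules, and flat quotients of normal rings. -/

set_option autoImplicit false

universe u v w

open IsLocalRing

namespace SHSubLib

theorem exists_sum_eq_of_mem_smul_top {B : Type u} [CommRing B] {M : Type v} [AddCommGroup M] [Module B M]
    {J : Ideal B} {z : M} (hz : z ∈ J • (⊤ : Submodule B M)) :
    ∃ (n : ℕ) (x : Fin n → B) (e : Fin n → M), (∀ t, x t ∈ J) ∧ ∑ t, x t • e t = z := by
  refine Submodule.smul_induction_on hz (fun r hr m _ => ⟨1, fun _ => r, fun _ => m, fun _ => hr, by simp⟩) ?_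
  · intro a b ha hb
    obtain ⟨n, x, e, hx, rfl⟩ := ha
    obtain ⟨n', x', e', hx', rfl⟩ := hb
    refine ⟨n + n', Fin.append x x', Fin.append e e', ?_, ?_⟩
    · intro t
      refine Fin.addCases (fun i => ?_) (fun i => ?_) t
      · rw [Fin.append_left]; exact hx i
      · rw [Fin.append_right]; exact hx' i
    · simp only [Fin.sum_univ_add, Fin.append_left, Fin.append_right]

/-- Coefficients of a residually independent family in a flat module detect every ideal. -/
theorem coeff_mem_of_flat {B : Type u} [CommRing B] {M : Type v} [AddCommGroup M] [Module B M] [Module.Flat B M]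
    {ι : Type w} [Fintype ι] [DecidableEq ι] (I J : Ideal B) (hI : I ≤ Ideal.jacobson ⊥) (v : ι → M)
    (φ : ι → M →ₗ[B] B ⧸ I) (hφ : ∀ i l, φ l (v i) = if i = l then 1 else 0) (α : ι → B)
    (h : ∑ i, α i • v i ∈ J • (⊤ : Submodule B M)) (i : ι) : α i ∈ J := by
  classical
  obtain ⟨n, x, e, hx, hxe⟩ := exists_sum_eq_of_mem_smul_top h
  obtain ⟨l, a, y, hay, hfa⟩ := Module.Flat.isTrivialRelation_of_sum_smul_eq_zero
    (f := Sum.elim α (fun t => -x t)) (x := Sum.elim v e) (by
      simp only [Fintype.sum_sum_type, Sum.elim_inl, Sum.elim_inr, neg_smul, Finset.sum_neg_distrib, hxe,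
        add_neg_cancel])
  choose w hw using fun (j : Fin l) (i : ι) => Ideal.Quotient.mk_surjective (φ i (y j))
  let N : Matrix ι ι B := fun i k => ∑ j, a (Sum.inl i) j * w j k
  have hN : N.map (Ideal.Quotient.mk I) = 1 := by
    ext i k
    rw [Matrix.map_apply, Matrix.one_apply]
    have h1 : φ k (v i) = ∑ j, a (Sum.inl i) j • φ k (y j) := by
      rw [show v i = ∑ j, a (Sum.inl i) j • y j from hay (Sum.inl i), map_sum]
      simp only [map_smul]
    rw [← hφ i k, h1, map_sum]
    refine Finset.sum_congr rfl fun j _ => ?_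
    rw [map_mul, hw, Algebra.smul_def, Ideal.Quotient.algebraMap_eq]
  have hdet : IsUnit N.det := by
    have h1 : Ideal.Quotient.mk I (N.det - 1) = 0 := by
      rw [map_sub, map_one, RingHom.map_det, RingHom.mapMatrix_apply, hN, Matrix.det_one, sub_self]
    have h2 := Ideal.mem_jacobson_bot.1 (hI (Ideal.Quotient.eq_zero_iff_mem.1 h1)) 1
    rwa [mul_one, sub_add_cancel] at h2
  have hαN : ∀ k, Matrix.vecMul α N k ∈ J := by
    intro k
    have h1 : Matrix.vecMul α N k = ∑ j, (∑ i, α i * a (Sum.inl i) j) * w j k := by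
      simp only [Matrix.vecMul, dotProduct, N, Finset.mul_sum, Finset.sum_mul, mul_assoc]
      exact Finset.sum_comm
    rw [h1]
    refine Ideal.sum_mem J fun j _ => J.mul_mem_right _ ?_
    have h2 := hfa j
    simp only [Fintype.sum_sum_type, Sum.elim_inl, Sum.elim_inr, neg_mul, Finset.sum_neg_distrib] at h2
    rw [add_neg_eq_zero] at h2
    rw [h2]
    exact Ideal.sum_mem J fun t _ => J.mul_mem_right _ (hx t)
  have h3 : α = Matrix.vecMul (Matrix.vecMul α N) N⁻¹ := by
    rw [Matrix.vecMul_vecMul, Matrix.mul_nonsing_inv N hdet, Matrix.vecMul_one]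
  rw [h3, Matrix.vecMul, dotProduct]
  exact Ideal.sum_mem J fun k _ => J.mul_mem_right _ (hαN k)

/-- If a submodule spans modulo an ideal, it spans modulo all its powers. -/
theorem sup_pow_smul_eq_top {B : Type u} [CommRing B] {M : Type v} [AddCommGroup M] [Module B M]
    {V : Submodule B M} {I : Ideal B} (h : V ⊔ I • ⊤ = ⊤) : ∀ r : ℕ, V ⊔ I ^ r • (⊤ : Submodule B M) = ⊤
  | 0 => by rw [pow_zero, Ideal.one_eq_top, Submodule.top_smul, sup_top_eq]
  | r + 1 => by
    refine le_antisymm le_top ?_
    calc (⊤ : Submodule B M) = V ⊔ I ^ r • (⊤ : Submodule B M) := (sup_pow_smul_eq_top h r).symm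
      _ ≤ V ⊔ I ^ (r + 1) • ⊤ := by
        refine sup_le le_sup_left ?_
        conv_lhs => rw [← h]
        rw [Submodule.smul_sup, pow_succ, ← Submodule.mul_smul]
        exact sup_le (le_trans Submodule.smul_le_right le_sup_left) le_sup_right

/-- A quotient of a flat quasi-finite normal algebra whose minimal primes lie over minimal primes is flat. -/
theorem flat_of_surjective_normal {R T E : Type u} [CommRing R] [CommRing T] [CommRing E] [Algebra R T]
    [Algebra R E] [Module.Flat R T] [Algebra.QuasiFinite R T] (hT : EGA4.IsNormalRing T) (π : T →ₐ[R] E)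
    (hπ : Function.Surjective π) (hE : ∀ Q ∈ minimalPrimes E, Q.comap (algebraMap R E) ∈ minimalPrimes R) :
    Module.Flat R E := by
  classical
  let I := RingHom.ker π
  have key : ∀ x ∈ I, ∃ i ∈ I, x = i * x := by
    intro x hx
    let Ann : Ideal T := (Submodule.span T {x}).annihilator
    by_cases htop : Ann ⊔ I = ⊤
    · obtain ⟨t, ht, i, hi, hti⟩ := Submodule.mem_sup.1 ((Ideal.eq_top_iff_one _).1 htop)
      refine ⟨i, hi, ?_⟩
      have htx : t * x = 0 := by
        rw [Submodule.mem_annihilator_span_singleton] at ht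
        exact ht
      calc x = (t + i) * x := by rw [hti, one_mul]
        _ = i * x := by rw [add_mul, htx, zero_add]
    obtain ⟨P, hP, hle⟩ := Ideal.exists_le_maximal _ htop
    haveI := (hT P).1
    let p := RingHom.ker (algebraMap T (Localization.AtPrime P))
    haveI : p.IsPrime := RingHom.ker_isPrime _
    have hIP : I ≤ P := le_sup_right.trans hle
    haveI : (P.map π).IsPrime := Ideal.map_isPrime_of_surjective hπ hIP
    obtain ⟨Q, hQ, hQP⟩ := Ideal.exists_minimalPrimes_le (bot_le : (⊥ : Ideal E) ≤ P.map π)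
    haveI := hQ.1.1
    have hQ'P : Q.comap π ≤ P := by
      refine (Ideal.comap_mono hQP).trans ?_
      rw [Ideal.comap_map_of_surjective π hπ]
      exact sup_le le_rfl hIP
    have hpQ : p ≤ Q.comap π := by
      intro t ht
      obtain ⟨s, hs⟩ := (IsLocalization.map_eq_zero_iff P.primeCompl _ t).1 ht
      exact ((Ideal.IsPrime.comap π).mem_or_mem (hs.symm ▸ (Q.comap π).zero_mem)).resolve_left
        fun h => s.2 (hQ'P h)
    haveI : (Q.comap π).IsPrime := Ideal.IsPrime.comap π
    have hunder : p.under R = (Q.comap π).under R := by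
      have h1 : (Q.comap π).under R = Q.comap (algebraMap R E) := by
        ext r
        simp only [Ideal.mem_comap, AlgHom.commutes]
      refine le_antisymm (Ideal.comap_mono hpQ) ?_
      rw [h1]
      exact (hE Q hQ).2 ⟨Ideal.IsPrime.comap _, bot_le⟩ ((Ideal.comap_mono hpQ).trans h1.le)
    have hpeq : p = Q.comap π := Algebra.QuasiFinite.eq_of_le_of_under_eq p (Q.comap π) hpQ hunder
    have hxp : x ∈ p := by
      rw [hpeq, Ideal.mem_comap, RingHom.mem_ker.1 hx]
      exact Q.zero_mem
    obtain ⟨s, hs⟩ := (IsLocalization.map_eq_zero_iff P.primeCompl _ x).1 hxp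
    exact absurd (hle (Submodule.mem_sup_left (Submodule.mem_annihilator_span_singleton _ _ |>.2 hs))) s.2
  haveI : I.Pure := Ideal.Pure.of_inf_eq_mul I fun J _ => le_antisymm (fun x hx => by
    obtain ⟨i, hi, hix⟩ := key x hx.1
    rw [hix]
    exact Ideal.mul_mem_mul hi hx.2) Ideal.mul_le_inf
  haveI : Module.Flat R (T ⧸ I) := Module.Flat.trans R T _
  exact Module.Flat.of_linearEquiv (Ideal.quotientKerAlgEquivOfSurjective hπ).toLinearEquiv.symm

/-- A prime over the closed point with integral quotient is maximal. -/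
theorem isMaximal_of_integral_quot {A B : Type*} [CommRing A] [IsLocalRing A] [CommRing B] [Algebra A B]
    (P : Ideal B) [P.IsPrime] (h : Algebra.IsIntegral A (B ⧸ P)) (hP : maximalIdeal A ≤ P.comap (algebraMap A B)) :
    P.IsMaximal := by
  haveI := h
  have h0 : (⊥ : Ideal (B ⧸ P)).comap (algebraMap A (B ⧸ P)) = maximalIdeal A := by
    refine le_antisymm (IsLocalRing.le_maximalIdeal (Ideal.comap_ne_top _ bot_ne_top)) fun a ha => ?_
    rw [Ideal.mem_comap, Ideal.mem_bot]
    exact Ideal.Quotient.eq_zero_iff_mem.2 (hP ha)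
  haveI : ((⊥ : Ideal (B ⧸ P)).comap (algebraMap A (B ⧸ P))).IsMaximal := h0 ▸ maximalIdeal.isMaximal A
  haveI : (⊥ : Ideal (B ⧸ P)).IsMaximal := Ideal.isMaximal_of_isIntegral_of_isMaximal_comap (R := A) _ ‹_›
  exact Ideal.Quotient.maximal_of_isField P (Ring.isField_iff_maximal_bot.2 ‹_›)

end SHSubLib
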