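import Groth.Agent.SHSubLib.HensExtend
import Mathlib

/-! Intermediate algebras with finite residual growth are covered by essentially etale algebras. -/

set_option autoImplicit false
set_option synthInstance.maxHeartbeats 400000
set_option maxHeartbeats 1600000

universe u

open IsLocalRing TensorProduct
open scoped nonZeroDivisors

namespace SHSubLib

theorem add_sub_add_mem {T : Type u} [CommRing T] {J : Ideal T} {a b c d : T} (h1 : a - c ∈ J) (h2 : b - d ∈ J) :
    a + b - (c + d) ∈ J := by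
  rw [add_sub_add_comm]
  exact add_mem h1 h2

theorem mul_sub_mul_mem {T : Type u} [CommRing T] {J : Ideal T} {a c : T} (h1 : a - c ∈ J) (b : T) :
    a * b - c * b ∈ J := by
  rw [← sub_mul]
  exact J.mul_mem_right _ h1

theorem zero_sub_zero_mem {T : Type u} [CommRing T] (J : Ideal T) : (0 : T) - 0 ∈ J := by
  rw [sub_self]
  exact zero_mem _

variable {A S : Type u} [CommRing A] [HenselianLocalRing A] [IsReduced A] [IsNoetherianRing A] [CommRing S]
  [IsLocalRing S] [Algebra A S] [IsLocalHom (algebraMap A S)] [Hensel.IsStrictHenselization A S]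
variable {D : Subalgebra A S} [IsLocalRing D] [IsLocalHom (algebraMap D S)]
variable {A' D' : Subalgebra A (FractionRing S)}
  (hA' : ∀ x : (FractionRing S), x ∈ A' ↔ (IsIntegral A x ∧
      ∃ a ∈ nonZeroDivisors A, ∃ b : A, algebraMap A (FractionRing S) a * x = algebraMap A (FractionRing S) b))
  (hD' : ∀ x : (FractionRing S), x ∈ D' ↔ (IsIntegral D x ∧
      ∃ a ∈ nonZeroDivisors A, ∃ d ∈ D, algebraMap A (FractionRing S) a * x = algebraMap S (FractionRing S) d))
  (ι : D →ₐ[A] D') (hι : ∀ d : D, (ι d : (FractionRing S)) = algebraMap S (FractionRing S) d)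
  (G : D' →ₐ[A] A' ⊗[A] S) (hG : ∀ x, muS A' (G x) = (x : FractionRing S))

include hA' hD' hι hG in
/-- If the residues of the normalization come from the compositum, the compositum is covered. -/
theorem exists_cover_extend (hN : CAlg.IsNagata A)
    {F₀ : IntermediateField (ResidueField A) (ResidueField S)} (B : SHGalLib.FEL A S F₀)
    (X : Subalgebra A S) (hX : X = D ⊔ B.j.range)
    (hcond : ∀ x : D', ∃ z : A' ⊗[A] X,
      G x - Algebra.TensorProduct.map (AlgHom.id A A') X.val z ∈ Ideal.jacobson (R := A' ⊗[A] S) ⊥)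
    (s : Finset S) (hs : (s : Set S) ⊆ X) :
    ∃ E : Subalgebra A S, (s : Set S) ⊆ E ∧ E ≤ X ∧ ∃ _ : IsLocalRing E, IsLocalHom (algebraMap E S) ∧
      EGA4loc.IsEssentiallyEtale A E := by
  have hmin : (minimalPrimes A).Finite := minimalPrimes.finite_of_isNoetherianRing A
  obtain ⟨hXl, hXh, hXS, hAX⟩ := intermediate_data (A := A) X
  haveI := hXl
  haveI := hXh
  haveI := hXS
  haveI := hAX
  obtain ⟨A₁, X', hA₁, hX', hleX, ιX, hιX, -⟩ := exists_normalizations X
  obtain rfl : A₁ = A' := SetLike.ext fun x => (hA₁ x).trans (hA' x).symm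
  obtain ⟨GX, hGX⟩ := exists_inclS A₁ hA' hX' hmin
  obtain ⟨hEl, -, -, -⟩ := intermediate_data (A := A) B.j.range
  haveI := hEl
  obtain ⟨hE, hEet, -⟩ := essEt_range (A := A) B
  haveI := hEet
  have hXR := le_range_mu hD' ι hι B.j.range hE X hX X' hX'
  let φ := Algebra.TensorProduct.productMap (Subalgebra.inclusion hleX) ιX
  have hGφ : ∀ z : A₁ ⊗[A] X, GX (φ z) = Algebra.TensorProduct.map (AlgHom.id A A₁) X.val z := fun z => by
    induction z using TensorProduct.induction_on with
    | zero => simp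
    | add z z' hz hz' => rw [map_add, map_add, map_add, hz, hz']
    | tmul a x =>
      rw [Algebra.TensorProduct.productMap_apply_tmul, map_mul, G_inclusion A₁ hA' hleX GX hGX,
        G_iota A₁ hA' ιX hιX GX hGX, Algebra.TensorProduct.tmul_mul_tmul, mul_one, one_mul,
        Algebra.TensorProduct.map_tmul]
      rfl
  let Λ : D' ⊗[A] B.j.range →ₐ[A] A₁ ⊗[A] S := Algebra.TensorProduct.productMap G
    ((Algebra.TensorProduct.includeRight : S →ₐ[A] A₁ ⊗[A] S).comp B.j.range.val)
  have hΛ : ∀ w, muS A₁ (Λ w) = mu D' B.j.range w := fun w => by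
    induction w using TensorProduct.induction_on with
    | zero => simp
    | add w w' hw hw' => rw [map_add, map_add, map_add, hw, hw']
    | tmul x b =>
      rw [Algebra.TensorProduct.productMap_apply_tmul, map_mul, hG, mu_tmul, AlgHom.comp_apply,
        Algebra.TensorProduct.includeRight_apply, muS_tmul, OneMemClass.coe_one, one_mul]
      rfl
  have key : ∀ w, ∃ z : A₁ ⊗[A] X,
      Λ w - Algebra.TensorProduct.map (AlgHom.id A A₁) X.val z ∈ Ideal.jacobson (R := A₁ ⊗[A] S) ⊥ := fun w => by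
    induction w using TensorProduct.induction_on with
    | zero => exact ⟨0, by rw [map_zero, map_zero]; exact zero_sub_zero_mem (T := A₁ ⊗[A] S) _⟩
    | add w w' hw hw' =>
      obtain ⟨z, hz⟩ := hw
      obtain ⟨z', hz'⟩ := hw'
      refine ⟨z + z', ?_⟩
      rw [map_add, map_add]
      exact add_sub_add_mem (T := A₁ ⊗[A] S) hz hz'
    | tmul x b =>
      obtain ⟨z, hz⟩ := hcond x
      refine ⟨z * ((1 : A₁) ⊗ₜ (⟨(b : S), hX ▸ (le_sup_right : B.j.range ≤ D ⊔ B.j.range) b.2⟩ : X)), ?_⟩
      rw [Algebra.TensorProduct.productMap_apply_tmul, map_mul, Algebra.TensorProduct.map_tmul, AlgHom.comp_apply,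
        Algebra.TensorProduct.includeRight_apply]
      change G x * ((1 : A₁) ⊗ₜ[A] (b : S)) - _ * ((1 : A₁) ⊗ₜ[A] (b : S)) ∈ _
      exact mul_sub_mul_mem (T := A₁ ⊗[A] S) hz _
  have hsurj : Function.Surjective ((Ideal.Quotient.mkₐ A (Ideal.jacobson (⊥ : Ideal X'))).comp φ) := fun y => by
    obtain ⟨x, rfl⟩ := Ideal.Quotient.mk_surjective y
    obtain ⟨w, hw⟩ := hXR x.2
    obtain ⟨z, hz⟩ := key w
    refine ⟨z, ?_⟩
    symm
    refine Ideal.Quotient.eq.2 (Ideal.mem_sInf.2 fun {N} hN' => ?_)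
    haveI := hN'.2
    obtain ⟨P, hP, rfl⟩ := exists_maximal_overH hA' GX hGX N
    rw [Ideal.mem_comap, map_sub]
    have h1 : GX x = Λ w := muS_injective A₁ hA' (by rw [hGX, hΛ]; exact hw.symm)
    rw [h1]
    have h3 := Ideal.mem_sInf.1 hz ⟨bot_le, hP⟩
    rw [← hGφ z] at h3
    exact h3
  have hfin : {N : Ideal X' | N.IsMaximal}.Finite :=
    ((finite_maximal_tensorS hA' hN).image fun P => P.comap GX).subset fun N hN' => by
      haveI : N.IsMaximal := hN'
      obtain ⟨P, hP, hPN⟩ := exists_maximal_overH hA' GX hGX N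
      exact ⟨P, hP, hPN⟩
  haveI := finite_normA A₁ hA' hN
  haveI : Module.FaithfullyFlat A S := Groth.Agent.S0539.result A S
  have hBinj : Function.Injective (algebraMap A A₁) := fun a b h => by
    have h1 : algebraMap A (FractionRing S) a = algebraMap A (FractionRing S) b := congrArg Subtype.val h
    rw [IsScalarTower.algebraMap_apply A S (FractionRing S), IsScalarTower.algebraMap_apply A S (FractionRing S)] at h1
    exact FaithfulSMul.algebraMap_injective A S (IsFractionRing.injective S (FractionRing S) h1)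
  have hιmax : ∀ d ∈ maximalIdeal X, ιX d ∈ Ideal.jacobson (⊥ : Ideal X') := fun d hd =>
    Ideal.mem_sInf.2 fun {N} hN' => by
      haveI := hN'.2
      rw [← comap_iota_maximal hX' ιX hιX N] at hd
      exact hd
  have hD : ∀ x : X, (x : S) ∈ maximalIdeal S → ∀ n : ℕ, ∃ y ∈ (maximalIdeal A).map (algebraMap A X),
      (x : S) - ((y : X) : S) ∈ (maximalIdeal A ^ n).map (algebraMap A S) := fun x hx n =>
    exists_sub_mem_of_residue (A := A) (B := A₁) (U := S) (R := X') (D := X) hBinj (Groth.Agent.S0538.result A S)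
      (Subalgebra.inclusion hleX) ιX X.val ⟨fun d hd => isUnit_of_map_unit (algebraMap X S) d hd⟩ GX
      (G_inclusion A₁ hA' hleX GX hGX) (G_iota A₁ hA' ιX hιX GX hGX)
      (jacobson_le_map hA' hX' hleX ιX hιX hN hfin hsurj) hιmax hsurj x hx n
  haveI : IsLocalHom (X.val : X →+* S) := hXS
  obtain ⟨E, hsE, hEX, hEl', hEh, hE'⟩ := exists_cover X X.val (fun x hx => ⟨⟨x, hx⟩, rfl⟩)
    (fun z n => ⟨z, z.2, by
      rw [show X.val z - (z : S) = 0 from sub_self _]
      exact zero_mem _⟩) hD s fun x hx => ⟨⟨x, hs hx⟩, rfl⟩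
  exact ⟨E, hsE, fun x hx => by obtain ⟨y, rfl⟩ := hEX hx; exact y.2, hEl', hEh, hE'⟩

end SHSubLib
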