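import Groth.Agent.SHSubLib.HensCover
import Groth.Agent.SHSubLib.HensNoeth
import Groth.Agent.SHSubLib.HensResidue
import Groth.Agent.AlgSpLib.ReducedSmooth
import Mathlib

/-! Finite intermediate algebras with purely inseparable residual extensions are unramified lifts. -/

set_option autoImplicit false
set_option synthInstance.maxHeartbeats 400000
set_option maxHeartbeats 1600000

universe u

open IsLocalRing TensorProduct

namespace SHSubLib

section general

theorem eq_of_prime_le {A B : Type u} [CommRing A] [HenselianLocalRing A] [CommRing B] [Algebra A B]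
    [Algebra.IsIntegral A B] (r N₁ N₂ : Ideal B) [r.IsPrime] [N₁.IsMaximal] [N₂.IsMaximal] (h₁ : r ≤ N₁)
    (h₂ : r ≤ N₂) : N₁ = N₂ := by
  haveI : Algebra.IsIntegral A (B ⧸ r) := Algebra.IsIntegral.of_surjective (Ideal.Quotient.mkₐ A r) Ideal.Quotient.mk_surjective
  have hmax : ∀ N : Ideal B, N.IsMaximal → r ≤ N → (N.map (Ideal.Quotient.mk r)).IsMaximal := fun N hN hr => by
    refine (Ideal.map_eq_top_or_isMaximal_of_surjective _ Ideal.Quotient.mk_surjective hN).resolve_left fun htop => hN.ne_top ?_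
    have h := Ideal.comap_map_of_surjective (Ideal.Quotient.mk r) Ideal.Quotient.mk_surjective N
    rw [htop, Ideal.comap_top, ← RingHom.ker_eq_comap_bot, Ideal.mk_ker, sup_eq_left.2 hr] at h
    exact h.symm
  haveI := hmax N₁ ‹_› h₁
  let M₁ := N₁.map (Ideal.Quotient.mk r)
  have hb : Function.Bijective (algebraMap (B ⧸ r) (Localization.AtPrime M₁)) :=
    ⟨IsLocalization.injective _ M₁.primeCompl_le_nonZeroDivisors, StrictHensBCLib.surjective_atPrime_of_integral (A := A) M₁⟩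
  haveI : IsLocalRing (B ⧸ r) := RingEquiv.isLocalRing (RingEquiv.ofBijective _ hb).symm
  haveI := hmax N₂ ‹_› h₂
  have h : N₁.map (Ideal.Quotient.mk r) = N₂.map (Ideal.Quotient.mk r) :=
    (IsLocalRing.eq_maximalIdeal inferInstance).trans (IsLocalRing.eq_maximalIdeal inferInstance).symm
  have h' := congrArg (Ideal.comap (Ideal.Quotient.mk r)) h
  rwa [Ideal.comap_map_of_surjective _ Ideal.Quotient.mk_surjective, Ideal.comap_map_of_surjective _
    Ideal.Quotient.mk_surjective, ← RingHom.ker_eq_comap_bot, Ideal.mk_ker, sup_eq_left.2 h₁, sup_eq_left.2 h₂] at h'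

theorem exists_pow_add {K S : Type u} [Field K] [CommRing S] (q : ℕ) [ExpChar K q] (ρ : S →+* K) {x y : K} {n m : ℕ}
    {s t : S} (hx : x ^ q ^ n = ρ s) (hy : y ^ q ^ m = ρ t) :
    (x + y) ^ q ^ (n + m) = ρ (s ^ q ^ m + t ^ q ^ n) := by
  rw [add_pow_expChar_pow, map_add, map_pow, map_pow, ← hx, ← hy, ← pow_mul, ← pow_mul, ← pow_add, ← pow_add,
    Nat.add_comm m n]

/-- Elements killed off a prime inside a maximal ideal with domain localization are in the other primes there. -/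
theorem mem_of_mul_eq_zero {R : Type u} [CommRing R] (M p₁ p₂ : Ideal R) [M.IsPrime] [p₁.IsPrime] [p₂.IsPrime]
    [IsDomain (Localization.AtPrime M)] (h₁ : p₁ ≤ M) (h₂ : p₂ ≤ M) {x u : R} (hu : u ∉ p₁) (hux : u * x = 0) :
    x ∈ p₂ := by
  have h := congrArg (algebraMap R (Localization.AtPrime M)) hux
  rw [map_mul, map_zero, mul_eq_zero] at h
  rcases h with h | h
  · obtain ⟨v, hv⟩ := (IsLocalization.map_eq_zero_iff M.primeCompl _ _).1 h
    exact absurd ((‹p₁.IsPrime›.mem_or_mem (hv ▸ p₁.zero_mem)).resolve_left fun hvp => v.2 (h₁ hvp)) hu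
  · obtain ⟨v, hv⟩ := (IsLocalization.map_eq_zero_iff M.primeCompl _ _).1 h
    exact (‹p₂.IsPrime›.mem_or_mem (hv ▸ p₂.zero_mem)).resolve_left fun hvp => v.2 (h₂ hvp)

/-- In a reduced ring elements of a minimal prime are killed off it. -/
theorem exists_mul_eq_zero_of_minimal {R : Type u} [CommRing R] [IsReduced R] {p : Ideal R} (hp : p ∈ minimalPrimes R)
    {x : R} (hx : x ∈ p) : ∃ w ∉ p, w * x = 0 := by
  haveI := hp.1.1
  have hnil : IsNilpotent (algebraMap R (Localization.AtPrime p) x) := nilpotent_iff_mem_prime.2 fun q hq => by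
    obtain ⟨h1, h2⟩ := ((IsLocalization.AtPrime.orderIsoOfPrime (Localization.AtPrime p) p) ⟨q, hq⟩).2
    exact (hp.2 ⟨h1, bot_le⟩ h2) hx
  obtain ⟨n, hn⟩ := hnil
  rw [← map_pow, IsLocalization.map_eq_zero_iff p.primeCompl] at hn
  obtain ⟨w, hw⟩ := hn
  refine ⟨w, w.2, IsReduced.eq_zero _ ⟨n + 1, ?_⟩⟩
  rw [mul_pow, pow_succ (w : R), pow_succ x, show (w : R) ^ n * w * (x ^ n * x) = (w : R) ^ n * x * ((w : R) * x ^ n) by ring, hw, mul_zero]

/-- Normality of a source ring transports the vanishing criterion. -/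
theorem map_mem_of_normal {A R T : Type u} [CommRing A] [CommRing R] [CommRing T] [Algebra A R] [Algebra A T]
    (Φ : R →ₐ[A] T) (hn : EGA4.IsNormalRing R) (M p₁ p₂ : Ideal T) [M.IsPrime] [p₁.IsPrime] [p₂.IsPrime]
    (h₁ : p₁ ≤ M) (h₂ : p₂ ≤ M) {x u : R} (hu : Φ u ∉ p₁) (hux : u * x = 0) : Φ x ∈ p₂ := by
  obtain ⟨hdom, -⟩ := hn (M.comap Φ)
  haveI := hdom
  exact mem_of_mul_eq_zero (M.comap Φ) (p₁.comap Φ) (p₂.comap Φ) (Ideal.comap_mono h₁) (Ideal.comap_mono h₂) hu hux

theorem isIntegral_tensor' {A T U : Type u} [CommRing A] [CommRing T] [CommRing U] [Algebra A T] [Algebra A U]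
    [Algebra.IsIntegral A T] [Algebra.IsIntegral A U] (z : T ⊗[A] U) : IsIntegral A z := by
  induction z using TensorProduct.induction_on with
  | zero => exact isIntegral_zero
  | add z z' hz hz' => exact hz.add hz'
  | tmul a s =>
    rw [show a ⊗ₜ[A] s = (a ⊗ₜ[A] (1 : U)) * ((1 : T) ⊗ₜ[A] s) by
      rw [Algebra.TensorProduct.tmul_mul_tmul, mul_one, one_mul]]
    exact ((Algebra.IsIntegral.isIntegral (R := A) a).map
        (Algebra.TensorProduct.includeLeft : T →ₐ[A] T ⊗[A] U)).mul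
      ((Algebra.IsIntegral.isIntegral (R := A) s).map (Algebra.TensorProduct.includeRight : U →ₐ[A] T ⊗[A] U))

theorem isIntegral_of_injective {A R T : Type u} [CommRing A] [CommRing R] [CommRing T] [Algebra A R] [Algebra A T]
    (G : R →ₐ[A] T) (hG : Function.Injective G) (h : ∀ z : T, IsIntegral A z) : Algebra.IsIntegral A R :=
  ⟨fun x => (isIntegral_algHom_iff G hG).1 (h (G x))⟩

/-- Chinese remaindering through an algebra map. -/
theorem exists_lift_crt {A T R : Type u} [CommRing A] [CommRing T] [CommRing R] [Algebra A T] [Algebra A R]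
    (ψ : T →ₐ[A] R) (hfin : {N : Ideal R | N.IsMaximal}.Finite)
    (hsurj : ∀ N : Ideal R, N.IsMaximal → ∀ y : R, ∃ z, y - ψ z ∈ N)
    (hinj : ∀ N N' : Ideal R, N.IsMaximal → N'.IsMaximal → N.comap ψ = N'.comap ψ → N = N') (x : R) :
    ∃ z, ∀ N : Ideal R, N.IsMaximal → x - ψ z ∈ N := by
  classical
  haveI : Finite {N : Ideal R // N.IsMaximal} := hfin.to_subtype
  haveI := Fintype.ofFinite {N : Ideal R // N.IsMaximal}
  have hmax : ∀ N : {N : Ideal R // N.IsMaximal}, (N.1.comap ψ).IsMaximal := fun N => by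
    haveI := N.2
    obtain ⟨l, _, _, π, hπs, hπ⟩ := exists_field_quot (A := A) (T := R) N.1
    have : Function.Surjective (π.comp ψ) := fun t => by
      obtain ⟨y, rfl⟩ := hπs t
      obtain ⟨z, hz⟩ := hsurj N.1 N.2 y
      exact ⟨z, (sub_eq_zero.1 (by rw [AlgHom.comp_apply, ← map_sub]; exact (hπ _).2 hz)).symm⟩
    have hm := RingHom.ker_isMaximal_of_surjective (π.comp ψ) this
    have heq : RingHom.ker (π.comp ψ) = N.1.comap ψ := Ideal.ext fun z => hπ _
    exact heq ▸ hm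
  have hcop : Pairwise fun i j : {N : Ideal R // N.IsMaximal} => IsCoprime (i.1.comap ψ) (j.1.comap ψ) := fun i j hij =>
    Ideal.isCoprime_iff_sup_eq.2 (Ideal.IsMaximal.coprime_of_ne (hmax i) (hmax j) fun h =>
      hij (Subtype.ext (hinj _ _ i.2 j.2 h)))
  choose e he1 he0 using exists_crt (fun i : {N : Ideal R // N.IsMaximal} => i.1.comap ψ) hcop
  choose z hz using fun i : {N : Ideal R // N.IsMaximal} => hsurj i.1 i.2 x
  refine ⟨∑ i, e i * z i, fun N hNm => ?_⟩
  rw [← Finset.add_sum_erase _ _ (Finset.mem_univ (⟨N, hNm⟩ : {N : Ideal R // N.IsMaximal})), map_add, map_mul, map_sum,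
    show x - (ψ (e ⟨N, hNm⟩) * ψ (z ⟨N, hNm⟩) + ∑ i ∈ Finset.univ.erase ⟨N, hNm⟩, ψ (e i * z i)) =
      (x - ψ (z ⟨N, hNm⟩)) - (ψ (e ⟨N, hNm⟩ - 1) * ψ (z ⟨N, hNm⟩) +
        ∑ i ∈ Finset.univ.erase ⟨N, hNm⟩, ψ (e i * z i)) by rw [map_sub, map_one]; ring]
  refine sub_mem (hz ⟨N, hNm⟩) (add_mem (Ideal.mul_mem_right _ _ (he1 ⟨N, hNm⟩)) (sum_mem fun i hi => ?_))
  rw [map_mul]
  exact Ideal.mul_mem_right _ _ (he0 i ⟨N, hNm⟩ (Finset.ne_of_mem_erase hi).symm)

theorem exists_lift_crt_tensor {A T U R : Type u} [CommRing A] [CommRing T] [CommRing U] [CommRing R] [Algebra A T]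
    [Algebra A U] [Algebra A R] (ψ : T ⊗[A] U →ₐ[A] R) (hfin : {N : Ideal R | N.IsMaximal}.Finite)
    (hsurj : ∀ N : Ideal R, N.IsMaximal → ∀ y : R, ∃ z, y - ψ z ∈ N)
    (hinj : ∀ N N' : Ideal R, N.IsMaximal → N'.IsMaximal → N.comap ψ = N'.comap ψ → N = N') (x : R) :
    ∃ z, ∀ N : Ideal R, N.IsMaximal → x - ψ z ∈ N := exists_lift_crt (A := A) (T := T ⊗[A] U) ψ hfin hsurj hinj x

end general

variable {A S : Type u} [CommRing A] [HenselianLocalRing A] [IsReduced A] [IsNoetherianRing A] [CommRing S]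
  [IsLocalRing S] [Algebra A S] [IsLocalHom (algebraMap A S)] [Hensel.IsStrictHenselization A S]
variable {D : Subalgebra A S} [IsLocalRing D] [IsLocalHom (algebraMap D S)]
variable {A' D' : Subalgebra A (FractionRing S)}
  (hA' : ∀ x : (FractionRing S), x ∈ A' ↔ (IsIntegral A x ∧
      ∃ a ∈ nonZeroDivisors A, ∃ b : A, algebraMap A (FractionRing S) a * x = algebraMap A (FractionRing S) b))
  (hD' : ∀ x : (FractionRing S), x ∈ D' ↔ (IsIntegral D x ∧
      ∃ a ∈ nonZeroDivisors A, ∃ d ∈ D, algebraMap A (FractionRing S) a * x = algebraMap S (FractionRing S) d))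
  (hle : A' ≤ D') (ι : D →ₐ[A] D') (hι : ∀ d : D, (ι d : (FractionRing S)) = algebraMap S (FractionRing S) d)
  (G : D' →ₐ[A] A' ⊗[A] S) (hG : ∀ x, muS A' (G x) = (x : FractionRing S))

include hA' hG hι in
/-- Purely inseparable residues make the dominating maximal ideal unique. -/
theorem eq_of_pure (q : ℕ) [ExpChar (ResidueField A) q] (P P' : Ideal (A' ⊗[A] S)) [P.IsMaximal] [P'.IsMaximal]
    (h : ∀ a : A', ∃ n : ℕ, ∃ d : D, (Subalgebra.inclusion hle a) ^ q ^ n - ι d ∈ P.comap G ∧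
      (Subalgebra.inclusion hle a) ^ q ^ n - ι d ∈ P'.comap G) : P = P' := by
  obtain ⟨K, _, _, π, -, hπ⟩ := exists_field_quot (A := A) (T := A' ⊗[A] S) P
  obtain ⟨K', _, _, π', -, hπ'⟩ := exists_field_quot (A := A) (T := A' ⊗[A] S) P'
  have hchar : ∀ (L : Type u) [Field L] [Algebra A L] (ρ : A' ⊗[A] S →ₐ[A] L) (Q : Ideal (A' ⊗[A] S)) [Q.IsMaximal],
      (∀ x, ρ x = 0 ↔ x ∈ Q) → ExpChar L q := fun L _ _ ρ Q _ hρ => by
    let f : ResidueField A →+* L := Ideal.Quotient.lift (maximalIdeal A) (algebraMap A L) fun a ha => by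
      rw [← ρ.commutes]
      exact (hρ _).2 ((maximal_data A' hA' Q).2.1 ha)
    exact expChar_of_injective_ringHom f.injective q
  haveI := hchar K π P hπ
  haveI := hchar K' π' P' hπ'
  let ρ := (π.comp (Algebra.TensorProduct.includeRight : S →ₐ[A] A' ⊗[A] S)).toRingHom
  let ρ' := (π'.comp (Algebra.TensorProduct.includeRight : S →ₐ[A] A' ⊗[A] S)).toRingHom
  have key : ∀ z, ∃ n : ℕ, ∃ s : S, π z ^ q ^ n = ρ s ∧ π' z ^ q ^ n = ρ' s := fun z => by
    induction z using TensorProduct.induction_on with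
    | zero => exact ⟨0, 0, by simp, by simp⟩
    | add z z' hz hz' =>
      obtain ⟨n, s, h1, h2⟩ := hz
      obtain ⟨m, t, h3, h4⟩ := hz'
      exact ⟨n + m, s ^ q ^ m + t ^ q ^ n, by rw [map_add]; exact exists_pow_add q ρ h1 h3,
        by rw [map_add]; exact exists_pow_add q ρ' h2 h4⟩
    | tmul a s =>
      obtain ⟨n, d, h1, h2⟩ := h a
      rw [Ideal.mem_comap, map_sub, map_pow, G_inclusion A' hA' hle G hG, G_iota A' hA' ι hι G hG] at h1 h2
      rw [← hπ, map_sub, sub_eq_zero, map_pow] at h1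
      rw [← hπ', map_sub, sub_eq_zero, map_pow] at h2
      have hsplit : a ⊗ₜ[A] s = (a ⊗ₜ[A] (1 : S)) * ((1 : A') ⊗ₜ[A] s) := by
        rw [Algebra.TensorProduct.tmul_mul_tmul, mul_one, one_mul]
      refine ⟨n, (d : S) * s ^ q ^ n, ?_, ?_⟩
      · rw [hsplit, map_mul, mul_pow, h1, map_mul, map_pow]
        rfl
      · rw [hsplit, map_mul, mul_pow, h2, map_mul, map_pow]
        rfl
  refine ‹P.IsMaximal›.eq_of_le (Ideal.IsMaximal.ne_top ‹_›) fun z hz => ?_
  obtain ⟨n, s, h1, h2⟩ := key z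
  have hq : q ^ n ≠ 0 := pow_ne_zero _ (expChar_pos K q).ne'
  rw [(hπ z).2 hz, zero_pow hq] at h1
  have hs : s ∈ maximalIdeal S := fun hu => (hu.map ρ).ne_zero h1.symm
  rw [← hπ', ← pow_eq_zero_iff hq, h2]
  exact (hπ' _).2 ((maximal_data A' hA' P').1 hs)

include hA' hD' hι in
/-- The normalization is normal. -/
theorem isNormalRing_norm : EGA4.IsNormalRing D' := by
  obtain ⟨L, hL, hLred, hLart, -⟩ := exists_fracD D
  haveI := hLred
  haveI := hLart
  have hleL : D' ≤ L := fun x hx => (hL x).2 ((hD' x).1 hx).2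
  letI : Algebra D D' := ι.toRingHom.toAlgebra
  haveI : IsScalarTower D D' (FractionRing S) := IsScalarTower.of_algebraMap_eq fun d => (hι d).symm
  haveI := isIntegral_iota hD' ι hι
  refine isNormalRing_of_intClosed (Subalgebra.inclusion hleL).toRingHom (Subalgebra.inclusion_injective hleL)
    fun z hz => ?_
  have hz' : IsIntegral D' (z : FractionRing S) := by
    obtain ⟨p, hp, hpz⟩ := hz
    refine ⟨p, hp, ?_⟩
    have h := congrArg L.val.toRingHom hpz
    rw [Polynomial.hom_eval₂, map_zero] at h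
    exact h
  exact ⟨⟨z, (hD' _).2 ⟨isIntegral_trans _ hz', (hL _).1 z.2⟩⟩, Subtype.ext rfl⟩

include hA' hG in
theorem isIntegral_normD : Algebra.IsIntegral A D' := by
  haveI := isIntegral_normA A' hA'
  haveI := isIntegral_strict (A := A) (S := S)
  refine isIntegral_of_injective (R := D') (T := A' ⊗[A] S) G (fun x y h => ?_) isIntegral_tensor'
  have h' := congrArg (muS A') h
  rw [hG, hG] at h'
  exact Subtype.ext h'

include hA' hD' hle hι hG in
/-- Purely inseparable residues make the residues of the normalization come from the algebra itself. -/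
theorem exists_residue_lift (hN : CAlg.IsNagata A) (q : ℕ) [ExpChar (ResidueField A) q]
    (hpure : ∀ N : Ideal D', N.IsMaximal → ∀ x : D', ∃ n : ℕ, ∃ d : D, x ^ q ^ n - ι d ∈ N) (x : D') :
    ∃ z : A' ⊗[A] D, G x - Algebra.TensorProduct.map (AlgHom.id A A') D.val z ∈ Ideal.jacobson (R := A' ⊗[A] S) ⊥ := by
  classical
  let ψ := Algebra.TensorProduct.productMap (Subalgebra.inclusion hle) ι
  have hψ : ∀ z : A' ⊗[A] D, G (ψ z) = Algebra.TensorProduct.map (AlgHom.id A A') D.val z := fun z => by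
    induction z using TensorProduct.induction_on with
    | zero => simp
    | add z z' hz hz' => rw [map_add, map_add, map_add, hz, hz']
    | tmul a x =>
      rw [Algebra.TensorProduct.productMap_apply_tmul, map_mul, G_inclusion A' hA' hle G hG,
        G_iota A' hA' ι hι G hG, Algebra.TensorProduct.tmul_mul_tmul, mul_one, one_mul,
        Algebra.TensorProduct.map_tmul]
      rfl
  have hsurj : ∀ N : Ideal D', N.IsMaximal → ∀ y : D', ∃ z, y - ψ z ∈ N := fun N hNm y => by
    haveI := hNm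
    obtain ⟨l, _, _, π, hπs, hπ⟩ := exists_field_quot (A := A) (T := D') N
    let f := (π : D' →+* l)
    have hker : RingHom.ker f = N := Ideal.ext hπ
    have hD0 : ∀ d ∈ maximalIdeal D, (f.comp (ι : D →+* D')) d = 0 := fun d hd => by
      rw [← comap_iota_maximal hD' ι hι N] at hd
      exact (hπ _).2 hd
    let k₀ := Subfield.closure (Set.range (f.comp (ι : D →+* D')))
    have hk₀ : ∀ y, y ∈ k₀ ↔ ∃ d, f (ι d) = y := mem_closure_range _ hD0
    obtain ⟨T, hTf, hT, hsep⟩ := exists_separable_over hA' hD' hle ι hι G hG hN N f hπs hker k₀ hk₀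
    have hmA : ∀ a ∈ maximalIdeal A, π (algebraMap A D' a) = 0 := fun a ha => by
      rw [← ι.commutes]
      refine hD0 _ fun hu => ha ?_
      haveI : IsLocalHom (algebraMap A D) := ⟨fun a ha => isUnit_of_map_unit (algebraMap A S) a (by
        rw [IsScalarTower.algebraMap_apply A D S]; exact ha.map (algebraMap D S))⟩
      exact isUnit_of_map_unit (algebraMap A D) a hu
    let ρ : ResidueField A →+* k₀ := Ideal.Quotient.lift (maximalIdeal A)
      ((f.comp (algebraMap A D')).codRestrict k₀ fun a => (hk₀ _).2 ⟨algebraMap A D a, by rw [AlgHom.commutes]; rfl⟩)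
      fun a ha => Subtype.ext (hmA a ha)
    haveI : ExpChar k₀ q := expChar_of_injective_ringHom ρ.injective q
    haveI : IsPurelyInseparable k₀ l := (isPurelyInseparable_iff_pow_mem k₀ q).2 fun y => by
      obtain ⟨y, rfl⟩ := hπs y
      obtain ⟨n, d, hd⟩ := hpure N hNm y
      refine ⟨n, ⟨⟨f (ι d), (hk₀ _).2 ⟨d, rfl⟩⟩, ?_⟩⟩
      rw [← hπ, map_sub, sub_eq_zero, map_pow] at hd
      exact hd.symm
    let L1 := IntermediateField.adjoin k₀ T
    haveI : Algebra.IsSeparable L1 l := ⟨hsep⟩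
    haveI : IsPurelyInseparable L1 l := IsPurelyInseparable.tower_top k₀ L1 l
    obtain ⟨w, hw⟩ := IsPurelyInseparable.surjective_algebraMap_of_isSeparable L1 l (π y)
    have hwT : π y ∈ Algebra.adjoin k₀ T := by
      rw [← IntermediateField.adjoin_toSubalgebra_of_isAlgebraic fun t ht => (hT t ht).1.isAlgebraic, ← hw]
      exact w.2
    suffices h : ∃ z, π (ψ z) = π y by
      obtain ⟨z, hz⟩ := h
      exact ⟨z, (hπ _).1 (by rw [map_sub, hz, sub_self])⟩
    generalize π y = t at hwT ⊢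
    induction hwT using Algebra.adjoin_induction with
    | mem t ht =>
      obtain ⟨a, rfl⟩ := (hT t ht).2
      exact ⟨a ⊗ₜ 1, by rw [Algebra.TensorProduct.productMap_apply_tmul, map_one, mul_one]; rfl⟩
    | algebraMap r =>
      obtain ⟨d, hd⟩ := (hk₀ _).1 r.2
      exact ⟨1 ⊗ₜ d, by rw [Algebra.TensorProduct.productMap_apply_tmul, map_one, one_mul]; exact hd⟩
    | add t t' _ _ ht ht' =>
      obtain ⟨z, rfl⟩ := ht
      obtain ⟨z', rfl⟩ := ht'
      exact ⟨z + z', by rw [map_add, map_add]⟩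
    | mul t t' _ _ ht ht' =>
      obtain ⟨z, rfl⟩ := ht
      obtain ⟨z', rfl⟩ := ht'
      exact ⟨z * z', by rw [map_mul, map_mul]⟩
  have hfin : {N : Ideal D' | N.IsMaximal}.Finite :=
    ((finite_maximal_tensorS hA' hN).image fun P => P.comap G).subset fun N hN' => by
      haveI : N.IsMaximal := hN'
      obtain ⟨P, hP, hPN⟩ := exists_maximal_overH hA' G hG N
      exact ⟨P, hP, hPN⟩
  obtain ⟨z, hz⟩ := exists_lift_crt_tensor (A := A) (T := A') (U := D) (R := D') ψ hfin hsurj (fun N N' hN₁ hN₂ h => by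
    haveI := hN₁
    haveI := hN₂
    obtain ⟨P, hP, hPN⟩ := exists_maximal_overH hA' G hG N
    obtain ⟨P', hP', hPN'⟩ := exists_maximal_overH hA' G hG N'
    haveI := hP
    haveI := hP'
    rw [← hPN, ← hPN', eq_of_pure hA' hle ι hι G hG q P P' fun a => ?_]
    obtain ⟨n, d, hd⟩ := hpure N hN₁ (Subalgebra.inclusion hle a)
    have he : (Subalgebra.inclusion hle a) ^ q ^ n - ι d = ψ ((a ^ q ^ n) ⊗ₜ 1 - 1 ⊗ₜ d) := by
      rw [map_sub, Algebra.TensorProduct.productMap_apply_tmul, Algebra.TensorProduct.productMap_apply_tmul, map_one,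
        map_one, mul_one, one_mul, map_pow]
    refine ⟨n, d, by rw [hPN]; exact hd, ?_⟩
    rw [hPN', he]
    rw [he] at hd
    exact h.le hd) x
  refine ⟨z, ?_⟩
  rw [← hψ]
  refine Ideal.mem_sInf.2 fun {P} hP => ?_
  haveI := hP.2
  have h := hz _ (isMaximal_comap_G A' hA' G P)
  rw [Ideal.mem_comap, map_sub] at h
  exact h

include hA' hD' hle hι hG in
/-- A finite intermediate algebra with purely inseparable residues is a finite etale lift. -/
theorem exists_eq_FEL [Module.Finite A D] (hN : CAlg.IsNagata A) (q : ℕ) [ExpChar (ResidueField A) q]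
    (hpure : ∀ N : Ideal D', N.IsMaximal → ∀ x : D', ∃ n : ℕ, ∃ d : D, x ^ q ^ n - ι d ∈ N) :
    ∃ (F : IntermediateField (ResidueField A) (ResidueField S)) (_ : FiniteDimensional (ResidueField A) F)
      (B : SHGalLib.FEL A S F), D = B.j.range := by
  classical
  haveI : Algebra.IsSeparable (ResidueField A) (ResidueField S) :=
    (Hensel.IsStrictHenselization.isSepClosure (R := A) (S := S)).separable
  obtain ⟨kD, hkD⟩ := exists_resField (A := A) D
  obtain ⟨t, ht⟩ := Module.Finite.fg_top (R := A) (M := D)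
  let F := IntermediateField.adjoin (ResidueField A) ((fun d : D => residue S (d : S)) '' (t : Set D))
  haveI : Finite ↥((fun d : D => residue S (d : S)) '' (t : Set D)) := (t.finite_toSet.image _).to_subtype
  haveI : FiniteDimensional (ResidueField A) F :=
    IntermediateField.finiteDimensional_adjoin fun y _ => (Algebra.IsSeparable.isSeparable (ResidueField A) y).isIntegral
  have hFkD : ∀ y ∈ F, ∃ d ∈ D, residue S d = y := fun y hy => (hkD y).1
    ((IntermediateField.adjoin_le_iff.2 (by rintro _ ⟨d, -, rfl⟩; exact (hkD _).2 ⟨d, d.2, rfl⟩) : F ≤ kD) hy)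
  have hDF : ∀ d : D, residue S (d : S) ∈ F := fun d => by
    have h : d ∈ Submodule.span A (t : Set D) := ht ▸ Submodule.mem_top
    induction h using Submodule.span_induction with
    | mem y hy => exact IntermediateField.subset_adjoin _ _ ⟨y, hy, rfl⟩
    | zero => rw [ZeroMemClass.coe_zero, map_zero]; exact zero_mem _
    | add y y' _ _ hy hy' => rw [AddMemClass.coe_add, map_add]; exact add_mem hy hy'
    | smul a y _ hy =>
      rw [show ((a • y : D) : S) = algebraMap A S a * y from Algebra.smul_def a (y : S), map_mul]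
      exact mul_mem (F.algebraMap_mem (residue A a)) hy
  obtain ⟨B⟩ := nonempty_FEL' (A := A) (S := S) F
  refine ⟨F, inferInstance, B, le_antisymm ?_ (range_le_of_residue D B hFkD)⟩
  obtain ⟨B₀⟩ := nonempty_FEL' (A := A) (S := S) ⊥
  have hB₀ : B₀.j.range ≤ D := range_le_of_residue D B₀ fun y hy => (hkD y).1 ((bot_le : ⊥ ≤ kD) hy)
  obtain ⟨H, -, -, hprop, hmem⟩ := exists_unramified (A := A) D
  have hle' : D ⊔ B₀.j.range ≤ H ⊔ B₀.j.range := le_sup_of_cover D H hprop B₀ fun x hx => by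
    rw [sup_eq_left.2 hB₀] at hx ⊢
    obtain ⟨E, hsE, hEX, hEl, hES, hE⟩ := exists_cover_extend hA' hD' ι hι G hG hN B₀ D (sup_eq_left.2 hB₀).symm
      (exists_residue_lift hA' hD' hle ι hι G hG hN q hpure) {x} (by simpa using hx)
    exact ⟨E, hsE (by simp), hEX, hEl, hES, hE⟩
  have hB₀H : B₀.j.range ≤ H := hprop ⊥ inferInstance B₀ fun y hy => (hkD y).1 ((bot_le : ⊥ ≤ kD) hy)
  rw [sup_eq_left.2 hB₀, sup_eq_left.2 hB₀H] at hle'
  intro x hx
  obtain ⟨F', _, B', hF', hxB⟩ := hmem x (hle' hx)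
  exact FEL_range_mono (fun y hy => by
    obtain ⟨d, hd, rfl⟩ := hF' y hy
    exact hDF ⟨d, hd⟩) B' B hxB

include hA' hD' hle hι hG in
/-- Purely inseparable residues: minimal primes with the same contraction agree. -/
theorem minimalPrimes_inj_of_pure (hN : CAlg.IsNagata A) (q : ℕ) [ExpChar (ResidueField A) q]
    (hpure : ∀ N : Ideal D', N.IsMaximal → ∀ x : D', ∃ n : ℕ, ∃ d : D, x ^ q ^ n - ι d ∈ N)
    {Q₁ Q₂ : Ideal S} (h₁ : Q₁ ∈ minimalPrimes S) (h₂ : Q₂ ∈ minimalPrimes S)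
    (h : Q₁.comap (algebraMap D S) = Q₂.comap (algebraMap D S)) : Q₁ = Q₂ := by
  classical
  have hmin : (minimalPrimes A).Finite := minimalPrimes.finite_of_isNoetherianRing A
  haveI := isReduced_frac (A := A) (S := S)
  haveI : IsReduced S := isReduced_of_injective (algebraMap S (FractionRing S)) (IsFractionRing.injective S _)
  haveI := isIntegral_normD hA' G hG
  have hex : ∀ Q ∈ minimalPrimes S, ∃ Pk : Ideal (FractionRing S), Pk.IsPrime ∧
      Pk.comap (algebraMap S (FractionRing S)) = Q := fun Q hQ => by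
    haveI := hQ.1.1
    have hd := (Ideal.disjoint_nonZeroDivisors_of_mem_minimalPrimes hQ).symm
    exact ⟨Q.map (algebraMap S (FractionRing S)), IsLocalization.isPrime_of_isPrime_disjoint _ _ Q ‹_› hd,
      IsLocalization.comap_map_of_isPrime_disjoint _ _ ‹_› hd⟩
  obtain ⟨P₁, hP₁, hQ₁⟩ := hex Q₁ h₁
  obtain ⟨P₂, hP₂, hQ₂⟩ := hex Q₂ h₂
  haveI := hP₁
  haveI := hP₂
  let p₁ := P₁.comap (muS A').toRingHom
  let p₂ := P₂.comap (muS A').toRingHom
  have hr : p₁.comap G = p₂.comap G := Ideal.ext fun x => by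
    change muS A' (G x) ∈ P₁ ↔ muS A' (G x) ∈ P₂
    rw [hG]
    obtain ⟨-, a, ha, d, hd, hxd⟩ := (hD' _).1 x.2
    have hu := isUnit_algebraMap_frac (S := S) ha
    rw [← Ideal.unit_mul_mem_iff_mem P₁ hu, ← Ideal.unit_mul_mem_iff_mem P₂ hu, hxd, ← Ideal.mem_comap, hQ₁,
      ← Ideal.mem_comap, hQ₂]
    exact SetLike.ext_iff.1 h ⟨d, hd⟩
  obtain ⟨M₁, hM₁, hp₁⟩ := Ideal.exists_le_maximal p₁ (Ideal.IsPrime.ne_top inferInstance)
  obtain ⟨M₂, hM₂, hp₂⟩ := Ideal.exists_le_maximal p₂ (Ideal.IsPrime.ne_top inferInstance)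
  haveI := hM₁
  haveI := hM₂
  haveI := isMaximal_comap_G A' hA' G M₁
  haveI := isMaximal_comap_G A' hA' G M₂
  have hN12 : M₁.comap G = M₂.comap G := eq_of_prime_le (A := A) (p₁.comap G) _ _ (Ideal.comap_mono hp₁)
    (hr.le.trans (Ideal.comap_mono hp₂))
  have hM : M₁ = M₂ := eq_of_pure hA' hle ι hι G hG q M₁ M₂ fun a => by
    obtain ⟨n, d, hd⟩ := hpure _ (isMaximal_comap_G A' hA' G M₁) (Subalgebra.inclusion hle a)
    exact ⟨n, d, hd, hN12 ▸ hd⟩
  subst hM
  haveI := h₁.1.1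
  haveI := h₂.1.1
  suffices hsub : Q₁ ≤ Q₂ from le_antisymm hsub (h₂.2 ⟨h₁.1.1, bot_le⟩ hsub)
  intro s hs
  obtain ⟨w, hw, hws⟩ := exists_mul_eq_zero_of_minimal h₁ hs
  obtain ⟨E, hsE, hEl, -, hE, -⟩ := exists_essEt_ge A S {s, w}
  haveI := hEl
  haveI := EssEtFracLib.flat_of_essEt hE
  let Φ := Algebra.TensorProduct.map (AlgHom.id A A') E.val
  have hn := isNormalRing_tensor A' hE (isNormalRing_normA A' hA' hmin)
  have hs' : Φ ((1 : A') ⊗ₜ[A] (⟨s, hsE (by simp)⟩ : E)) ∈ p₂ := by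
    refine map_mem_of_normal (A := A) (R := A' ⊗[A] E) (T := A' ⊗[A] S) Φ hn M₁ p₁ p₂ hp₁ hp₂
      (u := (1 : A') ⊗ₜ[A] (⟨w, hsE (by simp)⟩ : E)) (fun hmem => hw ?_) ?_
    · change muS A' (Φ _) ∈ P₁ at hmem
      rw [muS_map, mu_tmul, OneMemClass.coe_one, one_mul] at hmem
      exact hQ₁.le hmem
    · rw [Algebra.TensorProduct.tmul_mul_tmul, one_mul,
        show (⟨w, hsE (by simp)⟩ : E) * ⟨s, hsE (by simp)⟩ = 0 from Subtype.ext hws, TensorProduct.tmul_zero]
  change muS A' (Φ _) ∈ P₂ at hs'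
  rw [muS_map, mu_tmul, OneMemClass.coe_one, one_mul] at hs'
  exact hQ₂.le hs'

end SHSubLib
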