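import Groth.Agent.SHSubLib.Residue
import Groth.Agent.SHSubLib.Main
import Groth.Agent.S0538
import Groth.Agent.S0539
import Groth.Agent.S0540
import Mathlib

/-! Normalizations of arbitrary intermediate algebras inside the normalized strict henselization. -/

set_option autoImplicit false
set_option synthInstance.maxHeartbeats 400000
set_option maxHeartbeats 1600000

universe u

open IsLocalRing TensorProduct
open scoped nonZeroDivisors

namespace SHSubLib

section general

/-- Tensor maximal ideals extend along a faithfully flat residually algebraic extension of the second factor. -/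
theorem exists_maximal_tensor_over {A T U S : Type u} [CommRing A] [CommRing T] [CommRing U] [CommRing S]
    [Algebra A T] [Algebra A U] [Algebra A S] (i : U →ₐ[A] S)
    (hff : letI := i.toRingHom.toAlgebra; Module.FaithfullyFlat U S)
    (M : Ideal (T ⊗[A] U)) [M.IsMaximal] :
    ∃ P : Ideal (T ⊗[A] S), P.IsMaximal ∧
      P.comap (Algebra.TensorProduct.map (AlgHom.id A T) i) = M := by
  letI := i.toRingHom.toAlgebra
  haveI := hff
  haveI : IsScalarTower A U S := IsScalarTower.of_algebraMap_eq fun a => (i.commutes a).symm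
  let l := (T ⊗[A] U) ⧸ M
  let e₀ : U →ₐ[A] l := (Ideal.Quotient.mkₐ A M).comp Algebra.TensorProduct.includeRight
  letI : Algebra U l := e₀.toRingHom.toAlgebra
  haveI : IsScalarTower A U l := IsScalarTower.of_algebraMap_eq fun a => (e₀.commutes a).symm
  haveI : Nontrivial l := Ideal.Quotient.nontrivial_iff.2 (Ideal.IsMaximal.ne_top ‹_›)
  haveI : Nontrivial (S ⊗[U] l) := Module.FaithfullyFlat.lTensor_nontrivial U S l
  let iR : l →ₐ[A] S ⊗[U] l := (Algebra.TensorProduct.includeRight (R := U) (A := S) (B := l)).restrictScalars A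
  let iL : S →ₐ[A] S ⊗[U] l := (Algebra.TensorProduct.includeLeft (R := U) (S := U) (A := S) (B := l)).restrictScalars A
  let θ := Algebra.TensorProduct.productMap (R := A) (S := S ⊗[U] l)
    (iR.comp ((Ideal.Quotient.mkₐ A M).comp (Algebra.TensorProduct.includeLeft : T →ₐ[A] T ⊗[A] U))) iL
  have key : ∀ z : T ⊗[A] U, θ (Algebra.TensorProduct.map (AlgHom.id A T) i z) =
      (1 : S) ⊗ₜ[U] (Ideal.Quotient.mk M z : l) := by
    intro z
    induction z using TensorProduct.induction_on with
    | zero => rw [map_zero, map_zero, map_zero, TensorProduct.tmul_zero]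
    | add z z' hz hz' => rw [map_add, map_add, hz, hz', map_add, TensorProduct.tmul_add]
    | tmul t x =>
      rw [Algebra.TensorProduct.map_tmul, AlgHom.id_apply, Algebra.TensorProduct.productMap_apply_tmul,
        show t ⊗ₜ[A] x = (t ⊗ₜ[A] (1 : U)) * ((1 : T) ⊗ₜ[A] x) by
          rw [Algebra.TensorProduct.tmul_mul_tmul, mul_one, one_mul], map_mul]
      change ((1 : S) ⊗ₜ[U] (Ideal.Quotient.mk M (t ⊗ₜ[A] (1 : U)) : l)) * ((i x : S) ⊗ₜ[U] (1 : l)) = _
      rw [show (i x : S) = x • (1 : S) from (Algebra.algebraMap_eq_smul_one x), TensorProduct.smul_tmul,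
        Algebra.TensorProduct.tmul_mul_tmul, mul_one, Algebra.smul_def, mul_one]
      rfl
  obtain ⟨Q, hQ⟩ := Ideal.exists_maximal (S ⊗[U] l)
  haveI := hQ
  obtain ⟨P, hP, hle⟩ := Ideal.exists_le_maximal (Q.comap θ) (Ideal.comap_ne_top _ hQ.ne_top)
  refine ⟨P, hP, ((‹M.IsMaximal›).eq_of_le (Ideal.comap_ne_top _ hP.ne_top) fun z hz => hle ?_).symm⟩
  rw [Ideal.mem_comap, key, show (Ideal.Quotient.mk M z : l) = 0 from Ideal.Quotient.eq_zero_iff_mem.2 hz,
    TensorProduct.tmul_zero]
  exact Q.zero_mem

/-- Maximal ideals of an integral tensor product lie over the closed points. -/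
theorem maximal_tensor_data {A T U : Type u} [CommRing A] [IsLocalRing A] [CommRing T] [CommRing U] [IsLocalRing U]
    [Algebra A T] [Algebra A U] [IsLocalHom (algebraMap A U)] [Algebra.IsIntegral A T]
    (M : Ideal (T ⊗[A] U)) [M.IsMaximal] :
    maximalIdeal U ≤ M.comap (Algebra.TensorProduct.includeRight : U →ₐ[A] T ⊗[A] U) ∧
      maximalIdeal A ≤ M.comap (algebraMap A (T ⊗[A] U)) ∧
      Ideal.jacobson (⊥ : Ideal T) ≤ M.comap (Algebra.TensorProduct.includeLeft : T →ₐ[A] T ⊗[A] U) := by
  letI : Algebra U (T ⊗[A] U) := (Algebra.TensorProduct.includeRight : U →ₐ[A] T ⊗[A] U).toRingHom.toAlgebra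
  haveI : Algebra.IsIntegral U (T ⊗[A] U) := by
    refine ⟨fun z => ?_⟩
    induction z using TensorProduct.induction_on with
    | zero => exact isIntegral_zero
    | tmul a x =>
      rw [show a ⊗ₜ[A] x = (a ⊗ₜ[A] (1 : U)) * ((1 : T) ⊗ₜ[A] x) by
        rw [Algebra.TensorProduct.tmul_mul_tmul, mul_one, one_mul]]
      haveI : IsScalarTower A U (T ⊗[A] U) := IsScalarTower.of_algebraMap_eq fun r =>
        ((Algebra.TensorProduct.includeRight : U →ₐ[A] T ⊗[A] U).commutes r).symm
      exact (((Algebra.IsIntegral.isIntegral (R := A) a).map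
        (Algebra.TensorProduct.includeLeft : T →ₐ[A] T ⊗[A] U)).tower_top).mul isIntegral_algebraMap
    | add z z' hz hz' => exact hz.add hz'
  have h1 : M.comap (algebraMap U (T ⊗[A] U)) = maximalIdeal U :=
    IsLocalRing.eq_maximalIdeal (by exact Ideal.isMaximal_comap_of_isIntegral_of_isMaximal (R := U) (S := T ⊗[A] U) M)
  have h2 : maximalIdeal A ≤ M.comap (algebraMap A (T ⊗[A] U)) := fun a ha => by
    have h3 : algebraMap A U a ∈ maximalIdeal U := fun hu => ha (isUnit_of_map_unit (algebraMap A U) a hu)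
    rw [← h1, Ideal.mem_comap] at h3
    rw [Ideal.mem_comap, ← (Algebra.TensorProduct.includeRight : U →ₐ[A] T ⊗[A] U).commutes a]
    exact h3
  refine ⟨h1.ge, h2, ?_⟩
  haveI : (M.comap (Algebra.TensorProduct.includeLeft : T →ₐ[A] T ⊗[A] U)).IsPrime := Ideal.IsPrime.comap _
  haveI : (M.comap (Algebra.TensorProduct.includeLeft : T →ₐ[A] T ⊗[A] U)).IsMaximal := by
    refine isMaximal_of_integral_quot (A := A) _ inferInstance fun a ha => ?_
    rw [Ideal.mem_comap, Ideal.mem_comap, AlgHom.commutes]
    exact h2 ha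
  exact fun a ha => Ideal.mem_sInf.1 ha ⟨bot_le, ‹_›⟩

/-- Integrality descends to integrality over the base of a subalgebra of integral elements. -/
theorem isIntegral_of_forall_isIntegral {A D K : Type u} [CommRing A] [CommRing D] [CommRing K] [Algebra A K]
    [Algebra D K] (R : Subalgebra A K) (h : ∀ x ∈ R, IsIntegral D x) {z : K} (hz : IsIntegral R z) :
    IsIntegral D z := by
  let C := integralClosure D K
  obtain ⟨p, hp, hpz⟩ := hz
  let f : R →+* C :=
    { toFun := fun x => ⟨x, h x x.2⟩
      map_one' := rfl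
      map_mul' := fun _ _ => rfl
      map_zero' := rfl
      map_add' := fun _ _ => rfl }
  have hz' : IsIntegral C z := ⟨p.map f, hp.map f, by rw [Polynomial.eval₂_map]; exact hpz⟩
  exact isIntegral_trans z hz'

end general

variable {A S : Type u} [CommRing A] [IsLocalRing A] [IsReduced A] [CommRing S] [IsLocalRing S] [Algebra A S]
  [IsLocalHom (algebraMap A S)] [Hensel.IsStrictHenselization A S]
variable (A' : Subalgebra A (FractionRing S))

/-- The multiplication map on the whole strict henselization. -/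
noncomputable def muS : A' ⊗[A] S →ₐ[A] FractionRing S :=
  Algebra.TensorProduct.productMap A'.val (IsScalarTower.toAlgHom A S (FractionRing S))

omit [IsLocalRing A] [IsReduced A] [IsLocalRing S] [IsLocalHom (algebraMap A S)] [Hensel.IsStrictHenselization A S] in
theorem muS_tmul (a : A') (x : S) : muS A' (a ⊗ₜ x) = (a : FractionRing S) * algebraMap S (FractionRing S) x :=
  rfl

theorem muS_map (X : Subalgebra A S) (z : A' ⊗[A] X) :
    muS A' (Algebra.TensorProduct.map (AlgHom.id A A') X.val z) = mu A' X z := by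
  induction z using TensorProduct.induction_on with
  | zero => simp
  | tmul a x => rw [Algebra.TensorProduct.map_tmul, muS_tmul, mu_tmul]; rfl
  | add z z' hz hz' => rw [map_add, map_add, map_add, hz, hz']

omit [IsLocalRing A] [IsReduced A] [IsLocalRing S] [IsLocalHom (algebraMap A S)] [Hensel.IsStrictHenselization A S] in
theorem exists_finset_tensor (z : A' ⊗[A] S) : ∃ s : Finset S, ∀ X : Subalgebra A S, (s : Set S) ⊆ X →
    ∃ w : A' ⊗[A] X, Algebra.TensorProduct.map (AlgHom.id A A') X.val w = z := by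
  classical
  induction z using TensorProduct.induction_on with
  | zero => exact ⟨∅, fun X _ => ⟨0, map_zero _⟩⟩
  | tmul a x =>
    refine ⟨{x}, fun X hX => ⟨a ⊗ₜ ⟨x, hX (Finset.mem_singleton_self x)⟩, ?_⟩⟩
    rw [Algebra.TensorProduct.map_tmul]; rfl
  | add z z' hz hz' =>
    obtain ⟨s, hs⟩ := hz
    obtain ⟨t, ht⟩ := hz'
    refine ⟨s ∪ t, fun X hX => ?_⟩
    obtain ⟨w, hw⟩ := hs X fun y hy => hX (Finset.mem_union_left _ hy)
    obtain ⟨w', hw'⟩ := ht X fun y hy => hX (Finset.mem_union_right _ hy)
    exact ⟨w + w', by rw [map_add, hw, hw']⟩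

variable (hA' : ∀ x : (FractionRing S), x ∈ A' ↔ (IsIntegral A x ∧
      ∃ a ∈ nonZeroDivisors A, ∃ b : A, algebraMap A (FractionRing S) a * x = algebraMap A (FractionRing S) b))

include hA' in
theorem muS_injective : Function.Injective (muS A') := by
  refine (injective_iff_map_eq_zero _).2 fun z hz => ?_
  obtain ⟨s, hs⟩ := exists_finset_tensor A' z
  obtain ⟨E, hsE, hEl, -, hE, -⟩ := exists_essEt_ge A S s
  haveI := hEl
  haveI := EssEtFracLib.flat_of_essEt hE
  obtain ⟨w, rfl⟩ := hs E hsE
  rw [muS_map] at hz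
  rw [(injective_iff_map_eq_zero _).1 (mu_injective A' hA' E) w hz, map_zero]

variable {D : Subalgebra A S} {D' : Subalgebra A (FractionRing S)}
  (hD' : ∀ x : (FractionRing S), x ∈ D' ↔ (IsIntegral D x ∧
      ∃ a ∈ nonZeroDivisors A, ∃ d ∈ D, algebraMap A (FractionRing S) a * x = algebraMap S (FractionRing S) d))

include hA' hD' in
/-- Every element of the normalization comes from a big enough essentially etale level. -/
theorem exists_finset_range (hmin : (minimalPrimes A).Finite) (x : D') :
    ∃ s : Finset S, (s : Set S) ⊆ D ∧ ∀ (E : Subalgebra A S) [IsLocalRing E], EGA4loc.IsEssentiallyEtale A E →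
      (s : Set S) ⊆ E → (x : FractionRing S) ∈ (mu A' E).range := by
  classical
  obtain ⟨⟨p, hp, hpx⟩, a, ha, d, hd, hxd⟩ := (hD' _).1 x.2
  refine ⟨insert d ((Finset.range (p.natDegree + 1)).image fun i => (p.coeff i : S)), fun y hy => ?_,
    fun E _ hE hsE => ?_⟩
  · rcases Finset.mem_insert.1 (Finset.mem_coe.1 hy) with rfl | hy
    · exact hd
    · obtain ⟨i, -, rfl⟩ := Finset.mem_image.1 hy
      exact (p.coeff i).2
  have hcoef : ∀ i, (p.coeff i : S) ∈ E := fun i => by
    by_cases hi : i ∈ Finset.range (p.natDegree + 1)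
    · exact hsE (Finset.mem_insert_of_mem (Finset.mem_image_of_mem _ hi))
    · rw [Polynomial.coeff_eq_zero_of_natDegree_lt (by rw [Finset.mem_range] at hi; omega)]
      exact E.zero_mem
  refine (mem_range_mu_iff A' hA' hmin E hE _).2 ⟨?_, a, ha, d, hsE (Finset.mem_insert_self _ _), hxd⟩
  have hl : p.map (algebraMap D S) ∈ Polynomial.lifts (algebraMap E S) := by
    rw [Polynomial.lifts_iff_coeff_lifts]
    exact fun i => ⟨⟨_, hcoef i⟩, by rw [Polynomial.coeff_map]; rfl⟩
  obtain ⟨q, hq, -, hqm⟩ := Polynomial.lifts_and_natDegree_eq_and_monic hl (hp.map _)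
  refine ⟨q, hqm, ?_⟩
  rw [IsScalarTower.algebraMap_eq E S (FractionRing S), ← Polynomial.eval₂_map, hq, Polynomial.eval₂_map,
    ← IsScalarTower.algebraMap_eq]
  exact hpx

include hA' hD' in
/-- The normalization embeds into the normalized strict henselization. -/
theorem exists_inclS (hmin : (minimalPrimes A).Finite) :
    ∃ G : D' →ₐ[A] A' ⊗[A] S, ∀ x, muS A' (G x) = (x : FractionRing S) := by
  have hmem : ∀ x : D', (x : FractionRing S) ∈ (muS A').range := fun x => by
    obtain ⟨s, -, hs⟩ := exists_finset_range A' hA' hD' hmin x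
    obtain ⟨E, hsE, hEl, -, hE, -⟩ := exists_essEt_ge A S s
    haveI := hEl
    obtain ⟨w, hw⟩ := hs E hE hsE
    exact ⟨Algebra.TensorProduct.map (AlgHom.id A A') E.val w, (muS_map A' E w).trans hw⟩
  choose gf hgf' using hmem
  have hgf : ∀ x, muS A' (gf x) = (x : FractionRing S) := hgf'
  have hinj := muS_injective A' hA'
  refine ⟨{ toFun := gf
            map_one' := hinj (by rw [map_one, hgf 1]; rfl)
            map_mul' := fun x y => hinj (by rw [map_mul, hgf x, hgf y, hgf (x * y)]; rfl)
            map_zero' := hinj (by rw [map_zero, hgf 0]; rfl)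
            map_add' := fun x y => hinj (by rw [map_add, hgf x, hgf y, hgf (x + y)]; rfl)
            commutes' := fun a => hinj (by rw [AlgHom.commutes, hgf (algebraMap A D' a)]; rfl) }, hgf⟩

variable [IsLocalRing D] [IsLocalHom (algebraMap D S)]
variable (hle : A' ≤ D') (ι : D →ₐ[A] D')
  (hι : ∀ d : D, (ι d : (FractionRing S)) = algebraMap S (FractionRing S) d)
variable (G : D' →ₐ[A] A' ⊗[A] S) (hG : ∀ x, muS A' (G x) = (x : FractionRing S))

include hA' hG in
theorem G_inclusion (a : A') : G (Subalgebra.inclusion hle a) = a ⊗ₜ 1 :=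
  muS_injective A' hA' (by rw [hG, muS_tmul, map_one, mul_one]; rfl)

include hA' hι hG in
theorem G_iota (d : D) : G (ι d) = (1 : A') ⊗ₜ (d : S) :=
  muS_injective A' hA' (by rw [hG, hι, muS_tmul, OneMemClass.coe_one, one_mul])

omit [IsReduced A] [IsLocalRing S] [IsLocalHom (algebraMap A S)] [Hensel.IsStrictHenselization A S] in
theorem isIntegral_residue [IsLocalRing S] [IsLocalHom (algebraMap A S)] [Hensel.IsStrictHenselization A S] :
    Algebra.IsIntegral A (S ⧸ maximalIdeal S) := by
  haveI : IsSepClosure (ResidueField A) (ResidueField S) := Hensel.IsStrictHenselization.isSepClosure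
  haveI : Algebra.IsAlgebraic (ResidueField A) (ResidueField S) := inferInstance
  haveI : Algebra.IsIntegral A (ResidueField A) := Algebra.IsIntegral.of_surjective
    (IsScalarTower.toAlgHom A A (ResidueField A)) IsLocalRing.residue_surjective
  exact Algebra.IsIntegral.trans (R := A) (A := ResidueField A) (B := ResidueField S)

omit [IsLocalRing D] [IsLocalHom (algebraMap D S)] in
include hA' in
/-- Maximal ideals of the normalized strict henselization lie over the closed point. -/
theorem maximal_data (M : Ideal (A' ⊗[A] S)) [M.IsMaximal] :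
    maximalIdeal S ≤ M.comap (Algebra.TensorProduct.includeRight : S →ₐ[A] A' ⊗[A] S) ∧
      maximalIdeal A ≤ M.comap (algebraMap A (A' ⊗[A] S)) ∧
      Ideal.jacobson (⊥ : Ideal A') ≤ M.comap (Algebra.TensorProduct.includeLeft : A' →ₐ[A] A' ⊗[A] S) := by
  haveI := isIntegral_normA A' hA'
  obtain ⟨h1, h2, h3⟩ := maximal_tensor_data (A := A) (T := A') (U := S) M
  exact ⟨h1, h2, h3⟩

include hA' in
omit [IsLocalRing D] [IsLocalHom (algebraMap D S)] in
theorem isMaximal_comap_G (M : Ideal (A' ⊗[A] S)) [M.IsMaximal] : (M.comap G).IsMaximal := by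
  haveI := isIntegral_normA A' hA'
  haveI := isIntegral_residue (A := A) (S := S)
  obtain ⟨h1, h2, -⟩ := maximal_data A' hA' M
  exact (isMaximal_tensor (A := A) (T := A') (U := S) (maximalIdeal S) G M h1 h2).2

include hA' hD' hι hG in
/-- Every maximal ideal of the normalization is dominated in the normalized strict henselization. -/
theorem exists_maximal_overS
    (hsurjφ : Function.Surjective ((Ideal.Quotient.mkₐ A (Ideal.jacobson (⊥ : Ideal D'))).comp
      (Algebra.TensorProduct.productMap (Subalgebra.inclusion hle) ι)))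
    (N : Ideal D') [N.IsMaximal] : ∃ M : Ideal (A' ⊗[A] S), M.IsMaximal ∧ M.comap G = N := by
  have hND := comap_iota_maximal hD' ι hι N
  letI : Field (D' ⧸ N) := Ideal.Quotient.field N
  let Ω := AlgebraicClosure (D' ⧸ N)
  haveI : IsLocalHom (algebraMap A D) := ⟨fun a ha => isUnit_of_map_unit (algebraMap A S) a (by
    rw [IsScalarTower.algebraMap_apply A D S]; exact ha.map (algebraMap D S))⟩
  let fD : D →+* D' ⧸ N := (Ideal.Quotient.mk N).comp ι.toRingHom
  haveI : IsLocalHom fD := ⟨fun d hd => by
    by_contra hnu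
    have hd' : d ∈ maximalIdeal D := hnu
    rw [← hND] at hd'
    exact hd.ne_zero (Ideal.Quotient.eq_zero_iff_mem.2 hd')⟩
  letI : Algebra (ResidueField D) (D' ⧸ N) := (ResidueField.lift fD).toAlgebra
  haveI : IsScalarTower (ResidueField A) (ResidueField D) (ResidueField S) :=
    IsScalarTower.of_algebraMap_eq fun x => by
      obtain ⟨a, rfl⟩ := IsLocalRing.residue_surjective x
      rfl
  haveI : IsSepClosure (ResidueField A) (ResidueField S) := Hensel.IsStrictHenselization.isSepClosure
  haveI : Algebra.IsAlgebraic (ResidueField D) (ResidueField S) :=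
    Algebra.IsAlgebraic.tower_top (K := ResidueField A) (ResidueField D)
  letI : Algebra (ResidueField D) Ω := ((algebraMap (D' ⧸ N) Ω).comp (algebraMap (ResidueField D) (D' ⧸ N))).toAlgebra
  let ψ : ResidueField S →ₐ[ResidueField D] Ω := IsAlgClosed.lift
  let θ₁ : A' →ₐ[A] Ω := (IsScalarTower.toAlgHom A (D' ⧸ N) Ω).comp
    ((Ideal.Quotient.mkₐ A N).comp (Subalgebra.inclusion hle))
  have hθD : ∀ d : D, ψ (residue S (d : S)) = algebraMap (D' ⧸ N) Ω (Ideal.Quotient.mk N (ι d)) := fun d =>
    ψ.commutes (residue D d)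
  let θ₂ : S →ₐ[A] Ω :=
    { (ψ : ResidueField S →+* Ω).comp (residue S) with
      commutes' := fun a => by
        change ψ (residue S (algebraMap A S a)) = algebraMap A Ω a
        rw [show algebraMap A S a = ((algebraMap A D a : D) : S) from rfl, hθD, AlgHom.commutes,
          IsScalarTower.algebraMap_apply A (D' ⧸ N) Ω]
        rfl }
  let θ := Algebra.TensorProduct.productMap θ₁ θ₂
  obtain ⟨M, hM, hle'⟩ := Ideal.exists_le_maximal (RingHom.ker θ) (RingHom.ker_ne_top θ)
  haveI := hM
  have hgM := isMaximal_comap_G A' hA' G M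
  refine ⟨M, hM, ((‹N.IsMaximal›).eq_of_le hgM.ne_top fun x hx => ?_).symm⟩
  set φ := Algebra.TensorProduct.productMap (Subalgebra.inclusion hle) ι
  have hcompat : ∀ z : A' ⊗[A] D, θ (G (φ z)) = algebraMap (D' ⧸ N) Ω (Ideal.Quotient.mk N (φ z)) := by
    intro z
    induction z using TensorProduct.induction_on with
    | zero => simp
    | add z z' hz hz' => simp only [map_add, hz, hz']
    | tmul a d =>
      rw [Algebra.TensorProduct.productMap_apply_tmul, map_mul, map_mul, G_inclusion A' hA' hle G hG,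
        G_iota A' hA' ι hι G hG, Algebra.TensorProduct.productMap_apply_tmul,
        Algebra.TensorProduct.productMap_apply_tmul, map_one, map_one, mul_one, one_mul]
      change θ₁ a * ψ (residue S (d : S)) = _
      rw [hθD, map_mul, map_mul]
      rfl
  obtain ⟨z, hz⟩ := hsurjφ (Ideal.Quotient.mk _ x)
  have hr : x - φ z ∈ Ideal.jacobson (⊥ : Ideal D') := Ideal.Quotient.eq.1 hz.symm
  have hrM : x - φ z ∈ M.comap G := Ideal.mem_sInf.1 hr ⟨bot_le, hgM⟩
  have hrN : x - φ z ∈ N := Ideal.mem_sInf.1 hr ⟨bot_le, ‹N.IsMaximal›⟩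
  have hzN : φ z ∈ N := by simpa using N.sub_mem hx hrN
  have hzM : φ z ∈ M.comap G := hle' (by
    rw [RingHom.mem_ker, hcompat, Ideal.Quotient.eq_zero_iff_mem.2 hzN, map_zero])
  simpa using (M.comap G).add_mem hrM hzM

end SHSubLib
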