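import Groth.Prelude.Def_EssEt
import Groth.Prelude.Def_EGA4b
import Groth.Agent.NorLocLib.SmoothLocal
import Groth.Agent.HensFormalLib.NormalBCUnibranch
import Groth.Agent.GeomRedFibLib.Normal
import Groth.Agent.AlgSpLib.ReducedSmooth
import Groth.Agent.GeomRedFibLib.ClosedNormal
import Groth.Agent.NorLocLib.Normalization
import Mathlib

/-! Base change of normal and of reduced rings along essentially etale local algebras. -/

set_option autoImplicit false
set_option synthInstance.maxHeartbeats 400000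

universe u

open TensorProduct
open scoped nonZeroDivisors

namespace SHSubLib

variable {A X : Type u} [CommRing A] [IsLocalRing A] [CommRing X] [Algebra A X]
variable (B : Type u) [CommRing B] [Algebra A B]

theorem isNormalRing_tensor (hX : EGA4loc.IsEssentiallyEtale A X) (hB : EGA4.IsNormalRing B) :
    EGA4.IsNormalRing (B ⊗[A] X) := by
  obtain ⟨C, _, _, q, _, hC, -, ⟨e⟩⟩ := hX
  have h1 : EGA4.IsNormalRing (B ⊗[A] C) := NorLocLib.isNormalRing_of_smooth_general B (B ⊗[A] C) hB
  letI : Algebra (B ⊗[A] C) (B ⊗[A] Localization.AtPrime q) :=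
    (Algebra.TensorProduct.map (AlgHom.id A B) (IsScalarTower.toAlgHom A C (Localization.AtPrime q))).toAlgebra
  haveI : IsScalarTower B (B ⊗[A] C) (B ⊗[A] Localization.AtPrime q) :=
    .of_algebraMap_eq <| by intro; simp [RingHom.algebraMap_toAlgebra]
  haveI := IsLocalization.tensorProduct_tensorProduct_right A B q.primeCompl (Localization.AtPrime q)
    (by ext; simp [RingHom.algebraMap_toAlgebra])
  have h2 := HensFormalLib.isNormalRing_of_isLocalization (B ⊗[A] C) (B ⊗[A] Localization.AtPrime q)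
    (q.primeCompl.map (Algebra.TensorProduct.includeRight (R := A) (A := B))) h1
  exact GeomRedFibLib.isNormalRing_of_ringEquiv _ _
    (Algebra.TensorProduct.congr (AlgEquiv.refl : B ≃ₐ[A] B) e.symm).toRingEquiv h2

theorem isReduced_tensor (hX : EGA4loc.IsEssentiallyEtale A X) [IsReduced B] : IsReduced (B ⊗[A] X) := by
  obtain ⟨C, _, _, q, _, hC, -, ⟨e⟩⟩ := hX
  haveI : IsReduced (B ⊗[A] C) := AlgSpLib.isReduced_of_etale B (B ⊗[A] C)
  letI : Algebra (B ⊗[A] C) (B ⊗[A] Localization.AtPrime q) :=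
    (Algebra.TensorProduct.map (AlgHom.id A B) (IsScalarTower.toAlgHom A C (Localization.AtPrime q))).toAlgebra
  haveI : IsScalarTower B (B ⊗[A] C) (B ⊗[A] Localization.AtPrime q) :=
    .of_algebraMap_eq <| by intro; simp [RingHom.algebraMap_toAlgebra]
  haveI := IsLocalization.tensorProduct_tensorProduct_right A B q.primeCompl (Localization.AtPrime q)
    (by ext; simp [RingHom.algebraMap_toAlgebra])
  haveI : IsReduced (B ⊗[A] Localization.AtPrime q) := isReduced_localizationPreserves
    (q.primeCompl.map (Algebra.TensorProduct.includeRight (R := A) (A := B))) _ ‹IsReduced (B ⊗[A] C)›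
  exact isReduced_of_injective (Algebra.TensorProduct.congr (AlgEquiv.refl : B ≃ₐ[A] B) e)
    (AlgEquiv.injective _)

theorem mem_map_of_forall_mem_prime (hX : EGA4loc.IsEssentiallyEtale A X) (J : Ideal B) (hJ : J.IsRadical)
    (x : B ⊗[A] X) (h : ∀ P : Ideal (B ⊗[A] X), P.IsPrime →
      J.map (Algebra.TensorProduct.includeLeft : B →ₐ[A] B ⊗[A] X) ≤ P → x ∈ P) :
    x ∈ J.map (Algebra.TensorProduct.includeLeft : B →ₐ[A] B ⊗[A] X) := by
  haveI : IsReduced (B ⧸ J) := (Ideal.isRadical_iff_quotient_reduced J).1 hJ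
  haveI : IsReduced ((B ⧸ J) ⊗[A] X) := isReduced_tensor (B ⧸ J) hX
  let π : B ⊗[A] X →ₐ[A] (B ⧸ J) ⊗[A] X :=
    Algebra.TensorProduct.map (S := A) (Ideal.Quotient.mkₐ A J) (AlgHom.id A X)
  have hker : RingHom.ker π = J.map (Algebra.TensorProduct.includeLeft : B →ₐ[A] B ⊗[A] X) := by
    have h := Algebra.TensorProduct.rTensor_ker (R := A) (S := A) (C := X) (Ideal.Quotient.mkₐ A J)
      (Ideal.Quotient.mkₐ_surjective A J)
    rw [show RingHom.ker (Ideal.Quotient.mkₐ A J) = J from Ideal.Quotient.mkₐ_ker A J] at h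
    exact h
  rw [← hker, RingHom.mem_ker]
  refine IsReduced.eq_zero (π x) (nilpotent_iff_mem_prime.2 fun P hP => ?_)
  refine h (P.comap π) (Ideal.IsPrime.comap π) ?_
  rw [← hker]
  intro y hy
  change π y ∈ P
  rw [RingHom.mem_ker.1 hy]
  exact P.zero_mem

theorem quasiFinite_tensor (hX : EGA4loc.IsEssentiallyEtale A X) : Algebra.QuasiFinite B (B ⊗[A] X) := by
  obtain ⟨C, _, _, q, _, hC, -, ⟨e⟩⟩ := hX
  haveI : Algebra.QuasiFinite A C := inferInstance
  haveI : Algebra.QuasiFinite A (Localization.AtPrime q) := Algebra.QuasiFinite.of_isLocalization q.primeCompl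
  haveI : Algebra.QuasiFinite A X := (Algebra.QuasiFinite.iff_of_algEquiv e).2 ‹_›
  infer_instance

omit B in
/-- A normal ring is integrally closed among the fractions of its non-zero-divisors. -/
theorem exists_eq_of_isIntegralElem {R K : Type u} [CommRing R] [CommRing K] (hR : EGA4.IsNormalRing R)
    (f : R →+* K) (hf : Function.Injective f) {x : K} (hx : f.IsIntegralElem x) {n r : R} (hn : n ∈ R⁰)
    (hnu : IsUnit (f n)) (hnx : f n * x = f r) : ∃ s, f s = x := by
  classical
  let I : Ideal R :=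
    { carrier := {t | ∃ s, f t * x = f s}
      add_mem' := by
        rintro a b ⟨s, hs⟩ ⟨s', hs'⟩
        exact ⟨s + s', by rw [map_add, map_add, add_mul, hs, hs']⟩
      zero_mem' := ⟨0, by rw [map_zero, zero_mul]⟩
      smul_mem' := by
        rintro c a ⟨s, hs⟩
        exact ⟨c * s, by rw [smul_eq_mul, map_mul, map_mul, mul_assoc, hs]⟩ }
  by_cases hI : I = ⊤
  · obtain ⟨s, hs⟩ := (Ideal.eq_top_iff_one I).1 hI
    exact ⟨s, by rw [← hs, map_one, one_mul]⟩
  obtain ⟨P, hP, hIP⟩ := Ideal.exists_le_maximal I hI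
  obtain ⟨hd, hc⟩ := hR P
  let RP := Localization.AtPrime P
  let F := FractionRing RP
  haveI := hd
  haveI := hc
  let g : R →+* F := (algebraMap RP F).comp (algebraMap R RP)
  have hn0 : g n ≠ 0 := by
    intro h
    have h1 : algebraMap R RP n = 0 := IsFractionRing.injective RP F (h.trans (map_zero _).symm)
    obtain ⟨t, ht⟩ := (IsLocalization.map_eq_zero_iff P.primeCompl RP n).1 h1
    exact t.2 ((mem_nonZeroDivisors_iff_right.1 hn _ ht).symm ▸ P.zero_mem)
  obtain ⟨p, hp, hpx⟩ := hx
  have h0 : (p.scaleRoots n).eval r = 0 := by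
    apply hf
    rw [map_zero, ← Polynomial.eval₂_at_apply, ← hnx, Polynomial.scaleRoots_eval₂_mul, hpx, mul_zero]
  have hint : IsIntegral RP (g r / g n) := by
    refine ⟨p.map (algebraMap R RP), hp.map _, ?_⟩
    rw [Polynomial.eval₂_map]
    change Polynomial.eval₂ g (g r / g n) p = 0
    have h3 : Polynomial.eval₂ g (g r) (p.scaleRoots n) = 0 := by
      rw [Polynomial.eval₂_at_apply, h0, map_zero]
    rw [show g r = g n * (g r / g n) from (mul_div_cancel₀ _ hn0).symm, Polynomial.scaleRoots_eval₂_mul] at h3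
    exact (mul_eq_zero.1 h3).resolve_left (pow_ne_zero _ hn0)
  obtain ⟨z, hz⟩ := (isIntegrallyClosed_iff F).1 hc hint
  obtain ⟨s, t, rfl⟩ := IsLocalization.exists_mk'_eq P.primeCompl z
  have h4 : algebraMap R RP (s * n) = algebraMap R RP (t * r) := by
    apply IsFractionRing.injective RP F
    rw [map_mul, map_mul, map_mul (algebraMap R RP), map_mul (algebraMap RP F),
      ← IsLocalization.mk'_spec RP s t, map_mul, hz]
    change g r / g n * g t * g n = g t * g r
    rw [div_mul_eq_mul_div, div_mul_cancel₀ _ hn0, mul_comm]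
  obtain ⟨u, hu⟩ := (IsLocalization.eq_iff_exists P.primeCompl RP).1 h4
  refine absurd (hIP (⟨u * s, ?_⟩ : ((u : R) * (t : R)) ∈ I)) fun h =>
    (hP.isPrime.mem_or_mem h).elim u.2 t.2
  apply hnu.mul_left_cancel
  rw [map_mul, show f n * (f u * f t * x) = f u * f t * (f n * x) by ring, hnx, ← map_mul, ← map_mul, ← map_mul]
  exact congrArg f (by linear_combination -hu)

omit B in
/-- A ring integrally closed in a reduced Artinian ring is normal. -/
theorem isNormalRing_of_intClosed {R L : Type u} [CommRing R] [CommRing L] [IsArtinianRing L] [IsReduced L]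
    (f : R →+* L) (hf : Function.Injective f) (hcl : ∀ z, f.IsIntegralElem z → ∃ c, f c = z) :
    EGA4.IsNormalRing R := fun p _ =>
  GeomRedFibLib.normal_atPrime_of_intClosed f hf hcl
    (GeomRedFibLib.splitClosed_of_isNormalRing L (NorLocLib.isNormalRing_of_reduced_artinian L)) p

end SHSubLib
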