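import Groth.Agent.SHSubLib.Main
import Groth.Agent.SHSubLib.NormBC
import Groth.Agent.HenselBranchLib.EssEtLift
import Groth.Agent.S2747
import Mathlib

/-! Normalizations in the total ring of fractions of a strict henselization. -/

set_option autoImplicit false
set_option synthInstance.maxHeartbeats 400000

universe u

open IsLocalRing TensorProduct
open scoped nonZeroDivisors

namespace SHSubLib

variable {A S : Type u} [CommRing A] [IsLocalRing A] [CommRing S] [IsLocalRing S] [Algebra A S]
  [IsLocalHom (algebraMap A S)] [Hensel.IsStrictHenselization A S]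

omit [IsLocalRing A] [IsLocalRing S] [IsLocalHom (algebraMap A S)] [Hensel.IsStrictHenselization A S] in
theorem eq_zero_of_forall_mem_prime {Q : Type u} [CommRing Q] [IsReduced Q] {x : Q}
    (h : ∀ P : Ideal Q, P.IsPrime → x ∈ P) : x = 0 :=
  IsReduced.eq_zero x (nilpotent_iff_mem_prime.2 h)

theorem isUnit_algebraMap_frac {a : A} (ha : a ∈ A⁰) : IsUnit (algebraMap A (FractionRing S) a) := by
  haveI : Module.FaithfullyFlat A S := Groth.Agent.S0539.result A S
  have hr : IsSMulRegular A a := fun x y h => by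
    have h' : (x - y) * a = 0 := by
      simp only [smul_eq_mul] at h
      rw [sub_mul, mul_comm x, mul_comm y, h, sub_self]
    exact sub_eq_zero.1 ((mem_nonZeroDivisors_iff_right.1 ha) _ h')
  have hmem : algebraMap A S a ∈ S⁰ := by
    rw [mem_nonZeroDivisors_iff_right]
    intro x hx
    exact (hr.of_flat (S := S)) (by simpa [Algebra.smul_def, mul_comm] using hx)
  rw [IsScalarTower.algebraMap_apply A S (FractionRing S)]
  exact IsLocalization.map_units (FractionRing S) (⟨_, hmem⟩ : S⁰)

theorem isReduced_frac [IsReduced A] : IsReduced (FractionRing S) := by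
  haveI : IsReduced S := (Groth.Agent.S2747.result A S).2 inferInstance
  exact isReduced_localizationPreserves S⁰ (FractionRing S) ‹IsReduced S›

/-- The fractions of a subalgebra of an essentially etale subalgebra. -/
theorem exists_fracK [IsReduced A] (hmin : (minimalPrimes A).Finite) (E : Subalgebra A S)
    (hE : EGA4loc.IsEssentiallyEtale A E) (D : Subalgebra A S) (hDE : D ≤ E) :
    ∃ L : Subalgebra A (FractionRing S),
      (∀ x, x ∈ L ↔ ∃ a ∈ A⁰, ∃ d ∈ D, algebraMap A (FractionRing S) a * x = algebraMap S (FractionRing S) d) ∧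
        IsReduced L ∧ IsArtinianRing L := by
  let := EssEtFracLib.fracAlgebra hE
  have := EssEtFracLib.fracTower hE
  obtain ⟨L₀, hL₀, -, -, hart₀⟩ := exists_fracSub hmin hE (D.comap E.val)
  obtain ⟨hloc, -, -⟩ := EssEtFracLib.main_frac hmin hE
  haveI := hloc
  haveI := hart₀
  let f : E →ₐ[A] FractionRing S := (IsScalarTower.toAlgHom A S (FractionRing S)).comp E.val
  let ψ : FractionRing E →ₐ[A] FractionRing S := IsLocalization.liftAlgHom
    (M := A⁰.map (algebraMap A E)) (f := f) (by
      rintro ⟨_, a, ha, rfl⟩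
      rw [AlgHom.commutes]
      exact isUnit_algebraMap_frac ha)
  have hψ : ∀ e : E, ψ (algebraMap E (FractionRing E) e) = algebraMap S (FractionRing S) e := fun e =>
    IsLocalization.lift_eq _ e
  let L₁ : Subalgebra A (FractionRing E) := L₀.restrictScalars A
  haveI := isReduced_frac (A := A) (S := S)
  refine ⟨L₁.map ψ, fun x => ⟨?_, ?_⟩, isReduced_of_injective (L₁.map ψ).val Subtype.val_injective, ?_⟩
  · rintro ⟨y, hy, rfl⟩
    obtain ⟨a, ha, d, hd, h⟩ := (hL₀ y).1 hy
    refine ⟨a, ha, (d : S), hd, ?_⟩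
    change algebraMap A _ a * ψ y = _
    rw [← AlgHom.commutes ψ a, ← map_mul, h, hψ]
  · rintro ⟨a, ha, d, hd, h⟩
    obtain ⟨v, hv⟩ := (EssEtFracLib.exists_fractionMap hE a ha).exists_left_inv
    refine ⟨v * algebraMap E (FractionRing E) ⟨d, hDE hd⟩, (hL₀ _).2 ⟨a, ha, ⟨d, hDE hd⟩, hd, ?_⟩, ?_⟩
    · rw [← mul_assoc, mul_comm (algebraMap A (FractionRing E) a) v, hv, one_mul]
    · apply (isUnit_algebraMap_frac (S := S) ha).mul_left_cancel
      change algebraMap A (FractionRing S) a * ψ _ = _
      rw [h, ← AlgHom.commutes ψ a, ← map_mul, ← mul_assoc, mul_comm (algebraMap A (FractionRing E) a) v, hv,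
        one_mul, hψ]
  · let g : L₁ →ₐ[A] L₁.map ψ := (ψ.comp L₁.val).codRestrict _ fun y => ⟨y, y.2, rfl⟩
    haveI : IsArtinianRing L₁ := hart₀
    exact Function.Surjective.isArtinianRing (f := g.toRingHom) (by
      rintro ⟨_, y, hy, rfl⟩
      exact ⟨⟨y, hy⟩, rfl⟩)

variable (A' : Subalgebra A (FractionRing S))
  (hA' : ∀ x : (FractionRing S), x ∈ A' ↔ (IsIntegral A x ∧
      ∃ a ∈ nonZeroDivisors A, ∃ b : A, algebraMap A (FractionRing S) a * x = algebraMap A (FractionRing S) b))

include hA' in
theorem isIntegral_normA : Algebra.IsIntegral A A' :=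
  ⟨fun x => (isIntegral_algHom_iff A'.val Subtype.val_injective).1 ((hA' x).1 x.2).1⟩

include hA' in
theorem isNormalRing_normA [IsReduced A] (hmin : (minimalPrimes A).Finite) : EGA4.IsNormalRing A' := by
  obtain ⟨E, -, _, -, hE, -⟩ := exists_essEt_ge A S ∅
  obtain ⟨L, hL, hred, hart⟩ := exists_fracK hmin E hE ⊥ bot_le
  haveI := hred
  haveI := hart
  haveI := isIntegral_normA A' hA'
  have hle : A' ≤ L := fun x hx => by
    obtain ⟨a, ha, b, hb⟩ := ((hA' x).1 hx).2
    exact (hL x).2 ⟨a, ha, algebraMap A S b, Subalgebra.algebraMap_mem _ b,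
      hb.trans (IsScalarTower.algebraMap_apply A S (FractionRing S) b)⟩
  refine isNormalRing_of_intClosed (Subalgebra.inclusion hle).toRingHom (Subalgebra.inclusion_injective hle)
    fun z hz => ?_
  have hz' : IsIntegral A' (z : FractionRing S) := by
    obtain ⟨p, hp, hpz⟩ := hz
    refine ⟨p, hp, ?_⟩
    have h := congrArg L.val.toRingHom hpz
    rw [Polynomial.hom_eval₂, map_zero] at h
    exact h
  obtain ⟨a, ha, d, hd, had⟩ := (hL _).1 z.2
  obtain ⟨b, rfl⟩ := Algebra.mem_bot.1 hd
  refine ⟨⟨z, (hA' _).2 ⟨isIntegral_trans _ hz', a, ha, b, ?_⟩⟩, Subtype.ext rfl⟩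
  rw [had, ← IsScalarTower.algebraMap_apply]

/-- The product map of the normalization of the base and a subalgebra. -/
noncomputable def mu (X : Subalgebra A S) : A' ⊗[A] X →ₐ[A] FractionRing S :=
  Algebra.TensorProduct.productMap A'.val ((IsScalarTower.toAlgHom A S (FractionRing S)).comp X.val)

theorem mu_tmul (X : Subalgebra A S) (a : A') (x : X) :
    mu A' X (a ⊗ₜ x) = (a : FractionRing S) * algebraMap S (FractionRing S) (x : S) := rfl

include hA' in
theorem exists_smul_eq_one_tmul (X : Subalgebra A S) (z : A' ⊗[A] X) :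
    ∃ a ∈ A⁰, ∃ x : X, a • z = (1 : A') ⊗ₜ x := by
  induction z using TensorProduct.induction_on with
  | zero => exact ⟨1, A⁰.one_mem, 0, by simp⟩
  | tmul a x =>
    obtain ⟨s, hs, b, hb⟩ := ((hA' a).1 a.2).2
    refine ⟨s, hs, b • x, ?_⟩
    have h : s • a = b • (1 : A') := Subtype.ext (by
      simp only [SetLike.val_smul, Algebra.smul_def, OneMemClass.coe_one, mul_one]
      exact hb)
    rw [TensorProduct.smul_tmul', h, TensorProduct.smul_tmul]
  | add z z' hz hz' =>
    obtain ⟨a, ha, x, hx⟩ := hz
    obtain ⟨a', ha', x', hx'⟩ := hz'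
    refine ⟨a * a', A⁰.mul_mem ha ha', a' • x + a • x', ?_⟩
    rw [smul_add, mul_smul, mul_smul, smul_comm a a' z, hx, hx', TensorProduct.tmul_add,
      TensorProduct.tmul_smul, TensorProduct.tmul_smul]

theorem smul_eq_zero_of_flat {a : A} (ha : a ∈ A⁰) (X : Subalgebra A S) [Module.Flat A X] {z : A' ⊗[A] X}
    (h : a • z = 0) : z = 0 := by
  let l : A' →ₗ[A] A' := LinearMap.lsmul A A' a
  have hl : Function.Injective l := fun x y hxy => Subtype.ext ((isUnit_algebraMap_frac (S := S) ha).mul_left_cancel (by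
    have := congrArg Subtype.val hxy
    simp only [l, LinearMap.lsmul_apply, SetLike.val_smul, Algebra.smul_def] at this
    exact this))
  refine Module.Flat.rTensor_preserves_injective_linearMap (M := X) l hl ?_
  rw [map_zero, ← h]
  clear h
  induction z using TensorProduct.induction_on with
  | zero => simp
  | tmul x y => rw [LinearMap.rTensor_tmul, TensorProduct.smul_tmul']; rfl
  | add x y hx hy => rw [map_add, hx, hy, smul_add]

include hA' in
theorem mu_injective (X : Subalgebra A S) [Module.Flat A X] : Function.Injective (mu A' X) := by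
  refine (injective_iff_map_eq_zero _).2 fun z hz => ?_
  obtain ⟨a, ha, x, hx⟩ := exists_smul_eq_one_tmul A' hA' X z
  have h := congrArg (mu A' X) hx
  rw [map_smul, hz, smul_zero, mu_tmul, OneMemClass.coe_one, one_mul] at h
  have hx0 : x = 0 := Subtype.ext (IsFractionRing.injective S (FractionRing S) (h.symm.trans (map_zero _).symm))
  exact smul_eq_zero_of_flat A' ha X (by rw [hx, hx0, TensorProduct.tmul_zero])

include hA' in
/-- Normalization commutes with essentially etale extensions. -/
theorem mem_range_mu_iff [IsReduced A] (hmin : (minimalPrimes A).Finite) (X : Subalgebra A S)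
    (hX : EGA4loc.IsEssentiallyEtale A X) (x : FractionRing S) :
    x ∈ (mu A' X).range ↔ (IsIntegral X x ∧
      ∃ a ∈ A⁰, ∃ d ∈ X, algebraMap A (FractionRing S) a * x = algebraMap S (FractionRing S) d) := by
  constructor
  · rintro ⟨z, rfl⟩
    refine ⟨?_, ?_⟩
    · induction z using TensorProduct.induction_on with
      | zero => rw [map_zero]; exact isIntegral_zero
      | tmul a x => exact (((hA' a).1 a.2).1.tower_top (A := X)).mul (isIntegral_algebraMap (x := x))
      | add z z' hz hz' => rw [map_add]; exact hz.add hz'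
    · obtain ⟨a, ha, y, hy⟩ := exists_smul_eq_one_tmul A' hA' X z
      refine ⟨a, ha, y, y.2, ?_⟩
      have h := congrArg (mu A' X) hy
      rw [map_smul, mu_tmul, OneMemClass.coe_one, one_mul, Algebra.smul_def] at h
      exact h
  · rintro ⟨hint, a, ha, d, hd, had⟩
    haveI := EssEtFracLib.flat_of_essEt hX
    have hn : algebraMap A (A' ⊗[A] X) a ∈ (A' ⊗[A] X)⁰ := by
      rw [mem_nonZeroDivisors_iff_right]
      intro z hz
      exact smul_eq_zero_of_flat A' ha X ((Algebra.smul_def a z).trans ((mul_comm _ _).trans hz))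
    have hx : RingHom.IsIntegralElem (R := A' ⊗[A] X) (A := FractionRing S) (mu A' X).toRingHom x := by
      obtain ⟨p, hp, hpx⟩ := hint
      refine ⟨p.map (Algebra.TensorProduct.includeRight : X →ₐ[A] A' ⊗[A] X).toRingHom, hp.map _, ?_⟩
      rw [Polynomial.eval₂_map, show (mu A' X).toRingHom.comp
        (Algebra.TensorProduct.includeRight : X →ₐ[A] A' ⊗[A] X).toRingHom = algebraMap X (FractionRing S) from
          RingHom.ext fun y => by
            change mu A' X ((1 : A') ⊗ₜ y) = _
            rw [mu_tmul, OneMemClass.coe_one, one_mul]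
            rfl]
      exact hpx
    exact exists_eq_of_isIntegralElem (isNormalRing_tensor A' hX (isNormalRing_normA A' hA' hmin))
      (mu A' X).toRingHom (mu_injective A' hA' X) hx hn (r := (1 : A') ⊗ₜ ⟨d, hd⟩)
      (by
        change IsUnit (mu A' X (algebraMap A _ a))
        rw [AlgHom.commutes]
        exact isUnit_algebraMap_frac ha)
      (by
        change mu A' X (algebraMap A _ a) * x = mu A' X ((1 : A') ⊗ₜ ⟨d, hd⟩)
        rw [AlgHom.commutes, mu_tmul, OneMemClass.coe_one, one_mul, had])

include hA' in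
theorem finite_normA [IsReduced A] (hN : CAlg.IsNagata A) : Module.Finite A A' := by
  haveI := hN.1
  have hmin : (minimalPrimes A).Finite := minimalPrimes.finite_of_isNoetherianRing A
  obtain ⟨hart, hred⟩ := BranchLib.fractionRing_data A hmin
  haveI := hart
  haveI := hred
  have hu : ∀ s : A⁰, IsUnit (algebraMap A (FractionRing S) s) := fun s => isUnit_algebraMap_frac s.2
  let ψ : FractionRing A →ₐ[A] FractionRing S :=
    IsLocalization.liftAlgHom (M := A⁰) (f := Algebra.ofId A (FractionRing S)) hu
  have hψ : Function.Injective ψ := by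
    refine (injective_iff_map_eq_zero _).2 fun z hz => ?_
    obtain ⟨b, a, rfl⟩ := IsLocalization.exists_mk'_eq A⁰ z
    have hb : algebraMap A (FractionRing S) b = 0 := by
      rw [← AlgHom.commutes ψ, ← IsLocalization.mk'_spec (FractionRing A) b a, map_mul, hz, zero_mul]
    haveI : Module.FaithfullyFlat A S := Groth.Agent.S0539.result A S
    rw [IsScalarTower.algebraMap_apply A S (FractionRing S)] at hb
    have hb0 : b = 0 := FaithfulSMul.algebraMap_injective A S
      ((IsFractionRing.injective S (FractionRing S) (hb.trans (map_zero _).symm)).trans (map_zero _).symm)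
    rw [hb0, IsLocalization.mk'_zero]
  haveI : Module.Finite A (integralClosure A (FractionRing A)) := by
    haveI : Algebra.QuasiFinite A (FractionRing A) := Algebra.QuasiFinite.of_isLocalization A⁰
    haveI : ∀ P : PrimeSpectrum (FractionRing A), Module.Finite A (integralClosure A P.asIdeal.ResidueField) :=
      fun P => SemilocalNormLib.finite_integralClosure_residueField hN P.asIdeal
    let Φ : integralClosure A (FractionRing A) →ₐ[A]
        ∀ P : PrimeSpectrum (FractionRing A), integralClosure A P.asIdeal.ResidueField :=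
      Pi.algHom A _ fun P => ((IsScalarTower.toAlgHom A (FractionRing A) P.asIdeal.ResidueField).comp
        (integralClosure A (FractionRing A)).val).codRestrict _ fun x =>
          (x.2 : IsIntegral A x.1).map (IsScalarTower.toAlgHom A (FractionRing A) P.asIdeal.ResidueField)
    refine Module.Finite.of_injective Φ.toLinearMap ((injective_iff_map_eq_zero Φ.toLinearMap).2 fun x hx => ?_)
    refine Subtype.ext (IsReduced.eq_zero _ (nilpotent_iff_mem_prime.2 fun J hJ => ?_))
    exact Ideal.algebraMap_residueField_eq_zero.1 (congrArg Subtype.val (congr_fun hx ⟨J, hJ⟩))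
  let g : integralClosure A (FractionRing A) →ₐ[A] A' := (ψ.comp (integralClosure A (FractionRing A)).val).codRestrict A'
    fun y => (hA' _).2 ⟨(y.2 : IsIntegral A y.1).map ψ, by
      obtain ⟨b, a, hab⟩ := IsLocalization.exists_mk'_eq A⁰ (y : FractionRing A)
      refine ⟨a, a.2, b, ?_⟩
      change algebraMap A _ (a : A) * ψ y.1 = _
      rw [← AlgHom.commutes ψ (a : A), ← map_mul, ← hab, mul_comm, IsLocalization.mk'_spec, AlgHom.commutes]⟩
  refine Module.Finite.of_surjective g.toLinearMap fun x => ?_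
  obtain ⟨hx, a, ha, b, hab⟩ := (hA' _).1 x.2
  have hy : ψ (IsLocalization.mk' (FractionRing A) b ⟨a, ha⟩) = (x : FractionRing S) := by
    apply (isUnit_algebraMap_frac (S := S) ha).mul_left_cancel
    rw [hab, ← AlgHom.commutes ψ a, ← map_mul, mul_comm, IsLocalization.mk'_spec, AlgHom.commutes]
  exact ⟨⟨_, (isIntegral_algHom_iff ψ hψ).1 (hy.symm ▸ hx)⟩, Subtype.ext hy⟩

theorem isIntegral_includeRight [Algebra.IsIntegral A A'] (X : Subalgebra A S) :
    RingHom.IsIntegral (R := X) (A := A' ⊗[A] X)
      (Algebra.TensorProduct.includeRight : X →ₐ[A] A' ⊗[A] X).toRingHom := fun z => by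
  let ρ := (Algebra.TensorProduct.includeRight : X →ₐ[A] A' ⊗[A] X)
  letI : Algebra X (A' ⊗[A] X) := ρ.toRingHom.toAlgebra
  haveI : IsScalarTower A X (A' ⊗[A] X) := IsScalarTower.of_algebraMap_eq fun a => (ρ.commutes a).symm
  change IsIntegral X z
  induction z using TensorProduct.induction_on with
  | zero => exact (isIntegral_zero (R := X) (B := A' ⊗[A] X))
  | tmul a x =>
    rw [show a ⊗ₜ[A] x = (a ⊗ₜ[A] (1 : X)) * ((1 : A') ⊗ₜ[A] x) by
      rw [Algebra.TensorProduct.tmul_mul_tmul, mul_one, one_mul]]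
    obtain ⟨p, hp, hpa⟩ := Algebra.IsIntegral.isIntegral (R := A) a
    refine IsIntegral.mul (R := X) (A := A' ⊗[A] X) ⟨p.map (algebraMap A X), hp.map _, ?_⟩ isIntegral_algebraMap
    rw [Polynomial.eval₂_map, ← IsScalarTower.algebraMap_eq A X (A' ⊗[A] X)]
    have h := Polynomial.aeval_algHom_apply (Algebra.TensorProduct.includeLeft : A' →ₐ[A] A' ⊗[A] X) a p
    rw [show Polynomial.aeval a p = 0 from hpa, map_zero] at h
    exact h
  | add z z' hz hz' => exact IsIntegral.add (R := X) (A := A' ⊗[A] X) hz hz'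

include hA' in
/-- Maximal ideals of the normalized tensor product lie over the closed points. -/
theorem isMaximal_comap_includeLeft (X : Subalgebra A S) [IsLocalRing X] (hX : EGA4loc.IsEssentiallyEtale A X)
    (M : Ideal (A' ⊗[A] X)) [M.IsMaximal] :
    (M.comap (Algebra.TensorProduct.includeLeft : A' →ₐ[A] A' ⊗[A] X)).IsMaximal ∧
      M.comap (algebraMap A (A' ⊗[A] X)) = maximalIdeal A := by
  haveI := isIntegral_normA A' hA'
  let ρ := (Algebra.TensorProduct.includeRight : X →ₐ[A] A' ⊗[A] X)
  have hMX : M.comap ρ.toRingHom = maximalIdeal X := by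
    letI := ρ.toRingHom.toAlgebra
    haveI : Algebra.IsIntegral X (A' ⊗[A] X) := ⟨isIntegral_includeRight A' X⟩
    exact IsLocalRing.eq_maximalIdeal (by exact Ideal.isMaximal_comap_of_isIntegral_of_isMaximal (R := X) (S := A' ⊗[A] X) M)
  have hMA : M.comap (algebraMap A (A' ⊗[A] X)) = maximalIdeal A := by
    rw [← ρ.comp_algebraMap]
    refine (Ideal.comap_comap (f := algebraMap A X) (g := ρ.toRingHom) (I := M)).symm.trans ?_
    rw [hMX]
    refine (IsLocalRing.eq_maximalIdeal ⟨⟨?_, fun J hJ => ?_⟩⟩)
    · exact Ideal.comap_ne_top _ (maximalIdeal.isMaximal X).ne_top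
    · have h1 : maximalIdeal A ≤ (maximalIdeal X).comap (algebraMap A X) :=
        Ideal.map_le_iff_le_comap.1 (HenselBranchLib.map_maximal_of_essEt hX).le
      by_contra hJt
      exact absurd (IsLocalRing.le_maximalIdeal hJt) (fun hle => (lt_of_lt_of_le hJ hle).not_ge h1)
  refine ⟨Ideal.isMaximal_of_isIntegral_of_isMaximal_comap (R := A) _ ?_, hMA⟩
  have : (M.comap (Algebra.TensorProduct.includeLeft : A' →ₐ[A] A' ⊗[A] X)).comap (algebraMap A A') =
      maximalIdeal A := by
    rw [← hMA]
    ext a
    simp only [Ideal.mem_comap, AlgHom.commutes]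
  rw [this]
  exact maximalIdeal.isMaximal A

include hA' in
theorem jacobson_tensor [IsReduced A] (hN : CAlg.IsNagata A) (X : Subalgebra A S) [IsLocalRing X]
    (hX : EGA4loc.IsEssentiallyEtale A X) :
    Ideal.jacobson (R := A' ⊗[A] X) ⊥ =
      Ideal.map (S := A' ⊗[A] X) (Algebra.TensorProduct.includeLeft : A' →ₐ[A] A' ⊗[A] X)
        (Ideal.jacobson (⊥ : Ideal A')) := by
  classical
  haveI := hN.1
  haveI := finite_normA A' hA' hN
  haveI := isIntegral_normA A' hA'
  set T := A' ⊗[A] X
  set JA := Ideal.jacobson (⊥ : Ideal A') with hJA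
  let il : A' →ₐ[A] T := Algebra.TensorProduct.includeLeft
  apply le_antisymm
  · intro x hx
    refine mem_map_of_forall_mem_prime A' hX JA (Ideal.isRadical_jacobson _) x fun P' hP' hle' => ?_
    haveI := hP'
    have hfinM : {Q : Ideal A' | Q.IsMaximal}.Finite :=
      (Algebra.QuasiFinite.finite_primesOver (S := A') (maximalIdeal A)).subset fun Q hQ => by
        haveI : Q.IsMaximal := hQ
        exact ⟨Ideal.IsMaximal.isPrime hQ,
          ⟨(IsLocalRing.eq_maximalIdeal (Ideal.isMaximal_comap_of_isIntegral_of_isMaximal (R := A) Q)).symm⟩⟩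
    have hJP : JA ≤ P'.comap il := Ideal.map_le_iff_le_comap.1 hle'
    obtain ⟨Q, hQ, hQP⟩ : ∃ Q ∈ hfinM.toFinset, Q ≤ P'.comap il := by
      refine (Ideal.IsPrime.inf_le' (inferInstance : (P'.comap il).IsPrime)).1 (le_trans ?_ hJP)
      intro y hy
      rw [hJA]
      refine Ideal.mem_sInf.2 fun {Q} hQ => ?_
      exact (Finset.inf_le (f := id) (hfinM.mem_toFinset.2 hQ.2) : _ ≤ Q) hy
    rw [Set.Finite.mem_toFinset] at hQ
    haveI hQmax : Q.IsMaximal := hQ
    have hQA : Q.comap (algebraMap A A') = maximalIdeal A :=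
      IsLocalRing.eq_maximalIdeal (Ideal.isMaximal_comap_of_isIntegral_of_isMaximal (R := A) Q)
    let ρ := (Algebra.TensorProduct.includeRight : X →ₐ[A] T)
    have hPX : maximalIdeal X ≤ P'.comap ρ.toRingHom := by
      rw [← HenselBranchLib.map_maximal_of_essEt hX, Ideal.map_le_iff_le_comap]
      intro a ha
      have ha' : algebraMap A A' a ∈ Q := by rw [← hQA] at ha; exact ha
      have h2 : il (algebraMap A A' a) ∈ P' := hQP ha'
      rw [AlgHom.commutes] at h2
      change ρ (algebraMap A X a) ∈ P'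
      rwa [AlgHom.commutes]
    have hmax : P'.IsMaximal := by
      letI := ρ.toRingHom.toAlgebra
      haveI : Algebra.IsIntegral X T := ⟨isIntegral_includeRight A' X⟩
      refine Ideal.isMaximal_of_isIntegral_of_isMaximal_comap (R := X) P' ?_
      have : P'.comap ρ.toRingHom = maximalIdeal X :=
        le_antisymm (IsLocalRing.le_maximalIdeal (Ideal.IsPrime.comap _).ne_top) hPX
      exact (congrArg Ideal.IsMaximal this).mpr (maximalIdeal.isMaximal X)
    exact Ideal.mem_sInf.1 hx ⟨bot_le, hmax⟩
  · rw [Ideal.map_le_iff_le_comap]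
    intro y hy
    refine Ideal.mem_sInf.2 fun {M} hM => ?_
    haveI := hM.2
    exact Ideal.mem_sInf.1 (show y ∈ sInf {J : Ideal A' | ⊥ ≤ J ∧ J.IsMaximal} from hy)
      ⟨bot_le, (isMaximal_comap_includeLeft A' hA' X hX M).1⟩

include hA' in
theorem finite_maximal_tensor [IsReduced A] (hN : CAlg.IsNagata A) (X : Subalgebra A S) [IsLocalRing X]
    (hX : EGA4loc.IsEssentiallyEtale A X) : {M : Ideal (A' ⊗[A] X) | M.IsMaximal}.Finite := by
  haveI := hN.1
  haveI := finite_normA A' hA' hN
  haveI := quasiFinite_tensor A' hX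
  haveI : Algebra.QuasiFinite A (A' ⊗[A] X) := Algebra.QuasiFinite.trans A A' _
  refine (Algebra.QuasiFinite.finite_primesOver (S := A' ⊗[A] X) (maximalIdeal A)).subset fun M hM => ?_
  haveI : M.IsMaximal := hM
  exact ⟨Ideal.IsMaximal.isPrime hM, ⟨((isMaximal_comap_includeLeft A' hA' X hX M).2).symm⟩⟩

end SHSubLib
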